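import Mathlib.Algebra.Category.Ring.Under.Basic
import Mathlib.Algebra.Category.Ring.FilteredColimits
import Mathlib.CategoryTheory.Limits.Constructions.Over.Connected
import Mathlib.CategoryTheory.Limits.Types.Filtered
import Mathlib.CategoryTheory.Filtered.Connected

/-!
# Helper library (helper4): filtered colimits in `Under (CommRingCat.of A)` in concrete terms
-/

set_option autoImplicit false

universe u

open CategoryTheory CategoryTheory.Limits

namespace Groth.Agent.Lib.Helper4

variable {A : Type u} [CommRing A] {J : Type u} [SmallCategory J] [IsFiltered J]
  {D : J ⥤ Under (CommRingCat.of A)} {c : Cocone D}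

attribute [local instance] IsFiltered.isConnected in
/-- The colimit cocone of underlying types. -/
noncomputable def isColimitTypes (hc : IsColimit c) :
    IsColimit ((Under.forget (CommRingCat.of A) ⋙ forget CommRingCat).mapCocone c) := by
  have h1 : IsColimit ((Under.forget (CommRingCat.of A)).mapCocone c) :=
    isColimitOfPreserves _ hc
  have h2 := isColimitOfPreserves (forget CommRingCat) h1
  exact h2

theorem colim_jointly_surjective (hc : IsColimit c) (x : c.pt.right) :
    ∃ (j : J) (y : (D.obj j).right), (c.ι.app j).right y = x :=
  Types.jointly_surjective_of_isColimit (isColimitTypes hc) x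

theorem colim_eq_imp (hc : IsColimit c) (j : J) (y y' : (D.obj j).right)
    (h : (c.ι.app j).right y = (c.ι.app j).right y') :
    ∃ (k : J) (g : j ⟶ k), (D.map g).right y = (D.map g).right y' :=
  (Types.FilteredColimit.isColimit_eq_iff' (isColimitTypes hc) y y').mp h

end Groth.Agent.Lib.Helper4
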