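import Mathlib
import Groth.Agent.Lib.Helper4.IndColim
import Groth.Prelude.Def_PBC

/-!
# Helper library (helper4): recognizing filtered colimits in `Under (CommRingCat.of A)`, and the
factorization criterion (Stacks 07C3) for ind-objects of a class of finitely presented algebras.
-/

set_option autoImplicit false

universe u

open CategoryTheory CategoryTheory.Limits

namespace Groth.Agent.Lib.Helper4

section FC
variable {A : Type u} [CommRing A] {J : Type u} [SmallCategory J] [IsFiltered J]
  {D : J ⥤ Under (CommRingCat.of A)} {c : Cocone D}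

attribute [local instance] IsFiltered.isConnected in
/-- A cocone over a filtered diagram of rings under `A` is a colimit cocone as soon as it is so on
underlying sets (joint surjectivity + eventual injectivity). -/
noncomputable def isColimitOfSurjInj
    (hsurj : ∀ x : c.pt.right, ∃ (j : J) (y : (D.obj j).right), (c.ι.app j).right y = x)
    (hinj : ∀ (j : J) (y y' : (D.obj j).right),
      (c.ι.app j).right y = (c.ι.app j).right y' →
        ∃ (k : J) (g : j ⟶ k), (D.map g).right y = (D.map g).right y') : IsColimit c := by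
  have h1 : IsColimit ((Under.forget (CommRingCat.of A) ⋙ forget CommRingCat).mapCocone c) :=
    Types.FilteredColimit.isColimitOf' _ _
      (fun x => by
        obtain ⟨j, y, hy⟩ := hsurj x
        exact ⟨j, y, hy.symm⟩)
      (fun i x y h => by
        obtain ⟨k, g, hg⟩ := hinj i x y h
        exact ⟨k, g, hg⟩)
  have h2 : IsColimit ((forget CommRingCat).mapCocone
      ((Under.forget (CommRingCat.of A)).mapCocone c)) := h1
  have : ReflectsColimit (D ⋙ Under.forget (CommRingCat.of A)) (forget CommRingCat) :=
    reflectsColimit_of_reflectsIsomorphisms _ _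
  have h3 : IsColimit ((Under.forget (CommRingCat.of A)).mapCocone c) :=
    isColimitOfReflects (forget CommRingCat) h2
  exact isColimitOfReflects (Under.forget (CommRingCat.of A)) h3

end FC

section Criterion

variable (A : Type u) [CommRing A]

/-- A class of `A`-algebras in `Type u`. -/
abbrev AlgClass : Type (u + 1) := ∀ (E : Type u) [CommRing E] [Algebra A E], Prop

variable {A}

/-- `B` is a filtered colimit (in rings under `A`) of algebras in the class `ℰ`. -/
def IsInd (ℰ : AlgClass A) (B : Type u) [CommRing B] [Algebra A B] : Prop :=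
  ∃ (J : Type u) (_ : SmallCategory J) (_ : IsFiltered J) (D : J ⥤ Under (CommRingCat.of A))
    (c : Cocone D) (_ : IsColimit c),
    (∀ j, letI := (D.obj j).hom.hom.toAlgebra; ℰ (D.obj j).right) ∧
    Nonempty (c.pt ≅ Under.mk (CommRingCat.ofHom (algebraMap A B)))

/-- the class of étale algebras -/
def etaleClass (A : Type u) [CommRing A] : AlgClass A :=
  fun (E : Type u) [CommRing E] [Algebra A E] => Algebra.Etale A E

/-- the class of local isomorphisms -/
def localIsoClass (A : Type u) [CommRing A] : AlgClass A :=
  fun (E : Type u) [CommRing E] [Algebra A E] => Algebra.IsLocalIso A E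

theorem isIndEtale_iff (B : Type u) [CommRing B] [Algebra A B] :
    EtPBC.IsIndEtale A B ↔ IsInd (etaleClass A) B := Iff.rfl

theorem isIndZariski_iff (B : Type u) [CommRing B] [Algebra A B] :
    EtPBC.IsIndZariski A B ↔ IsInd (localIsoClass A) B := Iff.rfl

/-- every map from a finitely presented algebra to `B` factors through an algebra in `ℰ` -/
def HasFactorization (ℰ : AlgClass A) (B : Type u) [CommRing B] [Algebra A B] : Prop :=
  ∀ (P : Type u) [CommRing P] [Algebra A P] [Algebra.FinitePresentation A P] (φ : P →ₐ[A] B),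
    ∃ (E : Type u) (_ : CommRing E) (_ : Algebra A E), ℰ E ∧
      ∃ (α : P →ₐ[A] E) (β : E →ₐ[A] B), β.comp α = φ

/-- ind-objects have the factorization property (compactness of finitely presented algebras) -/
theorem IsInd.hasFactorization {ℰ : AlgClass A} {B : Type u} [CommRing B] [Algebra A B]
    (h : IsInd ℰ B) : HasFactorization ℰ B := by
  obtain ⟨J, _, _, D, c, hc, hℰ, ⟨e⟩⟩ := h
  intro P _ _ hP φ
  let X : Under (CommRingCat.of A) := Under.mk (CommRingCat.ofHom (algebraMap A P))
  have hX : IsFinitelyPresentable.{u} X :=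
    CommRingCat.isFinitelyPresentable_under (CommRingCat.of A) X
      (show (algebraMap A P).FinitePresentation from
        RingHom.finitePresentation_algebraMap.mpr hP)
  let φu : X ⟶ Under.mk (CommRingCat.ofHom (algebraMap A B)) :=
    Under.homMk (CommRingCat.ofHom φ.toRingHom) (by
      ext a
      exact φ.commutes a)
  let f : X ⟶ c.pt := φu ≫ e.inv
  obtain ⟨j, p, hp⟩ := IsFinitelyPresentable.exists_hom_of_isColimit hc f
  let _ : Algebra A (D.obj j).right := (D.obj j).hom.hom.toAlgebra
  refine ⟨(D.obj j).right, inferInstance, inferInstance, hℰ j, ?_⟩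
  let α : P →ₐ[A] (D.obj j).right :=
    { toRingHom := p.right.hom
      commutes' := fun a => congrArg (fun m => m.hom a) (Under.w p) }
  let β : (D.obj j).right →ₐ[A] B :=
    { toRingHom := (c.ι.app j ≫ e.hom).right.hom
      commutes' := fun a => congrArg (fun m => m.hom a) (Under.w (c.ι.app j ≫ e.hom)) }
  refine ⟨α, β, ?_⟩
  ext x
  have h1 : p ≫ c.ι.app j ≫ e.hom = φu := by
    rw [← Category.assoc, hp]
    change (φu ≫ e.inv) ≫ e.hom = φu
    rw [Category.assoc, e.inv_hom_id, Category.comp_id]
  exact congrArg (fun m => m.right.hom x) h1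

end Criterion

section Converse

open TensorProduct

variable {A : Type u} [CommRing A] (ℰ : AlgClass A) (B : Type u) [CommRing B] [Algebra A B]

/-- objects of the canonical category: presented algebras in `ℰ` with a map to `B` -/
structure Obj : Type u where
  /-- number of variables -/
  n : ℕ
  /-- ideal of relations -/
  I : Ideal (MvPolynomial (Fin n) A)
  /-- the quotient lies in the class -/
  mem : ℰ (MvPolynomial (Fin n) A ⧸ I)
  /-- the structure map to `B` -/
  φ : (MvPolynomial (Fin n) A ⧸ I) →ₐ[A] B

variable {ℰ B}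

/-- the underlying algebra of an object -/
abbrev Obj.Q (x : Obj ℰ B) : Type u := MvPolynomial (Fin x.n) A ⧸ x.I

noncomputable instance : Category.{u} (Obj ℰ B) where
  Hom x y := {f : x.Q →ₐ[A] y.Q // y.φ.comp f = x.φ}
  id x := ⟨AlgHom.id A _, AlgHom.comp_id _⟩
  comp f g := ⟨g.1.comp f.1, by rw [← AlgHom.comp_assoc, g.2, f.2]⟩

/-- the canonical diagram -/
noncomputable def objDiagram : Obj ℰ B ⥤ Under (CommRingCat.of A) where
  obj x := Under.mk (CommRingCat.ofHom (algebraMap A x.Q))
  map f := Under.homMk (CommRingCat.ofHom f.1.toRingHom) (by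
    ext a
    exact f.1.commutes a)

/-- the canonical cocone with point `B` -/
noncomputable def objCocone : Cocone (objDiagram (ℰ := ℰ) (B := B)) where
  pt := Under.mk (CommRingCat.ofHom (algebraMap A B))
  ι :=
    { app := fun x => Under.homMk (CommRingCat.ofHom x.φ.toRingHom) (by
        ext a
        exact x.φ.commutes a)
      naturality := fun x y f => by
        apply Under.UnderMorphism.ext
        apply CommRingCat.hom_ext
        ext a
        exact congrArg (fun m => m a) f.2 }

/-- the class is invariant under isomorphism and consists of finitely presented algebras -/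
structure AlgClass.IsGood (ℰ : AlgClass A) : Prop where
  iso : ∀ (E E' : Type u) [CommRing E] [CommRing E'] [Algebra A E] [Algebra A E'],
    (E ≃ₐ[A] E') → ℰ E → ℰ E'
  fp : ∀ (E : Type u) [CommRing E] [Algebra A E], ℰ E → Algebra.FinitePresentation A E

/-- every algebra in the class with a map to `B` is represented by an object -/
theorem exists_obj (hℰ : AlgClass.IsGood ℰ) (E : Type u) [CommRing E] [Algebra A E] (hE : ℰ E)
    (β : E →ₐ[A] B) : ∃ (z : Obj ℰ B) (e : z.Q ≃ₐ[A] E), z.φ = β.comp e.toAlgHom := by
  have := hℰ.fp E hE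
  obtain ⟨n, g, hg, -⟩ := Algebra.FinitePresentation.out (R := A) (A := E)
  let e : (MvPolynomial (Fin n) A ⧸ RingHom.ker g) ≃ₐ[A] E :=
    Ideal.quotientKerAlgEquivOfSurjective hg
  exact ⟨⟨n, RingHom.ker g, hℰ.iso _ _ e.symm hE, β.comp e.toAlgHom⟩, e, rfl⟩

theorem fp_Q (hℰ : AlgClass.IsGood ℰ) (x : Obj ℰ B) : Algebra.FinitePresentation A x.Q :=
  hℰ.fp _ x.mem

/-- the class of the variable `X i` in `x.Q` -/
noncomputable abbrev Obj.gen (x : Obj ℰ B) (i : Fin x.n) : x.Q :=
  Ideal.Quotient.mk x.I (MvPolynomial.X i)

/-- algebra maps out of `x.Q` are determined on the generators -/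
theorem Obj.algHom_ext (x : Obj ℰ B) {T : Type*} [CommRing T] [Algebra A T]
    {f g : x.Q →ₐ[A] T} (h : ∀ i, f (x.gen i) = g (x.gen i)) : f = g := by
  apply Ideal.Quotient.algHom_ext
  apply MvPolynomial.algHom_ext
  intro i
  exact h i

variable (hℰ : AlgClass.IsGood ℰ) (hfact : HasFactorization ℰ B)
include hℰ hfact

theorem isFiltered_obj : IsFiltered (Obj ℰ B) := by
  have hne : Nonempty (Obj ℰ B) := by
    obtain ⟨E, _, _, hE, -, β, -⟩ := hfact A (Algebra.ofId A B)
    obtain ⟨z, -, -⟩ := exists_obj hℰ E hE β
    exact ⟨z⟩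
  have : IsFilteredOrEmpty (Obj ℰ B) := by
    refine ⟨fun x y => ?_, fun x y f g => ?_⟩
    · have := fp_Q hℰ x
      have := fp_Q hℰ y
      have : Algebra.FinitePresentation x.Q (x.Q ⊗[A] y.Q) := inferInstance
      have : Algebra.FinitePresentation A (x.Q ⊗[A] y.Q) :=
        Algebra.FinitePresentation.trans A x.Q (x.Q ⊗[A] y.Q)
      obtain ⟨E, _, _, hE, α, β, hαβ⟩ :=
        hfact (x.Q ⊗[A] y.Q) (Algebra.TensorProduct.productMap x.φ y.φ)
      obtain ⟨z, e, hz⟩ := exists_obj hℰ E hE β
      refine ⟨z, ⟨(e.symm.toAlgHom.comp α).comp Algebra.TensorProduct.includeLeft, ?_⟩,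
        ⟨(e.symm.toAlgHom.comp α).comp Algebra.TensorProduct.includeRight, ?_⟩, trivial⟩
      · rw [hz]
        ext a
        have := congrArg (fun m => m (a ⊗ₜ 1)) hαβ
        simpa using this
      · rw [hz]
        ext a
        have := congrArg (fun m => m (1 ⊗ₜ a)) hαβ
        simpa using this
    · have := fp_Q hℰ y
      let K : Ideal y.Q := Ideal.span (Set.range fun i : Fin x.n => f.1 (x.gen i) - g.1 (x.gen i))
      have hK : K.FG := Submodule.fg_span (Set.finite_range _)
      have : Algebra.FinitePresentation A (y.Q ⧸ K) := Algebra.FinitePresentation.quotient hK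
      let φK : (y.Q ⧸ K) →ₐ[A] B := Ideal.Quotient.liftₐ K y.φ (by
        intro a ha
        induction ha using Submodule.span_induction with
        | mem a ha =>
          obtain ⟨i, rfl⟩ := ha
          rw [map_sub, sub_eq_zero]
          have h1 := congrArg (fun m => m (x.gen i)) f.2
          have h2 := congrArg (fun m => m (x.gen i)) g.2
          exact h1.trans h2.symm
        | zero => simp
        | add a b _ _ ha hb => rw [map_add, ha, hb, add_zero]
        | smul r a _ ha => rw [smul_eq_mul, map_mul, ha, mul_zero])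
      obtain ⟨E, _, _, hE, α, β, hαβ⟩ := hfact (y.Q ⧸ K) φK
      obtain ⟨z, e, hz⟩ := exists_obj hℰ E hE β
      refine ⟨z, ⟨(e.symm.toAlgHom.comp α).comp (Ideal.Quotient.mkₐ A K), ?_⟩, ?_⟩
      · rw [hz]
        ext a
        have h1 : β (α (Ideal.Quotient.mk K a)) = φK (Ideal.Quotient.mk K a) :=
          congrArg (fun m => m (Ideal.Quotient.mk K a)) hαβ
        have h2 : φK (Ideal.Quotient.mk K a) = y.φ a := rfl
        simpa using h1.trans h2
      · apply Subtype.ext
        apply x.algHom_ext
        intro i
        change e.symm (α (Ideal.Quotient.mk K (f.1 (x.gen i)))) =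
          e.symm (α (Ideal.Quotient.mk K (g.1 (x.gen i))))
        congr 2
        rw [Ideal.Quotient.eq]
        exact Ideal.subset_span ⟨i, rfl⟩
  exact { toIsFilteredOrEmpty := this, nonempty := hne }

/-- **Stacks 07C3**: the factorization property implies being an ind-object. -/
theorem isInd_of_hasFactorization : IsInd ℰ B := by
  have hfil := isFiltered_obj hℰ hfact
  refine ⟨Obj ℰ B, inferInstance, hfil, objDiagram, objCocone, ?_, ?_, ⟨Iso.refl _⟩⟩
  · apply isColimitOfSurjInj
    · intro (b : B)
      obtain ⟨E, _, _, hE, α, β, hαβ⟩ := hfact (MvPolynomial (Fin 1) A)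
        (MvPolynomial.aeval (fun _ => (b : B)))
      obtain ⟨z, e, hz⟩ := exists_obj hℰ E hE β
      refine ⟨z, e.symm (α (MvPolynomial.X 0)), ?_⟩
      change z.φ (e.symm (α (MvPolynomial.X 0))) = b
      rw [hz]
      have h1 : β (α (MvPolynomial.X 0)) =
          MvPolynomial.aeval (fun _ => (b : B)) (MvPolynomial.X (0 : Fin 1)) :=
        congrArg (fun m => m (MvPolynomial.X 0)) hαβ
      rw [MvPolynomial.aeval_X] at h1
      simpa using h1
    · intro x (a : x.Q) (a' : x.Q) haa'
      have haa'' : x.φ a = x.φ a' := haa'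
      have := fp_Q hℰ x
      let K : Ideal x.Q := Ideal.span {a - a'}
      have hK : K.FG := Submodule.fg_span (Set.finite_singleton _)
      have : Algebra.FinitePresentation A (x.Q ⧸ K) := Algebra.FinitePresentation.quotient hK
      let φK : (x.Q ⧸ K) →ₐ[A] B := Ideal.Quotient.liftₐ K x.φ (by
        intro r hr
        obtain ⟨s, rfl⟩ := Ideal.mem_span_singleton'.mp hr
        rw [map_mul, map_sub, haa'', sub_self, mul_zero])
      obtain ⟨E, _, _, hE, α, β, hαβ⟩ := hfact (x.Q ⧸ K) φK
      obtain ⟨z, e, hz⟩ := exists_obj hℰ E hE β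
      refine ⟨z, ⟨(e.symm.toAlgHom.comp α).comp (Ideal.Quotient.mkₐ A K), ?_⟩, ?_⟩
      · rw [hz]
        ext r
        have h1 : β (α (Ideal.Quotient.mk K r)) = φK (Ideal.Quotient.mk K r) :=
          congrArg (fun m => m (Ideal.Quotient.mk K r)) hαβ
        have h2 : φK (Ideal.Quotient.mk K r) = x.φ r := rfl
        simpa using h1.trans h2
      · change e.symm (α (Ideal.Quotient.mk K a)) = e.symm (α (Ideal.Quotient.mk K a'))
        congr 2
        rw [Ideal.Quotient.eq]
        exact Ideal.subset_span rfl
  · intro x
    have h := x.mem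
    have heq : ((objDiagram (ℰ := ℰ) (B := B)).obj x).hom.hom.toAlgebra =
        (inferInstance : Algebra A x.Q) := Algebra.algebra_ext _ _ (fun r => rfl)
    change @ℰ x.Q _ ((objDiagram (ℰ := ℰ) (B := B)).obj x).hom.hom.toAlgebra
    rw [heq]
    exact h

end Converse

section Etale

variable {A : Type u} [CommRing A]

theorem etaleClass_isGood : AlgClass.IsGood (etaleClass A) where
  iso E E' _ _ _ _ e hE := by
    have : Algebra.Etale A E := hE
    exact Algebra.Etale.of_equiv e
  fp E _ _ hE := by
    have : Algebra.Etale A E := hE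
    infer_instance

/-- **factorization criterion for ind-étale algebras** (Stacks 07C3) -/
theorem isIndEtale_iff_hasFactorization (B : Type u) [CommRing B] [Algebra A B] :
    EtPBC.IsIndEtale A B ↔ HasFactorization (etaleClass A) B :=
  ⟨fun h => IsInd.hasFactorization ((isIndEtale_iff B).mp h),
    fun h => (isIndEtale_iff B).mpr (isInd_of_hasFactorization etaleClass_isGood h)⟩

end Etale

end Groth.Agent.Lib.Helper4
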