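import Mathlib

/-!
# Lifting and descending étale algebras (helper4)

* `etale_prod`: binary products of étale algebras are étale.
* `exists_faithfullyFlat_prod_away`: if `E` is étale over `A` and `V(I)` lies in the image of
  `Spec E → Spec A` then `E × A_f` is faithfully flat (and étale) over `A` for some `f ∈ I`.
* `exists_algHom_of_prod_away`: an `A`-algebra map `E × A_f → T` with `f ∈ rad T` restricts to `E`.
* `exists_etale_descent`: étale algebras over `A` are dominated by étale algebras over `A₀` when
  `A₀ → A` is surjective (`hlift_of_surjective`) or a localization (`hlift_of_isLocalization`).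
-/

open Algebra MvPolynomial
universe u
namespace Groth.Agent.Lib.Helper4.EtaleLift

section Prod
variable (A E F : Type u) [CommRing A] [CommRing E] [CommRing F] [Algebra A E] [Algebra A F]

/-- the Bool-indexed family with values `E`, `F` -/
def fam : Bool → Type u
  | true => E
  | false => F

instance famCommRing : ∀ b, CommRing (fam E F b)
  | true => (inferInstance : CommRing E)
  | false => (inferInstance : CommRing F)

instance famAlgebra : ∀ b, Algebra A (fam E F b)
  | true => (inferInstance : Algebra A E)
  | false => (inferInstance : Algebra A F)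

/-- `Π b, fam b ≃ E × F` -/
def piEquivProd : (Π b, fam E F b) ≃ₐ[A] E × F where
  toFun x := (x true, x false)
  invFun p := fun b => match b with
    | true => p.1
    | false => p.2
  left_inv x := by funext b; cases b <;> rfl
  right_inv p := rfl
  map_mul' _ _ := rfl
  map_add' _ _ := rfl
  commutes' _ := rfl

theorem etale_prod [Algebra.Etale A E] [Algebra.Etale A F] : Algebra.Etale A (E × F) := by
  have : ∀ b, Algebra.Etale A (fam E F b) := fun b => by
    cases b
    · exact (inferInstance : Algebra.Etale A F)
    · exact (inferInstance : Algebra.Etale A E)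
  exact Algebra.Etale.of_equiv (piEquivProd A E F)

end Prod

theorem isOpen_range_comap (A E : Type u) [CommRing A] [CommRing E] [Algebra A E]
    [Algebra.Etale A E] : IsOpen (Set.range (PrimeSpectrum.comap (algebraMap A E))) := by
  have : Algebra.HasGoingDown A E := Algebra.HasGoingDown.of_flat
  exact (PrimeSpectrum.isOpenMap_comap_of_hasGoingDown_of_finitePresentation
    (R := A) (S := E)).isOpen_range

theorem exists_faithfullyFlat_prod_away (A E : Type u) [CommRing A] [CommRing E] [Algebra A E]
    [Algebra.Etale A E] (I : Ideal A)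
    (hI : PrimeSpectrum.zeroLocus (I : Set A) ⊆
      Set.range (PrimeSpectrum.comap (algebraMap A E))) :
    ∃ f ∈ I, Module.FaithfullyFlat A (E × Localization.Away f) := by
  have hU := isOpen_range_comap A E
  obtain ⟨J, hJ⟩ := (PrimeSpectrum.isClosed_iff_zeroLocus_ideal _).mp hU.isClosed_compl
  have hIJ : I ⊔ J = ⊤ := by
    rw [← PrimeSpectrum.zeroLocus_empty_iff_eq_top, PrimeSpectrum.zeroLocus_sup, ← hJ]
    rw [Set.eq_empty_iff_forall_notMem]
    rintro p ⟨hp1, hp2⟩
    exact hp2 (hI hp1)
  obtain ⟨f, hf, j, hj, hfj⟩ := Submodule.mem_sup.mp (hIJ ▸ Submodule.mem_top : (1 : A) ∈ I ⊔ J)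
  refine ⟨f, hf, ?_⟩
  have : Algebra.Etale A (E × Localization.Away f) := etale_prod A E _
  apply Module.FaithfullyFlat.of_comap_surjective
  intro p
  by_cases hp : p ∈ Set.range (PrimeSpectrum.comap (algebraMap A E))
  · obtain ⟨q, rfl⟩ := hp
    refine ⟨PrimeSpectrum.comap (RingHom.fst E (Localization.Away f)) q, ?_⟩
    rw [← PrimeSpectrum.comap_comp_apply]
    rfl
  · have hpJ : p ∈ PrimeSpectrum.zeroLocus (J : Set A) := by rw [← hJ]; exact hp
    have hfp : p ∈ PrimeSpectrum.basicOpen f := by
      intro hfp
      apply p.isPrime.ne_top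
      rw [Ideal.eq_top_iff_one, ← hfj]
      exact p.asIdeal.add_mem hfp (hpJ hj)
    rw [← SetLike.mem_coe, ← PrimeSpectrum.localization_away_comap_range (Localization.Away f) f] at hfp
    obtain ⟨q, rfl⟩ := hfp
    refine ⟨PrimeSpectrum.comap (RingHom.snd E (Localization.Away f)) q, ?_⟩
    rw [← PrimeSpectrum.comap_comp_apply]
    rfl


/-- An `A`-algebra map `E × A_f → T` with `f` in the Jacobson radical of `T` restricts to an
`A`-algebra map `E → T`. -/
theorem exists_algHom_of_prod_away {A E T : Type u} [CommRing A] [CommRing E] [CommRing T]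
    [Algebra A E] [Algebra A T] (f : A)
    (hf : algebraMap A T f ∈ Ideal.jacobson (⊥ : Ideal T))
    (r : (E × Localization.Away f) →ₐ[A] T) : Nonempty (E →ₐ[A] T) := by
  set e : T := r (0, 1) with he
  have hidem : e * e = e := by
    rw [he, ← map_mul]; congr 1; ext <;> simp
  have hmem : e ∈ Ideal.jacobson (⊥ : Ideal T) := by
    have h1 : ((0 : E), (1 : Localization.Away f)) =
        (0, IsLocalization.Away.invSelf f) * (f • (0, 1)) := by
      ext
      · simp
      · simp only [Prod.snd_mul, Prod.smul_snd, Algebra.smul_def, mul_one]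
        rw [mul_comm]
        exact (IsLocalization.Away.mul_invSelf f).symm
    have h2 : e = r (0, IsLocalization.Away.invSelf f) * (algebraMap A T f * e) := by
      rw [he]
      conv_lhs => rw [h1]
      rw [map_mul, map_smul, Algebra.smul_def]
    rw [h2, ← mul_assoc, mul_comm _ (algebraMap A T f), mul_assoc]
    exact Ideal.mul_mem_right _ _ hf
  have he0 : e = 0 := by
    have hu : IsUnit (e * (-1) + 1) := Ideal.mem_jacobson_bot.mp hmem (-1)
    have : e * (e * (-1) + 1) = 0 := by
      have : e * (e * (-1) + 1) = -(e * e) + e := by ring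
      rw [this, hidem]; ring
    exact (hu.mul_left_eq_zero).mp this
  refine ⟨{ toFun := fun b => r (b, 0)
            map_one' := ?_
            map_mul' := ?_
            map_zero' := ?_
            map_add' := ?_
            commutes' := ?_ }⟩
  · have : ((1 : E), (0 : Localization.Away f)) = 1 - (0, 1) := by ext <;> simp
    rw [this, map_sub, map_one, ← he, he0, sub_zero]
  · intro x y
    rw [← map_mul]; congr 1; ext <;> simp
  · have : ((0 : E), (0 : Localization.Away f)) = 0 := rfl
    rw [this, map_zero]
  · intro x y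
    rw [← map_add]; congr 1; ext <;> simp
  · intro a
    have : (algebraMap A E a, (0 : Localization.Away f)) =
        algebraMap A (E × Localization.Away f) a * (1 - (0, 1)) := by ext <;> simp
    show r (algebraMap A E a, 0) = algebraMap A T a
    rw [this, map_mul, map_sub, map_one, ← he, he0, sub_zero, mul_one, AlgHom.commutes]

section Lift
variable {A₀ A C : Type u} [CommRing A₀] [CommRing A] [CommRing C] [Algebra A₀ A] [Algebra A C]
  [Algebra A₀ C] [IsScalarTower A₀ A C]
variable {ι σ : Type} [Finite ι] [Finite σ] (P : SubmersivePresentation A C ι σ)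
variable (v : σ → MvPolynomial ι A₀)

/-- the quotient `A₀[x]/(v)` -/
abbrev Q₀ : Type u := MvPolynomial ι A₀ ⧸ Ideal.span (Set.range v)

/-- the naive presubmersive presentation of `Q₀` -/
noncomputable def pre₀ : PreSubmersivePresentation A₀ (Q₀ v) ι σ :=
  PreSubmersivePresentation.naive (v := v) P.map P.map_inj

/-- the localization of `Q₀` at the Jacobian -/
abbrev C₀ : Type u := Localization.Away (pre₀ P v).jacobian

theorem etale_C₀ (hP : P.dimension = 0) : Algebra.Etale A₀ (C₀ P v) := by
  let Q : SubmersivePresentation (Q₀ v) (C₀ P v) Unit Unit :=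
    SubmersivePresentation.localizationAway (C₀ P v) (pre₀ P v).jacobian
  let P' : SubmersivePresentation A₀ (C₀ P v) (Unit ⊕ ι) (Unit ⊕ σ) :=
    { toPreSubmersivePresentation := Q.toPreSubmersivePresentation.comp (pre₀ P v)
      jacobian_isUnit := by
        rw [PreSubmersivePresentation.comp_jacobian_eq_jacobian_smul_jacobian, Algebra.smul_def,
          IsUnit.mul_iff]
        refine ⟨?_, Q.jacobian_isUnit⟩
        exact IsLocalization.map_units _
          (⟨(pre₀ P v).jacobian, 1, by simp⟩ : Submonoid.powers (pre₀ P v).jacobian) }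
  have hdim : P'.dimension = 0 := by
    have h1 := PreSubmersivePresentation.dimension_comp_eq_dimension_add_dimension
      Q.toPreSubmersivePresentation (pre₀ P v)
    have h2 : (pre₀ P v).dimension = 0 := by
      have := hP
      simp only [Presentation.dimension] at this ⊢
      exact this
    have h3 : Q.dimension = 0 := Presentation.localizationAway_dimension_zero _
    change (Q.toPreSubmersivePresentation.comp (pre₀ P v)).dimension = 0
    rw [h1, h2]
    exact h3
  have : IsStandardSmoothOfRelativeDimension 0 A₀ (C₀ P v) :=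
    P'.isStandardSmoothOfRelativeDimension hdim
  infer_instance


variable (w : σ → A) (hw : ∀ s, IsUnit (w s))
  (hv : ∀ s, MvPolynomial.map (algebraMap A₀ A) (v s) = w s • P.relation s)

include hv in
theorem aeval_val_v (s : σ) : aeval (R := A₀) P.val (v s) = 0 := by
  rw [← MvPolynomial.aeval_map_algebraMap A, hv, map_smul, P.aeval_val_relation, smul_zero]

/-- the map `Q₀ → C` -/
noncomputable def ψ₀ : Q₀ v →ₐ[A₀] C :=
  Ideal.Quotient.liftₐ _ (aeval (R := A₀) P.val) (by
    intro a ha
    induction ha using Submodule.span_induction with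
    | mem x hx =>
      obtain ⟨s, rfl⟩ := hx
      exact aeval_val_v P v w hv s
    | zero => simp
    | add x y _ _ hx hy => rw [map_add, hx, hy, add_zero]
    | smul a x _ hx => rw [smul_eq_mul, map_mul, hx, mul_zero])

theorem ψ₀_mk (p : MvPolynomial ι A₀) :
    ψ₀ P v w hv (Ideal.Quotient.mk _ p) = aeval (R := A₀) P.val p := rfl

include hw in
theorem isUnit_ψ₀_jacobian : IsUnit (ψ₀ P v w hv (pre₀ P v).jacobian) := by
  classical
  cases nonempty_fintype σ
  rw [PreSubmersivePresentation.jacobian_eq_jacobiMatrix_det]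
  change IsUnit (ψ₀ P v w hv (Ideal.Quotient.mk _ _))
  rw [ψ₀_mk, AlgHom.map_det]
  have hM : (aeval (R := A₀) P.val).mapMatrix (pre₀ P v).jacobiMatrix =
      ((algebraMap P.Ring C).mapMatrix P.jacobiMatrix) *
        Matrix.diagonal (fun s => algebraMap A C (w s)) := by
    ext i j
    rw [Matrix.mul_diagonal]
    simp only [AlgHom.mapMatrix_apply, Matrix.map_apply, RingHom.mapMatrix_apply]
    rw [pre₀, PreSubmersivePresentation.jacobiMatrix_naive,
      PreSubmersivePresentation.jacobiMatrix_apply]
    rw [← MvPolynomial.aeval_map_algebraMap A, ← MvPolynomial.pderiv_map, hv, Derivation.map_smul,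
      map_smul, Algebra.smul_def, mul_comm, Generators.algebraMap_apply]
  rw [hM, Matrix.det_mul, Matrix.det_diagonal]
  refine IsUnit.mul ?_ ?_
  · have := P.jacobian_isUnit
    rw [PreSubmersivePresentation.jacobian_eq_jacobiMatrix_det] at this
    rwa [← RingHom.map_det]
  · rw [← map_prod]
    exact (IsUnit.map _ (IsUnit.prod_univ_iff.mpr fun s => hw s)) 

/-- the comparison map `C₀ → C` -/
noncomputable def ψ : C₀ P v →ₐ[A₀] C :=
  IsLocalization.Away.liftAlgHom (S := C₀ P v) (f := ψ₀ P v w hv) (pre₀ P v).jacobian
    (isUnit_ψ₀_jacobian P v w hw hv)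

section desc
variable {T : Type*} [CommRing T] [Algebra A T] [Algebra A₀ T] [IsScalarTower A₀ A T]
  (g : C₀ P v →ₐ[A₀] T)

/-- the images of the variables in `T` -/
noncomputable def tval : ι → T := fun i =>
  g (algebraMap (Q₀ v) (C₀ P v) (Ideal.Quotient.mk _ (X i)))

theorem aeval_tval (p : MvPolynomial ι A₀) :
    aeval (R := A₀) (tval P v g) p = g (algebraMap (Q₀ v) (C₀ P v) (Ideal.Quotient.mk _ p)) := by
  let G : MvPolynomial ι A₀ →ₐ[A₀] T :=
    (g.comp (IsScalarTower.toAlgHom A₀ (Q₀ v) (C₀ P v))).comp
      (Ideal.Quotient.mkₐ A₀ (Ideal.span (Set.range v)))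
  have := MvPolynomial.aeval_unique G
  change _ = G p
  rw [this]
  rfl

include hw hv in
theorem aeval_tval_relation (s : σ) : aeval (R := A) (tval P v g) (P.relation s) = 0 := by
  have h1 : aeval (R := A) (tval P v g) (w s • P.relation s) = 0 := by
    rw [← hv, MvPolynomial.aeval_map_algebraMap, aeval_tval]
    have : Ideal.Quotient.mk (Ideal.span (Set.range v)) (v s) = 0 :=
      Ideal.Quotient.eq_zero_iff_mem.mpr (Ideal.subset_span ⟨s, rfl⟩)
    rw [this, map_zero, map_zero]
  rw [map_smul, Algebra.smul_def] at h1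
  exact (((hw s).map (algebraMap A T)).mul_right_eq_zero).mp h1

/-- descent of maps: an `A₀`-algebra map `C₀ → T` to an `A`-algebra `T` gives an `A`-algebra map
`C → T` -/
noncomputable def desc : C →ₐ[A] T :=
  (Ideal.Quotient.liftₐ P.ker (aeval (R := A) (tval P v g)) (by
    intro a ha
    rw [← P.span_range_relation_eq_ker] at ha
    induction ha using Submodule.span_induction with
    | mem x hx =>
      obtain ⟨s, rfl⟩ := hx
      exact aeval_tval_relation P v w hw hv g s
    | zero => simp
    | add x y _ _ hx hy => rw [map_add, hx, hy, add_zero]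
    | smul a x _ hx => rw [smul_eq_mul, map_mul, hx, mul_zero])).comp
  (P.quotientEquiv.symm.restrictScalars A).toAlgHom

end desc

end Lift

/-- **Descent/lifting of étale algebras along `A₀ → A`**: if every polynomial over `A` has a unit
multiple with coefficients from `A₀`, then every étale `A`-algebra `C` is dominated by an étale
`A₀`-algebra `C₀` (comparison `C₀ → C`) such that every `A₀`-algebra map from `C₀` to an
`A`-algebra `T` induces an `A`-algebra map `C → T`. -/
theorem exists_etale_descent {A₀ A C : Type u} [CommRing A₀] [CommRing A] [CommRing C]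
    [Algebra A₀ A] [Algebra A C] [Algebra A₀ C] [IsScalarTower A₀ A C] [Algebra.Etale A C]
    (hlift : ∀ (ι : Type) [Finite ι] (p : MvPolynomial ι A), ∃ (w : A) (q : MvPolynomial ι A₀),
      IsUnit w ∧ MvPolynomial.map (algebraMap A₀ A) q = w • p) :
    ∃ (C₀ : Type u) (_ : CommRing C₀) (_ : Algebra A₀ C₀), Algebra.Etale A₀ C₀ ∧
      Nonempty (C₀ →ₐ[A₀] C) ∧
      ∀ (T : Type u) [CommRing T] [Algebra A T] [Algebra A₀ T] [IsScalarTower A₀ A T],
        (C₀ →ₐ[A₀] T) → Nonempty (C →ₐ[A] T) := by
  obtain ⟨ι, σ, _, _, P, hP⟩ :=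
    (Algebra.Etale.iff_isStandardSmoothOfRelativeDimension_zero.mp
      (inferInstance : Algebra.Etale A C)).out
  choose w v hw hv using fun s : σ => hlift ι (P.relation s)
  refine ⟨C₀ P v, inferInstance, inferInstance, etale_C₀ P v hP, ⟨ψ P v w hw hv⟩, ?_⟩
  intro T _ _ _ _ g
  exact ⟨desc P v w hw hv g⟩

/-- lifting hypothesis for a surjection -/
theorem hlift_of_surjective {A₀ A : Type u} [CommRing A₀] [CommRing A] [Algebra A₀ A]
    (h : Function.Surjective (algebraMap A₀ A)) (ι : Type) [Finite ι] (p : MvPolynomial ι A) :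
    ∃ (w : A) (q : MvPolynomial ι A₀),
      IsUnit w ∧ MvPolynomial.map (algebraMap A₀ A) q = w • p := by
  obtain ⟨q, hq⟩ := MvPolynomial.map_surjective (algebraMap A₀ A) h p
  exact ⟨1, q, isUnit_one, by rw [hq, one_smul]⟩

/-- lifting hypothesis for a localization -/
theorem hlift_of_isLocalization {A₀ A : Type u} [CommRing A₀] [CommRing A] [Algebra A₀ A]
    (S : Submonoid A₀) [IsLocalization S A] (ι : Type) [Finite ι] (p : MvPolynomial ι A) :
    ∃ (w : A) (q : MvPolynomial ι A₀),
      IsUnit w ∧ MvPolynomial.map (algebraMap A₀ A) q = w • p := by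
  obtain ⟨b, hb⟩ := IsLocalization.exist_integer_multiples_of_finset S p.coeffs
  have hmem : algebraMap A₀ A b • p ∈ Set.range (MvPolynomial.map (σ := ι) (algebraMap A₀ A)) := by
    rw [MvPolynomial.mem_range_map_iff_coeffs_subset]
    intro c hc
    rw [Finset.mem_coe, MvPolynomial.mem_coeffs_iff] at hc
    obtain ⟨m, hm, rfl⟩ := hc
    rw [MvPolynomial.coeff_smul]
    have hm' : p.coeff m ∈ p.coeffs := MvPolynomial.coeff_mem_coeffs m (by
      intro h0
      rw [MvPolynomial.mem_support_iff, MvPolynomial.coeff_smul, h0, smul_zero] at hm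
      exact hm rfl)
    obtain ⟨r, hr⟩ := hb _ hm'
    exact ⟨r, by rw [hr, Algebra.smul_def, smul_eq_mul]⟩
  obtain ⟨q, hq⟩ := hmem
  exact ⟨algebraMap A₀ A b, q, IsLocalization.map_units A b, hq⟩

end Groth.Agent.Lib.Helper4.EtaleLift
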