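import Mathlib
import Groth.Agent.Lib.Helper4.IndCriterion
import Groth.Agent.Lib.Helper4.EtaleLift

/-!
# Helper library (helper4): ind-étale algebras — cancellation and composition
-/

set_option autoImplicit false

universe u

open CategoryTheory CategoryTheory.Limits TensorProduct

namespace Groth.Agent.Lib.Helper4

section LiftPoly
variable {A : Type u} [CommRing A] {J : Type u} [SmallCategory J] [IsFiltered J]
  {D : J ⥤ Under (CommRingCat.of A)} {c : Cocone D}

/-- finitely many elements of a filtered colimit come from a common stage -/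
theorem exists_stage_of_finset (hc : IsColimit c) (s : Finset c.pt.right) :
    ∃ j : J, ∀ x ∈ s, x ∈ Set.range (c.ι.app j).right.hom := by
  classical
  induction s using Finset.induction_on with
  | empty => exact ⟨IsFiltered.nonempty.some, by simp⟩
  | insert a s _ ih =>
    obtain ⟨j, hj⟩ := ih
    obtain ⟨k, y, hy⟩ := colim_jointly_surjective hc a
    refine ⟨IsFiltered.max j k, ?_⟩
    intro x hx
    rcases Finset.mem_insert.mp hx with rfl | hx
    · refine ⟨(D.map (IsFiltered.rightToMax j k)).right.hom y, ?_⟩
      rw [← hy]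
      have := c.w (IsFiltered.rightToMax j k)
      exact congrArg (fun m => m.right.hom y) this
    · obtain ⟨z, hz⟩ := hj x hx
      refine ⟨(D.map (IsFiltered.leftToMax j k)).right.hom z, ?_⟩
      rw [← hz]
      have := c.w (IsFiltered.leftToMax j k)
      exact congrArg (fun m => m.right.hom z) this

/-- finitely many polynomials over a filtered colimit come from a common stage -/
theorem exists_stage_of_finset_mvPolynomial (hc : IsColimit c) {ι : Type*}
    (S : Finset (MvPolynomial ι c.pt.right)) :
    ∃ j : J, ∀ f ∈ S, f ∈ Set.range (MvPolynomial.map (σ := ι) (c.ι.app j).right.hom) := by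
  classical
  obtain ⟨j, hj⟩ := exists_stage_of_finset hc (S.biUnion fun f => f.coeffs)
  refine ⟨j, fun f hf => ?_⟩
  rw [MvPolynomial.mem_range_map_iff_coeffs_subset]
  intro x hx
  exact hj x (Finset.mem_biUnion.mpr ⟨f, hf, hx⟩)

end LiftPoly

section Cancel

open MvPolynomial

variable {A R B C : Type u} [CommRing A] [CommRing R] [CommRing B] [CommRing C]
    [Algebra A R] [Algebra R B] [Algebra A B] [IsScalarTower A R B]
    [Algebra B C] [Algebra A C] [IsScalarTower A B C] [Algebra R C] [IsScalarTower R B C]
    [IsScalarTower A R C]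

/-- the key step of cancellation for ind-étale maps: a `B`-algebra presented by polynomials with
coefficients from an étale `A`-algebra `R → B`, mapping to `C` (with `C` having the étale
factorization property over `A`) factors through an étale `B`-algebra. -/
theorem cancel_aux [Algebra.Etale A R] (hC : HasFactorization (etaleClass A) C)
    (n : ℕ) (S : Finset (MvPolynomial (Fin n) R)) (IB : Ideal (MvPolynomial (Fin n) B))
    (hIB : IB = Ideal.span
      ((fun f => MvPolynomial.map (algebraMap R B) f) '' (S : Set (MvPolynomial (Fin n) R))))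
    (φ : (MvPolynomial (Fin n) B ⧸ IB) →ₐ[B] C) :
    ∃ (E : Type u) (_ : CommRing E) (_ : Algebra B E), Algebra.Etale B E ∧
      ∃ (α : (MvPolynomial (Fin n) B ⧸ IB) →ₐ[B] E) (β : E →ₐ[B] C), β.comp α = φ := by
  classical
  let cval : Fin n → C := fun i => φ (Ideal.Quotient.mk IB (X i))
  -- `φ ∘ mk` is evaluation at `cval`
  have hφmk : ∀ p : MvPolynomial (Fin n) B, φ (Ideal.Quotient.mk IB p) = aeval cval p := by
    intro p
    have := MvPolynomial.aeval_unique (φ.comp (Ideal.Quotient.mkₐ B IB))
    exact congrArg (fun m => m p) this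
  -- the `R`-model
  let IR : Ideal (MvPolynomial (Fin n) R) := Ideal.span (S : Set (MvPolynomial (Fin n) R))
  have hIR : IR.FG := ⟨S, rfl⟩
  have : Algebra.FinitePresentation R (MvPolynomial (Fin n) R ⧸ IR) :=
    Algebra.FinitePresentation.quotient hIR
  have : Algebra.FinitePresentation A (MvPolynomial (Fin n) R ⧸ IR) :=
    Algebra.FinitePresentation.trans A R _
  let φR : (MvPolynomial (Fin n) R ⧸ IR) →ₐ[R] C :=
    Ideal.Quotient.liftₐ IR (aeval (R := R) cval) (by
      intro a ha
      induction ha using Submodule.span_induction with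
      | mem a ha =>
        rw [← MvPolynomial.aeval_map_algebraMap B, ← hφmk]
        have : Ideal.Quotient.mk IB (MvPolynomial.map (algebraMap R B) a) = 0 :=
          Ideal.Quotient.eq_zero_iff_mem.mpr (hIB ▸ Ideal.subset_span ⟨a, ha, rfl⟩)
        rw [this, map_zero]
      | zero => simp
      | add a b _ _ ha hb => rw [map_add, ha, hb, add_zero]
      | smul r a _ ha => rw [smul_eq_mul, map_mul, ha, mul_zero])
  obtain ⟨E, _, _, hE, α, β, hαβ⟩ := hC (MvPolynomial (Fin n) R ⧸ IR) (φR.restrictScalars A)
  have hEt : Algebra.Etale A E := hE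
  let _ : Algebra R E :=
    (α.toRingHom.comp (algebraMap R (MvPolynomial (Fin n) R ⧸ IR))).toAlgebra
  have : IsScalarTower A R E := IsScalarTower.of_algebraMap_eq (fun a => by
    change algebraMap A E a = α (algebraMap R (MvPolynomial (Fin n) R ⧸ IR) (algebraMap A R a))
    rw [← IsScalarTower.algebraMap_apply A R, α.commutes])
  have hEtR : Algebra.Etale R E := Algebra.Etale.of_restrictScalars A R E
  -- `α`, `β` as `R`-algebra maps
  let αR : (MvPolynomial (Fin n) R ⧸ IR) →ₐ[R] E :=
    { toRingHom := α.toRingHom, commutes' := fun r => rfl }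
  let βR : E →ₐ[R] C :=
    { toRingHom := β.toRingHom
      commutes' := fun r => by
        change β (α (algebraMap R (MvPolynomial (Fin n) R ⧸ IR) r)) = algebraMap R C r
        have := congrArg (fun m => m (algebraMap R (MvPolynomial (Fin n) R ⧸ IR) r)) hαβ
        exact this.trans (φR.commutes r) }
  refine ⟨B ⊗[R] E, inferInstance, inferInstance, inferInstance, ?_⟩
  let yval : Fin n → B ⊗[R] E := fun i => 1 ⊗ₜ α (Ideal.Quotient.mk IR (X i))
  have hαRmk : ∀ p : MvPolynomial (Fin n) R,
      αR (Ideal.Quotient.mk IR p) = aeval (R := R) (fun i => α (Ideal.Quotient.mk IR (X i))) p := by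
    intro p
    have := MvPolynomial.aeval_unique (αR.comp (Ideal.Quotient.mkₐ R IR))
    exact congrArg (fun m => m p) this
  let α' : (MvPolynomial (Fin n) B ⧸ IB) →ₐ[B] B ⊗[R] E :=
    Ideal.Quotient.liftₐ IB (aeval (R := B) yval) (by
      intro a ha
      rw [hIB] at ha
      induction ha using Submodule.span_induction with
      | mem a ha =>
        obtain ⟨f, hf, rfl⟩ := ha
        change aeval (R := B) yval (MvPolynomial.map (algebraMap R B) f) = 0
        rw [MvPolynomial.aeval_map_algebraMap]
        have h1 : aeval (R := R) yval f =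
            (Algebra.TensorProduct.includeRight : E →ₐ[R] B ⊗[R] E)
              (aeval (R := R) (fun i => α (Ideal.Quotient.mk IR (X i))) f) := by
          rw [MvPolynomial.comp_aeval_apply]
          rfl
        rw [h1, ← hαRmk]
        have : Ideal.Quotient.mk IR f = 0 :=
          Ideal.Quotient.eq_zero_iff_mem.mpr (Ideal.subset_span hf)
        rw [this, map_zero, map_zero]
      | zero => simp
      | add a b _ _ ha hb => rw [map_add, ha, hb, add_zero]
      | smul r a _ ha => rw [smul_eq_mul, map_mul, ha, mul_zero])
  let β' : B ⊗[R] E →ₐ[B] C :=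
    Algebra.TensorProduct.lift (Algebra.ofId B C) βR (fun _ _ => Commute.all _ _)
  refine ⟨α', β', ?_⟩
  apply Ideal.Quotient.algHom_ext
  apply MvPolynomial.algHom_ext
  intro i
  show β' (α' (Ideal.Quotient.mk IB (X i))) = φ (Ideal.Quotient.mk IB (X i))
  have h1 : α' (Ideal.Quotient.mk IB (X i)) = yval i := by
    change aeval (R := B) yval (X i) = yval i
    rw [aeval_X]
  rw [h1]
  change β' (1 ⊗ₜ α (Ideal.Quotient.mk IR (X i))) = _
  rw [Algebra.TensorProduct.lift_tmul, map_one, one_mul]
  change β (α (Ideal.Quotient.mk IR (X i))) = _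
  have h2 := congrArg (fun m => m (Ideal.Quotient.mk IR (X i))) hαβ
  refine h2.trans ?_
  change aeval (R := R) cval (X i) = _
  rw [aeval_X]

end Cancel

end Groth.Agent.Lib.Helper4
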