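import Mathlib
import Groth.Agent.Lib.Helper4.IndEtale
import Groth.Agent.S0733
import Groth.Agent.S0735

/-!
# Helper library (helper4): composition of ind-étale maps (Stacks 097H style, via the
factorization criterion)
-/

set_option autoImplicit false

universe u

open CategoryTheory CategoryTheory.Limits TensorProduct

namespace Groth.Agent.Lib.Helper4

open EtaleLift MvPolynomial

section LiftExtra
variable {A₀ A C : Type u} [CommRing A₀] [CommRing A] [CommRing C] [Algebra A₀ A] [Algebra A C]
  [Algebra A₀ C] [IsScalarTower A₀ A C]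
variable {ι σ : Type} [Finite ι] [Finite σ] (P : Algebra.SubmersivePresentation A C ι σ)
variable (v : σ → MvPolynomial ι A₀)
variable (w : σ → A) (hw : ∀ s, IsUnit (w s))
  (hv : ∀ s, MvPolynomial.map (algebraMap A₀ A) (v s) = w s • P.relation s)

/-- the generators of `C₀` -/
noncomputable def gen₀ (i : ι) : C₀ P v :=
  algebraMap (Q₀ v) (C₀ P v) (Ideal.Quotient.mk _ (X i))

theorem ψ_gen₀ (i : ι) : ψ P v w hw hv (gen₀ P v i) = P.val i := by
  unfold gen₀ ψ
  rw [IsLocalization.Away.liftAlgHom_apply, IsLocalization.Away.lift_eq]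
  change ψ₀ P v w hv (Ideal.Quotient.mk _ (X i)) = P.val i
  rw [ψ₀_mk, aeval_X]

section desc
variable {T : Type*} [CommRing T] [Algebra A T] [Algebra A₀ T] [IsScalarTower A₀ A T]
  (g : C₀ P v →ₐ[A₀] T)

theorem desc_val (i : ι) : desc P v w hw hv g (P.val i) = g (gen₀ P v i) := by
  have h1 : P.quotientEquiv.symm (P.val i) = Ideal.Quotient.mk P.ker (X i) := by
    rw [AlgEquiv.symm_apply_eq, Algebra.Presentation.quotientEquiv_mk,
      Algebra.Generators.algebraMap_apply, aeval_X]
  unfold desc
  rw [AlgHom.comp_apply]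
  change Ideal.Quotient.liftₐ P.ker (aeval (R := A) (tval P v g)) _
    (P.quotientEquiv.symm (P.val i)) = _
  rw [h1]
  change aeval (R := A) (tval P v g) (X i) = _
  rw [aeval_X]
  rfl

end desc

end LiftExtra

/-- algebra maps out of a presented algebra are determined on the generators -/
theorem generators_algHom_ext {R S : Type*} [CommRing R] [CommRing S] [Algebra R S] {ι : Type*}
    (P : Algebra.Generators R S ι) {T : Type*} [Semiring T] [Algebra R T] {f g : S →ₐ[R] T}
    (h : ∀ i, f (P.val i) = g (P.val i)) : f = g := by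
  ext x
  obtain ⟨p, rfl⟩ := P.aeval_val_surjective x
  have : f.comp (aeval P.val) = g.comp (aeval P.val) :=
    MvPolynomial.algHom_ext (fun i => by simp [h])
  exact congrArg (fun m => m p) this

section Trans

/-- étale algebras are ind-étale -/
theorem isIndEtale_of_etale (A B : Type u) [CommRing A] [CommRing B] [Algebra A B]
    [Algebra.Etale A B] : EtPBC.IsIndEtale A B := by
  rw [isIndEtale_iff_hasFactorization]
  intro P _ _ _ φ
  exact ⟨B, inferInstance, inferInstance, (inferInstance : Algebra.Etale A B), φ, AlgHom.id A B,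
    AlgHom.id_comp φ⟩

/-- the factorization property passes to retracts -/
theorem HasFactorization.of_retract {A : Type u} [CommRing A] {ℰ : AlgClass A} {E E' : Type u}
    [CommRing E] [CommRing E'] [Algebra A E] [Algebra A E'] (θ : E →ₐ[A] E') (ρ : E' →ₐ[A] E)
    (h : ρ.comp θ = AlgHom.id A E) (hE' : HasFactorization ℰ E') : HasFactorization ℰ E := by
  intro P _ _ _ φ
  obtain ⟨F, _, _, hF, α, β, hαβ⟩ := hE' P (θ.comp φ)
  refine ⟨F, inferInstance, inferInstance, hF, α, ρ.comp β, ?_⟩
  rw [AlgHom.comp_assoc, hαβ, ← AlgHom.comp_assoc, h, AlgHom.id_comp]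

/-- if `A → R` is étale and `R → E` has the étale factorization property, then so has `A → E` -/
theorem hasFactorization_of_etale_of_hasFactorization (A R E : Type u) [CommRing A] [CommRing R]
    [CommRing E] [Algebra A R] [Algebra R E] [Algebra A E] [IsScalarTower A R E]
    [Algebra.Etale A R] (h : HasFactorization (etaleClass R) E) :
    HasFactorization (etaleClass A) E := by
  intro P _ _ _ φ
  let φ' : R ⊗[A] P →ₐ[R] E :=
    Algebra.TensorProduct.lift (Algebra.ofId R E) φ (fun _ _ => Commute.all _ _)
  obtain ⟨F, _, _, hF, α, β, hαβ⟩ := h (R ⊗[A] P) φ'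
  have hF' : Algebra.Etale R F := hF
  let _ : Algebra A F := ((algebraMap R F).comp (algebraMap A R)).toAlgebra
  have : IsScalarTower A R F := IsScalarTower.of_algebraMap_eq (fun _ => rfl)
  have hAF : Algebra.Etale A F := Algebra.Etale.comp A R F
  refine ⟨F, inferInstance, inferInstance, hAF,
    (α.restrictScalars A).comp Algebra.TensorProduct.includeRight, β.restrictScalars A, ?_⟩
  ext x
  have := congrArg (fun m => m (1 ⊗ₜ x)) hαβ
  simpa [φ'] using this

attribute [local instance] Algebra.TensorProduct.rightAlgebra in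
/-- an étale algebra over an ind-étale `A`-algebra has the étale factorization property
over `A` -/
theorem hasFactorization_of_isIndEtale_of_etale (A B E : Type u) [CommRing A] [CommRing B]
    [CommRing E] [Algebra A B] [Algebra B E] [Algebra A E] [IsScalarTower A B E]
    (hAB : EtPBC.IsIndEtale A B) [Algebra.Etale B E] : HasFactorization (etaleClass A) E := by
  classical
  have hAB' := hAB
  obtain ⟨J, _, _, D, c, hc, hEt, ⟨e⟩⟩ := hAB
  let c' : Cocone D :=
    { pt := Under.mk (CommRingCat.ofHom (algebraMap A B))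
      ι := c.ι ≫ (Functor.const J).map e.hom }
  have hc' : IsColimit c' := IsColimit.ofIsoColimit hc (Cocone.ext e (fun j => rfl))
  obtain ⟨ι, σ, _, _, P, hP⟩ :=
    (Algebra.Etale.iff_isStandardSmoothOfRelativeDimension_zero.mp
      (inferInstance : Algebra.Etale B E)).out
  cases nonempty_fintype σ
  obtain ⟨j, hj⟩ := exists_stage_of_finset_mvPolynomial hc' (ι := ι)
    (Finset.univ.image P.relation)
  let _ : Algebra A (D.obj j).right := (D.obj j).hom.hom.toAlgebra
  have hEtj : Algebra.Etale A (D.obj j).right := hEt j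
  let ιR : (D.obj j).right →+* B := (c'.ι.app j).right.hom
  let _ : Algebra (D.obj j).right B := ιR.toAlgebra
  have hιA : ∀ a : A, ιR (algebraMap A (D.obj j).right a) = algebraMap A B a := fun a =>
    congrArg (fun m => m.hom a) (Under.w (c'.ι.app j))
  have : IsScalarTower A (D.obj j).right B :=
    IsScalarTower.of_algebraMap_eq (fun a => (hιA a).symm)
  let _ : Algebra (D.obj j).right E := ((algebraMap B E).comp ιR).toAlgebra
  have : IsScalarTower (D.obj j).right B E := IsScalarTower.of_algebraMap_eq (fun _ => rfl)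
  have : IsScalarTower A (D.obj j).right E := IsScalarTower.of_algebraMap_eq (fun a => by
    change algebraMap A E a = algebraMap B E (ιR (algebraMap A (D.obj j).right a))
    rw [hιA, ← IsScalarTower.algebraMap_apply])
  choose v hv using fun s => hj (P.relation s) (Finset.mem_image_of_mem _ (Finset.mem_univ s))
  have hv' : ∀ s, MvPolynomial.map (algebraMap (D.obj j).right B) (v s) =
      (fun _ => (1 : B)) s • P.relation s := fun s => by
    rw [one_smul]; exact hv s
  have hw : ∀ s : σ, IsUnit ((fun _ => (1 : B)) s) := fun _ => isUnit_one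
  have hC₀ : Algebra.Etale (D.obj j).right (C₀ P v) := etale_C₀ P v hP
  have hRB : EtPBC.IsIndEtale (D.obj j).right B :=
    Groth.Agent.S0735.result A (D.obj j).right B (isIndEtale_of_etale A (D.obj j).right) hAB'
  have hbc : EtPBC.IsIndEtale (C₀ P v) (C₀ P v ⊗[(D.obj j).right] B) :=
    Groth.Agent.S0733.result (D.obj j).right B (C₀ P v) hRB
  have : IsScalarTower A (D.obj j).right (C₀ P v) := inferInstance
  have hAC₀ : Algebra.Etale A (C₀ P v) := Algebra.Etale.comp A (D.obj j).right _
  have : IsScalarTower A (C₀ P v) (C₀ P v ⊗[(D.obj j).right] B) := inferInstance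
  have h1 : HasFactorization (etaleClass A) (C₀ P v ⊗[(D.obj j).right] B) :=
    hasFactorization_of_etale_of_hasFactorization A (C₀ P v) _
      ((isIndEtale_iff_hasFactorization _).mp hbc)
  have : IsScalarTower A B (C₀ P v ⊗[(D.obj j).right] B) :=
    IsScalarTower.of_algebraMap_eq (fun a => by
      rw [IsScalarTower.algebraMap_apply A (D.obj j).right (C₀ P v ⊗[(D.obj j).right] B),
        IsScalarTower.algebraMap_apply (D.obj j).right B (C₀ P v ⊗[(D.obj j).right] B),
        ← IsScalarTower.algebraMap_apply A (D.obj j).right B])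
  -- the retraction
  let g : C₀ P v →ₐ[(D.obj j).right] C₀ P v ⊗[(D.obj j).right] B :=
    Algebra.TensorProduct.includeLeft
  let θ : E →ₐ[B] C₀ P v ⊗[(D.obj j).right] B := desc P v (fun _ => (1 : B)) hw hv' g
  let ρ₀ : C₀ P v ⊗[(D.obj j).right] B →ₐ[(D.obj j).right] E :=
    Algebra.TensorProduct.lift (ψ P v (fun _ => (1 : B)) hw hv')
      (IsScalarTower.toAlgHom (D.obj j).right B E) (fun _ _ => Commute.all _ _)
  let ρ : C₀ P v ⊗[(D.obj j).right] B →ₐ[B] E :=
    { toRingHom := ρ₀.toRingHom
      commutes' := fun b => by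
        change ρ₀ (1 ⊗ₜ b) = _
        simp [ρ₀] }
  have hρθ : ρ.comp θ = AlgHom.id B E := by
    apply generators_algHom_ext P.toGenerators
    intro i
    change ρ₀ (θ (P.val i)) = P.val i
    rw [desc_val]
    change ρ₀ (gen₀ P v i ⊗ₜ 1) = _
    simp only [ρ₀, Algebra.TensorProduct.lift_tmul, map_one, mul_one]
    exact ψ_gen₀ P v _ hw hv' i
  refine HasFactorization.of_retract (θ.restrictScalars A) (ρ.restrictScalars A) ?_ h1
  ext x
  exact congrArg (fun m => m x) hρθ

/-- **Composition of ind-étale maps**, in the factorization form. -/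
theorem hasFactorization_trans (A B C : Type u) [CommRing A] [CommRing B] [CommRing C]
    [Algebra A B] [Algebra B C] [Algebra A C] [IsScalarTower A B C]
    (hAB : EtPBC.IsIndEtale A B) (hBC : HasFactorization (etaleClass B) C) :
    HasFactorization (etaleClass A) C := by
  intro P _ _ _ φ
  let φ' : B ⊗[A] P →ₐ[B] C :=
    Algebra.TensorProduct.lift (Algebra.ofId B C) φ (fun _ _ => Commute.all _ _)
  obtain ⟨E, _, _, hE, α, β, hαβ⟩ := hBC (B ⊗[A] P) φ'
  have hE' : Algebra.Etale B E := hE
  let _ : Algebra A E := ((algebraMap B E).comp (algebraMap A B)).toAlgebra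
  have : IsScalarTower A B E := IsScalarTower.of_algebraMap_eq (fun _ => rfl)
  obtain ⟨F, _, _, hF, α', β', hαβ'⟩ := hasFactorization_of_isIndEtale_of_etale A B E hAB P
    ((α.restrictScalars A).comp Algebra.TensorProduct.includeRight)
  refine ⟨F, inferInstance, inferInstance, hF, α', (β.restrictScalars A).comp β', ?_⟩
  rw [AlgHom.comp_assoc, hαβ']
  ext x
  have := congrArg (fun m => m (1 ⊗ₜ x)) hαβ
  simpa [φ'] using this

end Trans

end Groth.Agent.Lib.Helper4
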