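import Mathlib.RingTheory.Flat.EquationalCriterion
import Mathlib.RingTheory.Etale.Weakly
import Mathlib.CategoryTheory.Filtered.Basic

/-!
# Helper library (helper4): flatness and weak étaleness pass to filtered colimits

Everything is stated in concrete terms: a filtered index category `J`, a family of algebras
`Dj j` with transition maps, compatible maps to `B`, jointly surjective, and such that two elements
of a stage with the same image in `B` become equal at a later stage.
-/

set_option autoImplicit false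

universe u v w v' w'

open CategoryTheory TensorProduct

namespace Groth.Agent.Lib.Helper4

/-- Flatness transfers along approximations (equational criterion): if every relation in `M` can be
lifted to a relation in a flat module `M'` over some ring `R'` mapping semilinearly to `M`, then
`M` is flat. -/
theorem flat_of_approx {R : Type v} {M : Type w} [CommRing R] [AddCommGroup M] [Module R M]
    (H : ∀ {l : ℕ} (f : Fin l → R) (x : Fin l → M), ∑ i, f i • x i = 0 →
      ∃ (R' : Type v') (M' : Type w') (_ : CommRing R') (_ : AddCommGroup M') (_ : Module R' M')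
        (_ : Module.Flat R' M') (φ : R' →+* R) (ψ : M' →+ M) (_ : ∀ r m, ψ (r • m) = φ r • ψ m)
        (f' : Fin l → R') (x' : Fin l → M'),
        (∀ i, φ (f' i) = f i) ∧ (∀ i, ψ (x' i) = x i) ∧ ∑ i, f' i • x' i = 0) :
    Module.Flat R M := by
  refine Module.Flat.of_forall_isTrivialRelation fun {l f x} h => ?_
  obtain ⟨R', M', _, _, _, _, φ, ψ, hψ, f', x', hf', hx', hrel⟩ := H f x h
  obtain ⟨k, a, y, hxy, hfa⟩ := Module.Flat.isTrivialRelation_of_sum_smul_eq_zero hrel
  refine ⟨k, fun i j => φ (a i j), fun j => ψ (y j), fun i => ?_, fun j => ?_⟩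
  · rw [← hx' i, hxy i, map_sum]
    exact Finset.sum_congr rfl fun j _ => hψ _ _
  · have := congrArg φ (hfa j)
    rw [map_sum, map_zero] at this
    rw [← this]
    exact Finset.sum_congr rfl fun i _ => by rw [map_mul, hf' i]

section System

variable {J : Type v} [Category.{w} J] [IsFiltered J]

/-- In a filtered system with jointly surjective maps to `X`, finitely many elements of `X` lift
to a common stage. -/
theorem exists_common_lift {X : Type*} {P : J → Type*} (t : ∀ {j k : J}, (j ⟶ k) → P j → P k)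
    (ψ : ∀ j, P j → X) (hψ : ∀ {j k : J} (g : j ⟶ k) (y : P j), ψ k (t g y) = ψ j y)
    (hsurj : ∀ x, ∃ j y, ψ j y = x) {l : ℕ} (x : Fin l → X) :
    ∃ (j : J) (x' : Fin l → P j), ∀ i, ψ j (x' i) = x i := by
  classical
  choose j y hy using fun i => hsurj (x i)
  obtain ⟨S, hS⟩ := IsFiltered.sup_objs_exists (Finset.univ.image j)
  have g : ∀ i, j i ⟶ S := fun i => (hS (Finset.mem_image_of_mem j (Finset.mem_univ i))).some
  exact ⟨S, fun i => t (g i) (y i), fun i => by rw [hψ, hy]⟩

variable {A : Type u} {B : Type u} [CommRing A] [CommRing B] [Algebra A B]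
  (Dj : J → Type u) [∀ j, CommRing (Dj j)] [∀ j, Algebra A (Dj j)]
  (t : ∀ {j k : J}, (j ⟶ k) → (Dj j →ₐ[A] Dj k))
  (ψ : ∀ j, Dj j →ₐ[A] B)
  (hψ : ∀ {j k : J} (g : j ⟶ k), (ψ k).comp (t g) = ψ j)
  (hsurj : ∀ b : B, ∃ j y, ψ j y = b)
  (hinj : ∀ (j : J) (y y' : Dj j), ψ j y = ψ j y' → ∃ (k : J) (g : j ⟶ k), t g y = t g y')

include hψ hsurj hinj in
/-- A filtered colimit of flat algebras is flat. -/
theorem flat_of_filtered [∀ j, Module.Flat A (Dj j)] : Module.Flat A B := by
  have hψ' : ∀ {j k : J} (g : j ⟶ k) (y : Dj j), ψ k (t g y) = ψ j y := fun g y => by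
    rw [← hψ g]; rfl
  refine flat_of_approx.{u, u, u, u} fun {l} f x h => ?_
  obtain ⟨j, x', hx'⟩ := exists_common_lift (fun g => t g) (fun j => ψ j) hψ' hsurj x
  have hz : ψ j (∑ i, f i • x' i) = ψ j 0 := by
    rw [map_sum, map_zero, ← h]
    exact Finset.sum_congr rfl fun i _ => by rw [map_smul, hx']
  obtain ⟨k, g, hk⟩ := hinj j _ _ hz
  refine ⟨A, Dj k, inferInstance, inferInstance, inferInstance, inferInstance, RingHom.id A,
    (ψ k : Dj k →+ B), fun r m => by simp, f, fun i => t g (x' i), fun i => rfl,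
    fun i => by simp [hψ', hx'], ?_⟩
  rw [map_sum, map_zero] at hk
  rw [← hk]
  exact Finset.sum_congr rfl fun i _ => by rw [map_smul]

omit [IsFiltered J] in
theorem lmul'_map {S T : Type*} [CommRing S] [CommRing T] [Algebra A S] [Algebra A T]
    (φ : S →ₐ[A] T) (r : S ⊗[A] S) :
    Algebra.TensorProduct.lmul' A (S := T) (Algebra.TensorProduct.map φ φ r) =
      φ (Algebra.TensorProduct.lmul' A (S := S) r) := by
  have : (Algebra.TensorProduct.lmul' A (S := T)).comp (Algebra.TensorProduct.map φ φ) =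
      φ.comp (Algebra.TensorProduct.lmul' A (S := S)) := by
    ext <;> simp
  exact congrArg (fun F => F r) this

include hψ hsurj hinj in
/-- The multiplication map of a filtered colimit of weakly étale algebras is flat. -/
theorem flat_lmul'_of_filtered [∀ j, Algebra.WeaklyEtale A (Dj j)] :
    (Algebra.TensorProduct.lmul' A (S := B)).toRingHom.Flat := by
  have hψ' : ∀ {j k : J} (g : j ⟶ k) (y : Dj j), ψ k (t g y) = ψ j y := fun g y => by
    rw [← hψ g]; rfl
  letI instB : Algebra (B ⊗[A] B) B := (Algebra.TensorProduct.lmul' A (S := B)).toRingHom.toAlgebra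
  change Module.Flat (B ⊗[A] B) B
  -- the tensor system
  let T : ∀ {j k : J}, (j ⟶ k) → (Dj j ⊗[A] Dj j →ₐ[A] Dj k ⊗[A] Dj k) :=
    fun g => Algebra.TensorProduct.map (t g) (t g)
  let Ψ : ∀ j, Dj j ⊗[A] Dj j →ₐ[A] B ⊗[A] B := fun j => Algebra.TensorProduct.map (ψ j) (ψ j)
  have hΨ : ∀ {j k : J} (g : j ⟶ k) (r : Dj j ⊗[A] Dj j), Ψ k (T g r) = Ψ j r := by
    intro j k g r
    have : (Ψ k).comp (T g) = Ψ j := by
      simp only [Ψ, T, ← Algebra.TensorProduct.map_comp, hψ]
    exact congrArg (fun F => F r) this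
  have hlift : ∀ r : B ⊗[A] B, ∃ (j : J) (r' : Dj j ⊗[A] Dj j), Ψ j r' = r := by
    intro r
    induction r using TensorProduct.induction_on with
    | zero => exact ⟨Classical.choice IsFiltered.nonempty, 0, map_zero _⟩
    | tmul b b' =>
      obtain ⟨j1, y1, h1⟩ := hsurj b
      obtain ⟨j2, y2, h2⟩ := hsurj b'
      refine ⟨IsFiltered.max j1 j2, t (IsFiltered.leftToMax j1 j2) y1 ⊗ₜ
        t (IsFiltered.rightToMax j1 j2) y2, ?_⟩
      simp [Ψ, hψ', h1, h2]
    | add r1 r2 ih1 ih2 =>
      obtain ⟨j1, r1', h1⟩ := ih1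
      obtain ⟨j2, r2', h2⟩ := ih2
      refine ⟨IsFiltered.max j1 j2, T (IsFiltered.leftToMax j1 j2) r1' +
        T (IsFiltered.rightToMax j1 j2) r2', ?_⟩
      rw [map_add, hΨ, hΨ, h1, h2]
  refine flat_of_approx.{u, u, u, u} fun {l} f x h => ?_
  obtain ⟨j1, f1, hf1⟩ := exists_common_lift (fun g => T g) (fun j => Ψ j) hΨ hlift f
  obtain ⟨j2, x2, hx2⟩ := exists_common_lift (fun g => t g) (fun j => ψ j) hψ' hsurj x
  let j0 := IsFiltered.max j1 j2
  let f0 : Fin l → Dj j0 ⊗[A] Dj j0 := fun i => T (IsFiltered.leftToMax j1 j2) (f1 i)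
  let x0 : Fin l → Dj j0 := fun i => t (IsFiltered.rightToMax j1 j2) (x2 i)
  have hf0 : ∀ i, Ψ j0 (f0 i) = f i := fun i => by rw [hΨ, hf1]
  have hx0 : ∀ i, ψ j0 (x0 i) = x i := fun i => by rw [hψ', hx2]
  have hz : ψ j0 (∑ i, Algebra.TensorProduct.lmul' A (S := Dj j0) (f0 i) * x0 i) = ψ j0 0 := by
    rw [map_sum, map_zero, ← h]
    refine Finset.sum_congr rfl fun i _ => ?_
    rw [map_mul, ← lmul'_map, hx0]
    change _ = Algebra.TensorProduct.lmul' A (S := B) (f i) * x i
    rw [← hf0 i]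
  obtain ⟨k, g, hk⟩ := hinj j0 _ _ hz
  letI instK : Algebra (Dj k ⊗[A] Dj k) (Dj k) :=
    (Algebra.TensorProduct.lmul' A (S := Dj k)).toRingHom.toAlgebra
  have hflat : Module.Flat (Dj k ⊗[A] Dj k) (Dj k) := Algebra.WeaklyEtale.flat_lmul' A (Dj k)
  refine ⟨Dj k ⊗[A] Dj k, Dj k, inferInstance, inferInstance, inferInstance, hflat,
    (Ψ k).toRingHom, (ψ k : Dj k →+ B), fun r m => ?_, fun i => T g (f0 i), fun i => t g (x0 i),
    fun i => ?_, fun i => ?_, ?_⟩
  · change ψ k (Algebra.TensorProduct.lmul' A (S := Dj k) r * m) =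
      Algebra.TensorProduct.lmul' A (S := B) (Ψ k r) * ψ k m
    rw [map_mul, lmul'_map]
  · change Ψ k (T g (f0 i)) = f i
    rw [hΨ, hf0]
  · change ψ k (t g (x0 i)) = x i
    rw [hψ', hx0]
  · rw [map_sum, map_zero] at hk
    rw [← hk]
    refine Finset.sum_congr rfl fun i _ => ?_
    change Algebra.TensorProduct.lmul' A (S := Dj k) (T g (f0 i)) * t g (x0 i) = _
    rw [map_mul, lmul'_map]

include hψ hsurj hinj in
/-- A filtered colimit of weakly étale algebras is weakly étale. -/
theorem weaklyEtale_of_filtered [∀ j, Algebra.WeaklyEtale A (Dj j)] : Algebra.WeaklyEtale A B where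
  flat := flat_of_filtered Dj t ψ hψ hsurj hinj
  flat_lmul' := flat_lmul'_of_filtered Dj t ψ hψ hsurj hinj

end System

end Groth.Agent.Lib.Helper4
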