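import Mathlib
import Groth.Agent.Lib.Helper4.IndCriterion
import Groth.Agent.Lib.Helper4.FilteredFlat

/-!
# Helper library (helper4): rings of locally-fraction sections

Let `Λ` be a compact topological space with a basis of clopen sets and let `S l ⊆ A` be a
multiplicative subset for every `l : Λ`, such that `{l | d ∈ S l}` is open for every `d : A`.
`LS S` is the `A`-subalgebra of `∏ l, (S l)⁻¹ A` of those families which are locally on `Λ` given
by a single fraction `a / d`.  Examples: the w-localization `A_w` (`Λ = Spec A` with the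
constructible topology, `S p = A ∖ p`), and `Spec A ×_{π₀} T`.
-/

set_option autoImplicit false
set_option linter.unusedSectionVars false

universe u

open CategoryTheory

namespace Groth.Agent.Lib.Helper4.LocSec

variable {A : Type u} [CommRing A] {Λ : Type u} [TopologicalSpace Λ] (S : Λ → Submonoid A)

/-- the ambient product ring -/
abbrev Amb : Type u := ∀ l : Λ, Localization (S l)

/-- a family of fractions is locally a single fraction -/
def IsLocFrac (s : Amb S) : Prop :=
  ∀ l, ∃ W : Set Λ, IsOpen W ∧ l ∈ W ∧ ∃ a d : A, ∀ m ∈ W, d ∈ S m ∧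
    algebraMap A (Localization (S m)) d * s m = algebraMap A (Localization (S m)) a

variable {S}

theorem IsLocFrac.algebraMap (r : A) : IsLocFrac S (algebraMap A (Amb S) r) := fun _ =>
  ⟨Set.univ, isOpen_univ, Set.mem_univ _, r, 1, fun m _ => ⟨(S m).one_mem, by
    rw [map_one, one_mul]; rfl⟩⟩

theorem IsLocFrac.mul {s t : Amb S} (hs : IsLocFrac S s) (ht : IsLocFrac S t) :
    IsLocFrac S (s * t) := by
  intro l
  obtain ⟨W, hW, hl, a, d, h⟩ := hs l
  obtain ⟨W', hW', hl', a', d', h'⟩ := ht l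
  refine ⟨W ∩ W', hW.inter hW', ⟨hl, hl'⟩, a * a', d * d', fun m hm => ?_⟩
  obtain ⟨h1, h2⟩ := h m hm.1
  obtain ⟨h1', h2'⟩ := h' m hm.2
  refine ⟨(S m).mul_mem h1 h1', ?_⟩
  rw [map_mul, map_mul, ← h2, ← h2', Pi.mul_apply]
  ring

theorem IsLocFrac.add {s t : Amb S} (hs : IsLocFrac S s) (ht : IsLocFrac S t) :
    IsLocFrac S (s + t) := by
  intro l
  obtain ⟨W, hW, hl, a, d, h⟩ := hs l
  obtain ⟨W', hW', hl', a', d', h'⟩ := ht l
  refine ⟨W ∩ W', hW.inter hW', ⟨hl, hl'⟩, a * d' + a' * d, d * d', fun m hm => ?_⟩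
  obtain ⟨h1, h2⟩ := h m hm.1
  obtain ⟨h1', h2'⟩ := h' m hm.2
  refine ⟨(S m).mul_mem h1 h1', ?_⟩
  rw [map_mul, map_add, map_mul, map_mul, ← h2, ← h2', Pi.add_apply]
  ring

variable (S) in
/-- the algebra of locally-fraction sections -/
def LS : Subalgebra A (Amb S) where
  carrier := {s | IsLocFrac S s}
  mul_mem' := IsLocFrac.mul
  add_mem' := IsLocFrac.add
  one_mem' := by
    have := IsLocFrac.algebraMap (S := S) 1
    rwa [map_one] at this
  zero_mem' := by
    have := IsLocFrac.algebraMap (S := S) 0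
    rwa [map_zero] at this
  algebraMap_mem' := IsLocFrac.algebraMap

theorem mem_LS {s : Amb S} : s ∈ LS S ↔ IsLocFrac S s := Iff.rfl

variable (S) in
/-- evaluation at a point of `Λ` -/
noncomputable def ev (l : Λ) : LS S →ₐ[A] Localization (S l) :=
  (Pi.evalAlgHom A (fun l => Localization (S l)) l).comp (LS S).val

@[simp] theorem ev_apply (l : Λ) (s : LS S) : ev S l s = s.1 l := rfl

theorem ext_ev {s t : LS S} (h : ∀ l, ev S l s = ev S l t) : s = t :=
  Subtype.ext (funext h)

section Maps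

/-- the canonical map from a localization to an algebra in which the submonoid becomes units -/
noncomputable def lmap (M : Submonoid A) (T : Type*) [CommRing T] [Algebra A T]
    (h : ∀ y ∈ M, IsUnit (algebraMap A T y)) : Localization M →ₐ[A] T :=
  IsLocalization.liftAlgHom (M := M) (f := Algebra.ofId A T) (fun y => h y.1 y.2)

theorem lmap_unique (M : Submonoid A) {T : Type*} [CommRing T] [Algebra A T]
    (f g : Localization M →ₐ[A] T) : f = g :=
  (IsLocalization.algHom_subsingleton (R := A) M (S := Localization M)).elim f g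

/-- the canonical map from a smaller localization -/
noncomputable def locTo (M : Submonoid A) (m : Λ) (h : M ≤ S m) :
    Localization M →ₐ[A] Localization (S m) :=
  lmap M _ (fun y hy => IsLocalization.map_units (Localization (S m)) (⟨y, h hy⟩ : S m))

theorem isUnit_algebraMap_of_mem {m : Λ} {d : A} (h : d ∈ S m) :
    IsUnit (algebraMap A (Localization (S m)) d) :=
  IsLocalization.map_units (Localization (S m)) (⟨d, h⟩ : S m)

end Maps

section Glue

variable {ι : Type*} (M : ι → Submonoid A) (κ : Λ → ι) (hκ : IsLocallyConstant κ)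
  (h : ∀ m, M (κ m) ≤ S m)

theorem glue_aux (x : ∀ k, Localization (M k)) (m : Λ) (k : ι) (hk : κ m = k) (a : A) (s : M k)
    (hx : x k * algebraMap A _ s.1 = algebraMap A _ a) :
    s.1 ∈ S m ∧ algebraMap A (Localization (S m)) s.1 * locTo (M (κ m)) m (h m) (x (κ m)) =
      algebraMap A _ a := by
  subst hk
  refine ⟨h m s.2, ?_⟩
  have := congrArg (locTo (M (κ m)) m (h m)) hx
  rw [map_mul, AlgHom.commutes, AlgHom.commutes] at this
  rw [mul_comm]; exact this

include hκ in
theorem glue_isLocFrac (x : ∀ k, Localization (M k)) :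
    IsLocFrac S (fun m => locTo (M (κ m)) m (h m) (x (κ m))) := by
  intro l
  obtain ⟨⟨a, s⟩, hx⟩ := IsLocalization.surj (M (κ l)) (x (κ l))
  exact ⟨κ ⁻¹' {κ l}, hκ.isOpen_fiber _, rfl, a, s.1, fun m hm => glue_aux M κ h x m (κ l) hm a s hx⟩

/-- glue a finite family of fractions along a locally constant partition function -/
noncomputable def glue : (∀ k, Localization (M k)) →ₐ[A] LS S where
  toFun x := ⟨fun m => locTo (M (κ m)) m (h m) (x (κ m)), glue_isLocFrac M κ hκ h x⟩
  map_one' := Subtype.ext (funext fun m => by simp)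
  map_mul' x y := Subtype.ext (funext fun m => by simp)
  map_zero' := Subtype.ext (funext fun m => by simp)
  map_add' x y := Subtype.ext (funext fun m => by simp)
  commutes' r := Subtype.ext (funext fun m => by
    change locTo (M (κ m)) m (h m) (algebraMap A _ r) = algebraMap A _ r
    rw [AlgHom.commutes])

@[simp] theorem ev_glue (x : ∀ k, Localization (M k)) (m : Λ) :
    ev S m (glue M κ hκ h x) = locTo (M (κ m)) m (h m) (x (κ m)) := rfl

end Glue

section Frac

open Classical in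
/-- the section which is `a / d` on the clopen set `W` and zero elsewhere -/
noncomputable def frac (W : Set Λ) (hW : IsClopen W) (a d : A) (h : ∀ m ∈ W, d ∈ S m) : LS S :=
  ⟨fun m => if hm : m ∈ W then Localization.mk a ⟨d, h m hm⟩ else 0, fun l => by
    by_cases hl : l ∈ W
    · refine ⟨W, hW.isOpen, hl, a, d, fun m hm => ⟨h m hm, ?_⟩⟩
      simp only [dif_pos hm, Localization.mk_eq_mk']
      exact IsLocalization.mk'_spec'_mk _ _ _ _
    · refine ⟨Wᶜ, hW.compl.isOpen, hl, 0, 1, fun m hm => ⟨(S m).one_mem, ?_⟩⟩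
      simp only [dif_neg (show m ∉ W from hm)]
      simp⟩

open Classical in
theorem ev_frac_of_mem {W : Set Λ} (hW : IsClopen W) (a d : A) (h : ∀ m ∈ W, d ∈ S m) {m : Λ}
    (hm : m ∈ W) : ev S m (frac W hW a d h) = Localization.mk a ⟨d, h m hm⟩ := by
  change (if hm : m ∈ W then Localization.mk a ⟨d, h m hm⟩ else 0) = _
  rw [dif_pos hm]

open Classical in
theorem ev_frac_of_notMem {W : Set Λ} (hW : IsClopen W) (a d : A) (h : ∀ m ∈ W, d ∈ S m) {m : Λ}
    (hm : m ∉ W) : ev S m (frac W hW a d h) = 0 := by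
  change (if hm : m ∈ W then Localization.mk a ⟨d, h m hm⟩ else 0) = _
  rw [dif_neg hm]

variable (S) in
/-- the idempotent of a clopen set -/
noncomputable def idem (W : Set Λ) (hW : IsClopen W) : LS S :=
  frac W hW 1 1 (fun m _ => (S m).one_mem)

theorem ev_idem_of_mem {W : Set Λ} (hW : IsClopen W) {m : Λ} (hm : m ∈ W) :
    ev S m (idem S W hW) = 1 := by
  rw [idem, ev_frac_of_mem hW _ _ _ hm]
  exact Localization.mk_self (⟨1, (S m).one_mem⟩ : S m)

theorem ev_idem_of_notMem {W : Set Λ} (hW : IsClopen W) {m : Λ} (hm : m ∉ W) :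
    ev S m (idem S W hW) = 0 := ev_frac_of_notMem hW _ _ _ hm

end Frac

section Partition

/-- the index space has a basis of clopen sets separating points -/
structure ClopenBasis (Λ : Type*) [TopologicalSpace Λ] : Prop where
  basis : ∀ (l : Λ) (U : Set Λ), IsOpen U → l ∈ U → ∃ W, IsClopen W ∧ l ∈ W ∧ W ⊆ U
  sep : ∀ l l' : Λ, l ≠ l' → ∃ W, IsClopen W ∧ l ∈ W ∧ l' ∉ W

theorem exists_partition [CompactSpace Λ] (hΛ : ClopenBasis Λ) (U : Λ → Set Λ)
    (hU : ∀ l, IsOpen (U l)) (hlU : ∀ l, l ∈ U l) :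
    ∃ (N : ℕ) (c : Fin N → Λ) (κ : Λ → Fin N), IsLocallyConstant κ ∧ ∀ m, m ∈ U (c (κ m)) := by
  classical
  choose W hW hlW hWU using fun l => hΛ.basis l (U l) (hU l) (hlU l)
  obtain ⟨t, ht⟩ := isCompact_univ.elim_finite_subcover W (fun l => (hW l).isOpen)
    (fun x _ => Set.mem_iUnion.2 ⟨x, hlW x⟩)
  let c : Fin t.card → Λ := fun i => (t.equivFin.symm i).1
  have hcov : ∀ m, (Finset.univ.filter fun i => m ∈ W (c i)).Nonempty := by
    intro m
    obtain ⟨l, hl⟩ := Set.mem_iUnion.1 (ht (Set.mem_univ m))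
    obtain ⟨hlt, hml⟩ := Set.mem_iUnion.1 hl
    refine ⟨t.equivFin ⟨l, hlt⟩, Finset.mem_filter.2 ⟨Finset.mem_univ _, ?_⟩⟩
    simpa [c] using hml
  let κ : Λ → Fin t.card := fun m => (Finset.univ.filter fun i => m ∈ W (c i)).min' (hcov m)
  have hκ1 : ∀ m, m ∈ W (c (κ m)) := fun m =>
    (Finset.mem_filter.1 (Finset.min'_mem _ (hcov m))).2
  have hκ2 : ∀ m i, m ∈ W (c i) → κ m ≤ i := fun m i hi =>
    Finset.min'_le (Finset.univ.filter fun i => m ∈ W (c i)) i
      (Finset.mem_filter.2 ⟨Finset.mem_univ _, hi⟩)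
  refine ⟨t.card, c, κ, ?_, fun m => hWU _ (hκ1 m)⟩
  rw [IsLocallyConstant.iff_exists_open]
  intro x
  refine ⟨W (c (κ x)) ∩ ⋂ j ∈ (Finset.univ.filter fun j => j < κ x), (W (c j))ᶜ, ?_, ?_, ?_⟩
  · refine (hW _).isOpen.inter ?_
    exact isOpen_biInter_finset fun j _ => (hW _).compl.isOpen
  · refine ⟨hκ1 x, Set.mem_iInter₂.2 fun j hj => ?_⟩
    intro hx
    exact absurd (hκ2 x j hx) (not_le.2 (Finset.mem_filter.1 hj).2)
  · intro y hy
    refine le_antisymm (hκ2 y _ hy.1) ?_
    by_contra hlt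
    have := Set.mem_iInter₂.1 hy.2 (κ y) (Finset.mem_filter.2 ⟨Finset.mem_univ _, not_le.1 hlt⟩)
    exact this (hκ1 y)

end Partition

section Structure

variable (S) in
/-- admissibility of the family of multiplicative subsets -/
def IsOpenFamily : Prop := ∀ d : A, IsOpen {l | d ∈ S l}

variable (hS : IsOpenFamily S) (hΛ : ClopenBasis Λ)

include hS hΛ in
theorem ev_surjective (l : Λ) : Function.Surjective (ev S l) := by
  intro x
  obtain ⟨a, s, rfl⟩ := IsLocalization.exists_mk'_eq (S l) x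
  obtain ⟨W, hW, hlW, hWU⟩ := hΛ.basis l _ (hS s.1) s.2
  refine ⟨frac W hW a s.1 (fun m hm => hWU hm), ?_⟩
  rw [ev_frac_of_mem hW _ _ _ hlW, Localization.mk_eq_mk']

include hS hΛ in
/-- a section vanishing at a point vanishes on a clopen neighbourhood -/
theorem exists_isClopen_ev_eq_zero {s : LS S} {l : Λ} (h : ev S l s = 0) :
    ∃ W, IsClopen W ∧ l ∈ W ∧ ∀ m ∈ W, ev S m s = 0 := by
  obtain ⟨W₀, hW₀, hl₀, a, d, h₀⟩ := s.2 l
  have ha : algebraMap A (Localization (S l)) a = 0 := by
    rw [← (h₀ l hl₀).2]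
    have : s.1 l = 0 := h
    rw [this, mul_zero]
  obtain ⟨u, hu⟩ := (IsLocalization.map_eq_zero_iff (S l) _ a).1 ha
  obtain ⟨W, hW, hlW, hWU⟩ := hΛ.basis l (W₀ ∩ {m | u.1 ∈ S m}) (hW₀.inter (hS u.1)) ⟨hl₀, u.2⟩
  refine ⟨W, hW, hlW, fun m hm => ?_⟩
  obtain ⟨hm₀, hmu⟩ := hWU hm
  have ha' : algebraMap A (Localization (S m)) a = 0 :=
    (IsLocalization.map_eq_zero_iff (S m) _ a).2 ⟨⟨u.1, hmu⟩, hu⟩
  have h2 := (h₀ m hm₀).2
  rw [ha'] at h2
  exact (isUnit_algebraMap_of_mem (h₀ m hm₀).1).mul_right_eq_zero.1 h2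

include hS hΛ in
theorem exists_idem_mul_eq_zero {s : LS S} {l : Λ} (h : ev S l s = 0) :
    ∃ (W : Set Λ) (hW : IsClopen W), l ∈ W ∧ idem S W hW * s = 0 := by
  obtain ⟨W, hW, hlW, h0⟩ := exists_isClopen_ev_eq_zero hS hΛ h
  refine ⟨W, hW, hlW, ext_ev fun m => ?_⟩
  rw [map_mul, map_zero]
  by_cases hm : m ∈ W
  · rw [h0 m hm, mul_zero]
  · rw [ev_idem_of_notMem hW hm, zero_mul]

include hS hΛ in
/-- every prime of `LS S` contains the kernel of an evaluation -/
theorem exists_ker_ev_le [CompactSpace Λ] (Q : Ideal (LS S)) [Q.IsPrime] :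
    ∃ l, RingHom.ker (ev S l) ≤ Q := by
  classical
  by_contra hcon
  push Not at hcon
  have hex : ∀ l, ∃ (W : Set Λ) (hW : IsClopen W), l ∈ W ∧ idem S W hW ∈ Q := by
    intro l
    obtain ⟨s, hs, hsQ⟩ := SetLike.not_le_iff_exists.1 (hcon l)
    obtain ⟨W, hW, hlW, h0⟩ := exists_idem_mul_eq_zero hS hΛ (RingHom.mem_ker.1 hs)
    refine ⟨W, hW, hlW, ?_⟩
    have : idem S W hW * s ∈ Q := by rw [h0]; exact Q.zero_mem
    exact ((Ideal.IsPrime.mem_or_mem inferInstance this).resolve_right hsQ)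
  choose W hW hlW hQ using hex
  obtain ⟨t, ht⟩ := isCompact_univ.elim_finite_subcover W (fun l => (hW l).isOpen)
    (fun x _ => Set.mem_iUnion.2 ⟨x, hlW x⟩)
  have hprod : ∏ l ∈ t, (1 - idem S (W l) (hW l)) = 0 := by
    refine ext_ev fun m => ?_
    rw [map_prod, map_zero]
    obtain ⟨l, hl⟩ := Set.mem_iUnion.1 (ht (Set.mem_univ m))
    obtain ⟨hlt, hml⟩ := Set.mem_iUnion.1 hl
    refine Finset.prod_eq_zero hlt ?_
    rw [map_sub, map_one, ev_idem_of_mem (hW l) hml, sub_self]
  have : ∏ l ∈ t, (1 - idem S (W l) (hW l)) ∈ Q := by rw [hprod]; exact Q.zero_mem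
  obtain ⟨l, -, hl⟩ := (Ideal.IsPrime.prod_mem_iff (hp := inferInstance)).1 this
  have h1 : (1 : LS S) ∈ Q := by
    have := Q.add_mem hl (hQ l)
    rwa [sub_add_cancel] at this
  exact (inferInstance : Q.IsPrime).ne_top ((Ideal.eq_top_iff_one _).2 h1)

include hΛ in
theorem eq_of_ker_ev_le {Q : Ideal (LS S)} (hQ : Q ≠ ⊤) {l l' : Λ} (h : RingHom.ker (ev S l) ≤ Q)
    (h' : RingHom.ker (ev S l') ≤ Q) : l = l' := by
  by_contra hne
  obtain ⟨W, hW, hlW, hl'W⟩ := hΛ.sep l l' hne
  have h1 : 1 - idem S W hW ∈ Q := h (by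
    rw [RingHom.mem_ker, map_sub, map_one, ev_idem_of_mem hW hlW, sub_self])
  have h2 : idem S W hW ∈ Q := h' (by rw [RingHom.mem_ker, ev_idem_of_notMem hW hl'W])
  have := Q.add_mem h1 h2
  rw [sub_add_cancel] at this
  exact hQ ((Ideal.eq_top_iff_one _).2 this)

end Structure

section Factorization

variable (hS : IsOpenFamily S) (hΛ : ClopenBasis Λ)

/-- common denominators -/
theorem exists_common_denominator {n : ℕ} (s : Fin n → LS S) (l : Λ) :
    ∃ (U : Set Λ) (d : A) (a : Fin n → A), IsOpen U ∧ l ∈ U ∧ ∀ m ∈ U, d ∈ S m ∧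
      ∀ i, algebraMap A (Localization (S m)) d * ev S m (s i) = algebraMap A _ (a i) := by
  classical
  choose W hW hl a d h using fun i => (s i).2 l
  refine ⟨⋂ i, W i, ∏ i, d i, fun i => a i * ∏ j ∈ Finset.univ.erase i, d j,
    isOpen_iInter_of_finite hW, Set.mem_iInter.2 hl, fun m hm => ⟨?_, fun i => ?_⟩⟩
  · exact Submonoid.prod_mem _ fun i _ => (h i m (Set.mem_iInter.1 hm i)).1
  · have h2 := (h i m (Set.mem_iInter.1 hm i)).2
    rw [← Finset.mul_prod_erase Finset.univ d (Finset.mem_univ i), map_mul, map_mul, ← h2]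
    change _ * _ * (s i).1 m = _
    ring

theorem away_apply_eq {d₀ a : A} {m : Λ} (hd : d₀ ∈ S m) {y : Localization (S m)}
    (hy : algebraMap A (Localization (S m)) d₀ * y = algebraMap A _ a)
    (ψ : Localization.Away d₀ →ₐ[A] Localization (S m)) :
    ψ (IsLocalization.mk' (Localization.Away d₀) a
      (⟨d₀, Submonoid.mem_powers d₀⟩ : Submonoid.powers d₀)) = y := by
  refine (isUnit_algebraMap_of_mem hd).mul_left_cancel ?_
  rw [hy, ← ψ.commutes d₀, ← map_mul]
  have : algebraMap A (Localization.Away d₀) d₀ * IsLocalization.mk' (Localization.Away d₀) a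
      (⟨d₀, Submonoid.mem_powers d₀⟩ : Submonoid.powers d₀) = algebraMap A _ a :=
    IsLocalization.mk'_spec'_mk _ _ _ _
  rw [this, ψ.commutes]

theorem exists_kill {d₀ : A} {l : Λ} (ψl : Localization.Away d₀ →ₐ[A] Localization (S l))
    (y : Localization.Away d₀) (hy : ψl y = 0) :
    ∃ u ∈ S l, ∀ (T : Type u) [CommRing T] [Algebra A T] (ψ : Localization.Away d₀ →ₐ[A] T),
      IsUnit (algebraMap A T u) → ψ y = 0 := by
  obtain ⟨⟨b, t⟩, hb⟩ := IsLocalization.surj (Submonoid.powers d₀) y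
  have h1 := congrArg ψl hb
  rw [map_mul, hy, zero_mul, ψl.commutes] at h1
  obtain ⟨u, hu⟩ := (IsLocalization.map_eq_zero_iff (S l) _ b).1 h1.symm
  refine ⟨u.1, u.2, fun T _ _ ψ hT => ?_⟩
  have h2 := congrArg ψ hb
  rw [map_mul, ψ.commutes, ψ.commutes] at h2
  have h3 : algebraMap A T b = 0 := by
    refine hT.mul_right_eq_zero.1 ?_
    rw [← map_mul, hu, map_zero]
  rw [h3] at h2
  have h4 : IsUnit (algebraMap A T t.1) := by
    rw [← ψ.commutes]
    exact (IsLocalization.map_units (Localization.Away d₀) t).map ψ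
  exact h4.mul_left_eq_zero.1 h2

include hS in
theorem exists_local_factor (P : Type u) [CommRing P] [Algebra A P]
    [Algebra.FinitePresentation A P] (φ : P →ₐ[A] LS S) (l : Λ) :
    ∃ (d : A) (α : P →ₐ[A] Localization.Away d) (U : Set Λ)
      (hU : ∀ m ∈ U, Submonoid.powers d ≤ S m), IsOpen U ∧ l ∈ U ∧
      ∀ m (hm : m ∈ U), (locTo (Submonoid.powers d) m (hU m hm)).comp α = (ev S m).comp φ := by
  classical
  obtain ⟨n, f, hf, R, hR⟩ := Algebra.FinitePresentation.out (R := A) (A := P)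
  let s : Fin n → LS S := fun i => φ (f (MvPolynomial.X i))
  obtain ⟨U₀, d₀, a, hU₀, hl₀, h₀⟩ := exists_common_denominator s l
  let x : Fin n → Localization.Away d₀ := fun i =>
    IsLocalization.mk' (Localization.Away d₀) (a i)
      (⟨d₀, Submonoid.mem_powers d₀⟩ : Submonoid.powers d₀)
  have F1 : ∀ m ∈ U₀, ∀ (ψ : Localization.Away d₀ →ₐ[A] Localization (S m)) (i : Fin n),
      ψ (x i) = ev S m (s i) := fun m hm ψ i =>
    away_apply_eq (h₀ m hm).1 ((h₀ m hm).2 i) ψ
  let ψl : Localization.Away d₀ →ₐ[A] Localization (S l) :=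
    locTo (Submonoid.powers d₀) l ((Submonoid.powers_le).2 (h₀ l hl₀).1)
  have F2 : ∀ r ∈ R, ψl (MvPolynomial.aeval x r) = 0 := by
    intro r hr
    have h1 : ψl.comp (MvPolynomial.aeval x) = ((ev S l).comp φ).comp f := by
      refine MvPolynomial.algHom_ext fun i => ?_
      simp only [AlgHom.comp_apply, MvPolynomial.aeval_X]
      exact F1 l hl₀ ψl i
    have h2 : f r = 0 := by
      have : r ∈ RingHom.ker f.toRingHom := by rw [← hR]; exact Ideal.subset_span hr
      exact this
    have := AlgHom.congr_fun h1 r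
    simp only [AlgHom.comp_apply, h2, map_zero] at this
    exact this
  have F3 : ∀ r ∈ R, ∃ u ∈ S l, ∀ (T : Type u) [CommRing T] [Algebra A T]
      (ψ : Localization.Away d₀ →ₐ[A] T), IsUnit (algebraMap A T u) →
      ψ (MvPolynomial.aeval x r) = 0 := fun r hr => exists_kill ψl _ (F2 r hr)
  choose u hu hu' using F3
  let u₀ : A := ∏ r ∈ R.attach, u r.1 r.2
  have hu₀ : u₀ ∈ S l := Submonoid.prod_mem _ fun r _ => hu r.1 r.2
  let d : A := d₀ * u₀
  have hdunit : IsUnit (algebraMap A (Localization.Away d) d) :=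
    IsLocalization.Away.algebraMap_isUnit d
  have hd₀unit : IsUnit (algebraMap A (Localization.Away d) d₀) := by
    have : IsUnit (algebraMap A (Localization.Away d) d₀ * algebraMap A _ u₀) := by
      rw [← map_mul]; exact hdunit
    exact isUnit_of_mul_isUnit_left this
  have hu₀unit : IsUnit (algebraMap A (Localization.Away d) u₀) := by
    have : IsUnit (algebraMap A (Localization.Away d) d₀ * algebraMap A _ u₀) := by
      rw [← map_mul]; exact hdunit
    exact isUnit_of_mul_isUnit_right this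
  have hurunit : ∀ r (hr : r ∈ R), IsUnit (algebraMap A (Localization.Away d) (u r hr)) := by
    intro r hr
    refine isUnit_of_dvd_unit (map_dvd _ ?_) hu₀unit
    exact Finset.dvd_prod_of_mem (fun r : R => u r.1 r.2) (Finset.mem_attach R ⟨r, hr⟩)
  let ψ : Localization.Away d₀ →ₐ[A] Localization.Away d :=
    lmap (Submonoid.powers d₀) _ (by
      rintro _ ⟨k, rfl⟩
      rw [map_pow]
      exact hd₀unit.pow k)
  let x' : Fin n → Localization.Away d := fun i => ψ (x i)
  let g : MvPolynomial (Fin n) A →ₐ[A] Localization.Away d := MvPolynomial.aeval x'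
  have hgψ : g = ψ.comp (MvPolynomial.aeval x) := by
    refine MvPolynomial.algHom_ext fun i => ?_
    simp only [g, x', AlgHom.comp_apply, MvPolynomial.aeval_X]
  have hg : ∀ p ∈ RingHom.ker f.toRingHom, g p = 0 := by
    intro p hp
    rw [← hR] at hp
    have hle : Ideal.span (R : Set (MvPolynomial (Fin n) A)) ≤ RingHom.ker g.toRingHom := by
      rw [Ideal.span_le]
      intro r hr
      change g r = 0
      rw [hgψ]
      exact hu' r hr _ ψ (hurunit r hr)
    exact hle hp
  let e := Ideal.quotientKerAlgEquivOfSurjective hf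
  let α : P →ₐ[A] Localization.Away d :=
    (Ideal.Quotient.liftₐ (RingHom.ker f.toRingHom) g hg).comp e.symm.toAlgHom
  have hα : ∀ p, α (f p) = g p := by
    intro p
    have : e.symm (f p) = Ideal.Quotient.mk _ p := by
      rw [AlgEquiv.symm_apply_eq]
      rfl
    change Ideal.Quotient.liftₐ _ g hg (e.symm (f p)) = g p
    rw [this]
    rfl
  have hUd : ∀ m ∈ U₀ ∩ {m | u₀ ∈ S m}, Submonoid.powers d ≤ S m := fun m hm =>
    (Submonoid.powers_le).2 ((S m).mul_mem (h₀ m hm.1).1 hm.2)
  refine ⟨d, α, U₀ ∩ {m | u₀ ∈ S m}, hUd, hU₀.inter (hS u₀), ⟨hl₀, hu₀⟩, fun m hm => ?_⟩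
  ext p
  obtain ⟨q, rfl⟩ := hf p
  have h1 : ((locTo (Submonoid.powers d) m (hUd m hm)).comp ψ).comp (MvPolynomial.aeval x) =
      ((ev S m).comp φ).comp f := by
    refine MvPolynomial.algHom_ext fun i => ?_
    simp only [AlgHom.comp_apply, MvPolynomial.aeval_X]
    exact F1 m hm.1 ((locTo (Submonoid.powers d) m (hUd m hm)).comp ψ) i
  have := AlgHom.congr_fun h1 q
  simp only [AlgHom.comp_apply] at this ⊢
  rw [hα, hgψ]
  exact this

include hS hΛ in
/-- every map from a finitely presented algebra factors through a finite product of principal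
localizations -/
theorem hasFactorization [CompactSpace Λ] : HasFactorization (localIsoClass A) (LS S) := by
  intro P _ _ _ φ
  choose d α U hU hUo hlU hα using exists_local_factor hS P φ
  obtain ⟨N, c, κ, hκ, hκU⟩ := exists_partition hΛ U hUo hlU
  let M : ULift.{u} (Fin N) → Submonoid A := fun k => Submonoid.powers (d (c k.down))
  let κ' : Λ → ULift.{u} (Fin N) := fun m => ⟨κ m⟩
  have hκ' : IsLocallyConstant κ' := hκ.comp _
  have hM : ∀ m, M (κ' m) ≤ S m := fun m => hU _ m (hκU m)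
  refine ⟨∀ k : ULift.{u} (Fin N), Localization.Away (d (c k.down)), inferInstance, inferInstance,
    ?_, AlgHom.pi (fun k => α (c k.down)), glue M κ' hκ' hM, ?_⟩
  · change Algebra.IsLocalIso A (∀ k : ULift.{u} (Fin N), Localization.Away (d (c k.down)))
    exact Algebra.IsLocalIso.pi_of_finite A _
  · refine AlgHom.ext fun p => ext_ev (S := S) fun m => ?_
    have := AlgHom.congr_fun (hα _ m (hκU m)) p
    exact this

end Factorization

section IndZariski

theorem localIsoClass_isGood : AlgClass.IsGood (localIsoClass A) where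
  iso E E' _ _ _ _ e hE := by
    have : Algebra.IsLocalIso A E := hE
    exact Algebra.IsLocalIso.of_algEquiv e
  fp E _ _ hE := by
    have : Algebra.IsLocalIso A E := hE
    refine Algebra.FinitePresentation.of_span_eq_top_target _
      (Algebra.IsLocalIso.span_isStandardOpenImmersion_eq_top A E) ?_
    intro g hg
    obtain ⟨r, hr⟩ := Algebra.IsStandardOpenImmersion.exists_away A (Localization.Away g)
      (self := hg)
    exact IsLocalization.Away.finitePresentation r

/-- **factorization criterion for ind-Zariski algebras** -/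
theorem isIndZariski_iff_hasFactorization (B : Type u) [CommRing B] [Algebra A B] :
    EtPBC.IsIndZariski A B ↔ HasFactorization (localIsoClass A) B :=
  ⟨fun h => IsInd.hasFactorization ((isIndZariski_iff B).mp h),
    fun h => (isIndZariski_iff B).mpr (isInd_of_hasFactorization localIsoClass_isGood h)⟩

theorem isIndZariski [CompactSpace Λ] (hS : IsOpenFamily S) (hΛ : ClopenBasis Λ) :
    EtPBC.IsIndZariski A (LS S) :=
  (isIndZariski_iff_hasFactorization _).2 (hasFactorization hS hΛ)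

/-- algebras with the factorization property for a class of flat algebras are flat -/
theorem flat_of_hasFactorization {B : Type u} [CommRing B] [Algebra A B] (ℰ : AlgClass A)
    (hflat : ∀ (E : Type u) [CommRing E] [Algebra A E], ℰ E → Module.Flat A E)
    (h : HasFactorization ℰ B) : Module.Flat A B := by
  refine flat_of_approx (R := A) (M := B) ?_
  intro l f x hrel
  let r : MvPolynomial (Fin l) A := ∑ i, MvPolynomial.C (f i) * MvPolynomial.X i
  have hfp : Algebra.FinitePresentation A (MvPolynomial (Fin l) A ⧸ Ideal.span {r}) :=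
    Algebra.FinitePresentation.quotient (Submodule.fg_span_singleton r)
  have hr : MvPolynomial.aeval x r = 0 := by
    rw [← hrel, map_sum]
    refine Finset.sum_congr rfl fun i _ => ?_
    rw [map_mul, MvPolynomial.aeval_C, MvPolynomial.aeval_X, Algebra.smul_def]
  let φ : (MvPolynomial (Fin l) A ⧸ Ideal.span {r}) →ₐ[A] B :=
    Ideal.Quotient.liftₐ _ (MvPolynomial.aeval x) (by
      intro p hp
      obtain ⟨q, rfl⟩ := Ideal.mem_span_singleton'.1 hp
      rw [map_mul, hr, mul_zero])
  obtain ⟨E, _, _, hE, α, β, hαβ⟩ := h _ φ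
  have := hflat E hE
  refine ⟨A, E, inferInstance, inferInstance, inferInstance, this, RingHom.id A,
    (β : E →+ B), fun a m => ?_, f,
    fun i => α (Ideal.Quotient.mk _ (MvPolynomial.X i)), fun i => rfl, fun i => ?_, ?_⟩
  · change β (a • m) = a • β m
    rw [map_smul]
  · change β (α _) = x i
    have := AlgHom.congr_fun hαβ (Ideal.Quotient.mk _ (MvPolynomial.X i))
    rw [AlgHom.comp_apply] at this
    rw [this]
    change MvPolynomial.aeval x (MvPolynomial.X i) = x i
    rw [MvPolynomial.aeval_X]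
  · have h0 : (Ideal.Quotient.mk (Ideal.span {r}) r) = 0 :=
      Ideal.Quotient.eq_zero_iff_mem.2 (Ideal.subset_span rfl)
    have h1 : ∑ i, f i • (Ideal.Quotient.mk (Ideal.span {r}) (MvPolynomial.X i)) = 0 := by
      rw [← h0, map_sum]
      refine Finset.sum_congr rfl fun i _ => ?_
      rw [MvPolynomial.C_mul']
      exact (map_smul (Ideal.Quotient.mkₐ A (Ideal.span {r})) (f i) (MvPolynomial.X i)).symm
    have h2 := congrArg α h1
    rw [map_sum, map_zero] at h2
    rw [← h2]
    refine Finset.sum_congr rfl fun i _ => ?_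
    rw [map_smul]

theorem flat_of_isLocalIso (E : Type u) [CommRing E] [Algebra A E] [Algebra.IsLocalIso A E] :
    Module.Flat A E := by
  let s : Set E := {g : E | Algebra.IsStandardOpenImmersion A (Localization.Away g)}
  refine Module.flat_of_isLocalized_span (R := A) (S := E) (M := E) s
    (Algebra.IsLocalIso.span_isStandardOpenImmersion_eq_top A E)
    (fun g => Localization.Away g.1) (fun g => Algebra.linearMap E (Localization.Away g.1)) ?_
  intro g
  obtain ⟨r, hr⟩ := Algebra.IsStandardOpenImmersion.exists_away A (Localization.Away g.1)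
    (self := g.2)
  exact IsLocalization.flat _ (Submonoid.powers r)

theorem flat [CompactSpace Λ] (hS : IsOpenFamily S) (hΛ : ClopenBasis Λ) :
    Module.Flat A (LS S) :=
  flat_of_hasFactorization (localIsoClass A)
    (fun E _ _ hE => by
      have : Algebra.IsLocalIso A E := hE
      exact flat_of_isLocalIso E) (hasFactorization hS hΛ)

end IndZariski

section Spec

variable [CompactSpace Λ] (hS : IsOpenFamily S) (hΛ : ClopenBasis Λ)

/-- the point of `Λ` below a prime of `LS S` -/
noncomputable def pt (Q : PrimeSpectrum (LS S)) : Λ := (exists_ker_ev_le hS hΛ Q.asIdeal).choose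

theorem ker_ev_pt_le (Q : PrimeSpectrum (LS S)) : RingHom.ker (ev S (pt hS hΛ Q)) ≤ Q.asIdeal :=
  (exists_ker_ev_le hS hΛ Q.asIdeal).choose_spec

theorem pt_eq_iff (Q : PrimeSpectrum (LS S)) (l : Λ) :
    pt hS hΛ Q = l ↔ RingHom.ker (ev S l) ≤ Q.asIdeal :=
  ⟨fun h => h ▸ ker_ev_pt_le hS hΛ Q,
    fun h => eq_of_ker_ev_le hΛ Q.2.ne_top (ker_ev_pt_le hS hΛ Q) h⟩

theorem pt_comap (l : Λ) (q : PrimeSpectrum (Localization (S l))) :
    pt hS hΛ (PrimeSpectrum.comap (ev S l).toRingHom q) = l :=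
  (pt_eq_iff hS hΛ _ l).2 (Ideal.comap_mono bot_le)

theorem idem_mem_iff (Q : PrimeSpectrum (LS S)) {W : Set Λ} (hW : IsClopen W) :
    idem S W hW ∈ Q.asIdeal ↔ pt hS hΛ Q ∉ W := by
  constructor
  · intro h hmem
    have h1 : 1 - idem S W hW ∈ Q.asIdeal := ker_ev_pt_le hS hΛ Q (by
      rw [RingHom.mem_ker, map_sub, map_one, ev_idem_of_mem hW hmem, sub_self])
    have := Q.asIdeal.add_mem h1 h
    rw [sub_add_cancel] at this
    exact Q.2.ne_top ((Ideal.eq_top_iff_one _).2 this)
  · intro h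
    exact ker_ev_pt_le hS hΛ Q (by rw [RingHom.mem_ker, ev_idem_of_notMem hW h])

theorem continuous_pt : Continuous (pt hS hΛ) := by
  rw [continuous_def]
  intro U hU
  rw [isOpen_iff_forall_mem_open]
  intro Q hQ
  obtain ⟨W, hW, hQW, hWU⟩ := hΛ.basis _ U hU hQ
  refine ⟨(PrimeSpectrum.basicOpen (idem S W hW) : Set _), ?_, (PrimeSpectrum.basicOpen _).2, ?_⟩
  · intro Q' hQ'
    refine hWU ?_
    by_contra hcon
    exact hQ' ((idem_mem_iff hS hΛ Q' hW).2 hcon)
  · intro hmem
    exact (idem_mem_iff hS hΛ Q hW).1 hmem hQW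

/-- every prime of `LS S` is pulled back from a prime of the localization at its point -/
theorem exists_comap_eq (Q : PrimeSpectrum (LS S)) :
    ∃ q : PrimeSpectrum (Localization (S (pt hS hΛ Q))),
      PrimeSpectrum.comap (ev S (pt hS hΛ Q)).toRingHom q = Q := by
  have hsurj := ev_surjective hS hΛ (pt hS hΛ Q)
  have hker := ker_ev_pt_le hS hΛ Q
  have hprime : (Q.asIdeal.map (ev S (pt hS hΛ Q))).IsPrime :=
    Ideal.map_isPrime_of_surjective hsurj hker
  refine ⟨⟨_, hprime⟩, PrimeSpectrum.ext ?_⟩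
  change Ideal.comap (ev S (pt hS hΛ Q)) (Q.asIdeal.map (ev S (pt hS hΛ Q))) = Q.asIdeal
  rw [Ideal.comap_map_of_surjective _ hsurj]
  exact sup_eq_left.2 hker

theorem mem_iff_of_comap {l : Λ} (q : PrimeSpectrum (Localization (S l))) (s : LS S) :
    s ∈ (PrimeSpectrum.comap (ev S l).toRingHom q).asIdeal ↔ ev S l s ∈ q.asIdeal := Iff.rfl

theorem exists_prime (Q : PrimeSpectrum (LS S)) :
    ∃ q : PrimeSpectrum (Localization (S (pt hS hΛ Q))),
      ∀ s, s ∈ Q.asIdeal ↔ ev S (pt hS hΛ Q) s ∈ q.asIdeal := by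
  obtain ⟨q, hq⟩ := exists_comap_eq hS hΛ Q
  exact ⟨q, fun s => (iff_of_eq (congrArg (fun Z : PrimeSpectrum (LS S) => s ∈ Z.asIdeal) hq)).symm⟩

theorem algebraMap_notMem_of_mem (Q : PrimeSpectrum (LS S)) {d : A} (hd : d ∈ S (pt hS hΛ Q)) :
    algebraMap A (LS S) d ∉ Q.asIdeal := by
  obtain ⟨q, hq⟩ := exists_prime hS hΛ Q
  intro h
  rw [hq, AlgHom.commutes] at h
  exact q.2.ne_top (Ideal.eq_top_of_isUnit_mem _ h (isUnit_algebraMap_of_mem hd))

/-- membership in a prime of `LS S` can be tested on a local numerator -/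
theorem mem_iff_of_frac (Q : PrimeSpectrum (LS S)) (s : LS S) {W : Set Λ} (hW : IsClopen W)
    (hl : pt hS hΛ Q ∈ W) {a d : A}
    (h : ∀ m ∈ W, d ∈ S m ∧ algebraMap A (Localization (S m)) d * ev S m s = algebraMap A _ a) :
    s ∈ Q.asIdeal ↔ algebraMap A (LS S) a ∈ Q.asIdeal := by
  have h0 : idem S W hW * (algebraMap A (LS S) d * s - algebraMap A (LS S) a) = 0 := by
    refine ext_ev fun m => ?_
    rw [map_mul, map_zero]
    by_cases hm : m ∈ W
    · rw [map_sub, map_mul, AlgHom.commutes, AlgHom.commutes, (h m hm).2, sub_self, mul_zero]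
    · rw [ev_idem_of_notMem hW hm, zero_mul]
  have h1 : idem S W hW ∉ Q.asIdeal := fun hmem => (idem_mem_iff hS hΛ Q hW).1 hmem hl
  have h2 : algebraMap A (LS S) d * s - algebraMap A (LS S) a ∈ Q.asIdeal := by
    have : idem S W hW * (algebraMap A (LS S) d * s - algebraMap A (LS S) a) ∈ Q.asIdeal := by
      rw [h0]; exact Q.asIdeal.zero_mem
    exact (Q.2.mem_or_mem this).resolve_left h1
  have h3 : algebraMap A (LS S) d ∉ Q.asIdeal := algebraMap_notMem_of_mem hS hΛ Q (h _ hl).1
  constructor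
  · intro hs
    have := Q.asIdeal.sub_mem (Q.asIdeal.mul_mem_left (algebraMap A (LS S) d) hs) h2
    rwa [sub_sub_cancel] at this
  · intro ha
    have := Q.asIdeal.add_mem h2 ha
    rw [sub_add_cancel] at this
    exact (Q.2.mem_or_mem this).resolve_left h3

include hΛ in
/-- every section is a fraction on a clopen neighbourhood of a given point -/
theorem exists_clopen_frac (s : LS S) (l : Λ) :
    ∃ (W : Set Λ) (_ : IsClopen W) (a d : A), l ∈ W ∧ ∀ m ∈ W, d ∈ S m ∧
      algebraMap A (Localization (S m)) d * ev S m s = algebraMap A _ a := by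
  obtain ⟨W₀, hW₀, hl₀, a, d, h⟩ := s.2 l
  obtain ⟨W, hW, hlW, hWsub⟩ := hΛ.basis l W₀ hW₀ hl₀
  exact ⟨W, hW, a, d, hlW, fun m hm => h m (hWsub hm)⟩

/-- a prime of `LS S` is determined by its point and its contraction to `A` -/
theorem prime_ext {Q Q' : PrimeSpectrum (LS S)} (h1 : pt hS hΛ Q = pt hS hΛ Q')
    (h2 : PrimeSpectrum.comap (algebraMap A (LS S)) Q = PrimeSpectrum.comap (algebraMap A (LS S)) Q') :
    Q = Q' := by
  refine PrimeSpectrum.ext (Ideal.ext fun s => ?_)
  obtain ⟨W, hW, a, d, hlW, h⟩ := exists_clopen_frac hΛ s (pt hS hΛ Q)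
  rw [mem_iff_of_frac hS hΛ Q s hW hlW h, mem_iff_of_frac hS hΛ Q' s hW (h1 ▸ hlW) h]
  have : ∀ Z : PrimeSpectrum (LS S), algebraMap A (LS S) a ∈ Z.asIdeal ↔
      a ∈ (PrimeSpectrum.comap (algebraMap A (LS S)) Z).asIdeal := fun Z => Iff.rfl
  rw [this, this, h2]

end Spec

end Groth.Agent.Lib.Helper4.LocSec
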