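import Mathlib
import Groth.Prelude.Def_ProEtW
import Groth.Prelude.Def_EtBase
import Groth.Agent.Lib.Helper4.LocSec

/-!
# Helper library (helper4): algebraic residue field extensions, ind-Zariski ⇒ ind-étale, transport of
strict henselianity

* `AlgOver A q b`: `b` is algebraic modulo `q` over `A / (q ∩ A)`, stated with a polynomial over `A`.
* `algebraicResidueExtensions_of_isIndEtale`: ind-étale maps induce algebraic residue extensions.
* `algebraicResidueExtensions_baseChange`: algebraic residue extensions are stable under base change.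
* `etale_of_isLocalIso`, `isIndEtale_of_isIndZariski`.
* `isStrictlyHenselianLocalRing_of_ringEquiv`.
* `exists_prime_of_quotientMap_bijective`.
-/

set_option autoImplicit false
set_option linter.unusedSectionVars false
set_option linter.style.haveILetI false

universe u

open Polynomial TensorProduct

namespace Groth.Agent.Lib.Helper4.AlgRes

open Groth.Agent.Lib.Helper4

section QF

/-- quasi-finite algebras induce algebraic residue field extensions -/
theorem isAlgebraic_quotient_of_quasiFinite {A E : Type u} [CommRing A] [CommRing E] [Algebra A E]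
    [Algebra.QuasiFinite A E] (q : Ideal E) [q.IsPrime] :
    Algebra.IsAlgebraic (A ⧸ q.comap (algebraMap A E)) (E ⧸ q) := by
  set p : Ideal A := q.comap (algebraMap A E) with hp
  haveI : q.LiesOver p := ⟨rfl⟩
  letI := Localization.AtPrime.algebraOfLiesOver p q
  have hfin : Module.Finite p.ResidueField q.ResidueField := inferInstance
  have h1 : Algebra.IsAlgebraic p.ResidueField q.ResidueField := inferInstance
  have h2 : Algebra.IsAlgebraic (A ⧸ p) p.ResidueField := inferInstance
  let _ := ((algebraMap (E ⧸ q) q.ResidueField).comp (algebraMap (A ⧸ p) (E ⧸ q))).toAlgebra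
  have : IsScalarTower (A ⧸ p) (E ⧸ q) q.ResidueField := .of_algebraMap_eq' rfl
  have : IsScalarTower (A ⧸ p) p.ResidueField q.ResidueField := by
    refine .of_algebraMap_eq fun x ↦ ?_
    obtain ⟨x, rfl⟩ := Ideal.Quotient.mk_surjective x
    have h5 : (algebraMap (A ⧸ p) p.ResidueField) (Ideal.Quotient.mk p x) =
        algebraMap A p.ResidueField x := rfl
    have h6 : (algebraMap (A ⧸ p) (E ⧸ q)) (Ideal.Quotient.mk p x) =
        Ideal.Quotient.mk q (algebraMap A E x) := rfl
    have h7 : (algebraMap (E ⧸ q) q.ResidueField) (Ideal.Quotient.mk q (algebraMap A E x)) =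
        algebraMap E q.ResidueField (algebraMap A E x) := rfl
    change algebraMap (E ⧸ q) q.ResidueField
        (algebraMap (A ⧸ p) (E ⧸ q) (Ideal.Quotient.mk p x)) =
      algebraMap p.ResidueField q.ResidueField
        (algebraMap (A ⧸ p) p.ResidueField (Ideal.Quotient.mk p x))
    rw [h5, h6, h7, ← IsScalarTower.algebraMap_apply, ← IsScalarTower.algebraMap_apply]
  have h3 : Algebra.IsAlgebraic (A ⧸ p) q.ResidueField := .trans _ p.ResidueField _
  exact .tower_bot_of_injective (Ideal.injective_algebraMap_quotient_residueField q)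

end QF

section AlgOver

variable {A B : Type u} [CommRing A] [CommRing B] [Algebra A B]

/-- `b` satisfies modulo `q` a polynomial over `A` which is nonzero modulo `q ∩ A`. -/
def AlgOver (A : Type u) {B : Type u} [CommRing A] [CommRing B] [Algebra A B] (q : Ideal B)
    (b : B) : Prop :=
  ∃ f : A[X], (∃ i, algebraMap A B (f.coeff i) ∉ q) ∧ f.eval₂ (algebraMap A B) b ∈ q

theorem algOver_iff (q : Ideal B) (b : B) :
    AlgOver A q b ↔ IsAlgebraic (A ⧸ q.comap (algebraMap A B)) (Ideal.Quotient.mk q b) := by
  have hcomp : (algebraMap (A ⧸ q.comap (algebraMap A B)) (B ⧸ q)).comp (Ideal.Quotient.mk _) =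
      (Ideal.Quotient.mk q).comp (algebraMap A B) := rfl
  constructor
  · rintro ⟨f, ⟨i, hi⟩, hf⟩
    refine ⟨f.map (Ideal.Quotient.mk _), ?_, ?_⟩
    · intro h0
      have h1 := congrArg (fun g => g.coeff i) h0
      simp only [coeff_map, coeff_zero] at h1
      rw [Ideal.Quotient.eq_zero_iff_mem, Ideal.mem_comap] at h1
      exact hi h1
    · rw [aeval_def, eval₂_map, hcomp, ← hom_eval₂]
      exact Ideal.Quotient.eq_zero_iff_mem.2 hf
  · rintro ⟨g, hg0, hg⟩
    obtain ⟨f, rfl⟩ := Polynomial.map_surjective _ Ideal.Quotient.mk_surjective g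
    refine ⟨f, ?_, ?_⟩
    · by_contra hcon
      push Not at hcon
      apply hg0
      ext i
      simp only [coeff_map, coeff_zero]
      rw [Ideal.Quotient.eq_zero_iff_mem, Ideal.mem_comap]
      exact hcon i
    · rw [aeval_def, eval₂_map, hcomp, ← hom_eval₂] at hg
      exact Ideal.Quotient.eq_zero_iff_mem.1 hg

theorem algebraicResidueExtensions_iff :
    ProEtW.AlgebraicResidueExtensions A B ↔ ∀ (q : Ideal B) [q.IsPrime] (b : B), AlgOver A q b := by
  constructor
  · intro h q _ b
    rw [algOver_iff]
    exact (h q).isAlgebraic _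
  · intro h q _
    refine ⟨fun x => ?_⟩
    obtain ⟨b, rfl⟩ := Ideal.Quotient.mk_surjective x
    exact (algOver_iff q b).1 (h q b)

theorem AlgOver.map {B' : Type u} [CommRing B'] [Algebra A B'] (φ : B →ₐ[A] B') (Q : Ideal B')
    (b : B) (h : AlgOver A (Q.comap φ) b) : AlgOver A Q (φ b) := by
  obtain ⟨f, ⟨i, hi⟩, hf⟩ := h
  refine ⟨f, ⟨i, ?_⟩, ?_⟩
  · rw [← φ.commutes]
    exact hi
  · have h1 : f.eval₂ (algebraMap A B') (φ b) = φ (f.eval₂ (algebraMap A B) b) := by
      have h2 := hom_eval₂ f (algebraMap A B) φ.toRingHom b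
      have h3 : φ.toRingHom.comp (algebraMap A B) = algebraMap A B' := AlgHom.comp_algebraMap φ
      rw [h3] at h2
      exact h2.symm
    rw [h1]
    exact hf

theorem AlgOver.tower {C B' : Type u} [CommRing C] [CommRing B'] [Algebra A C] [Algebra C B']
    [Algebra A B'] [IsScalarTower A C B'] (Q : Ideal B') (b : B') (h : AlgOver A Q b) :
    AlgOver C Q b := by
  obtain ⟨f, ⟨i, hi⟩, hf⟩ := h
  refine ⟨f.map (algebraMap A C), ⟨i, ?_⟩, ?_⟩
  · rw [coeff_map, ← IsScalarTower.algebraMap_apply]
    exact hi
  · rw [eval₂_map, ← IsScalarTower.algebraMap_eq]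
    exact hf

theorem algOver_of_quasiFinite {E : Type u} [CommRing E] [Algebra A E] [Algebra.QuasiFinite A E]
    (q : Ideal E) [q.IsPrime] (e : E) : AlgOver A q e :=
  (algOver_iff q e).2 ((isAlgebraic_quotient_of_quasiFinite q).isAlgebraic _)

/-- ind-étale ring maps induce algebraic residue field extensions -/
theorem algebraicResidueExtensions_of_isIndEtale (h : EtPBC.IsIndEtale A B) :
    ProEtW.AlgebraicResidueExtensions A B := by
  rw [algebraicResidueExtensions_iff]
  intro q _ b
  have hfac := (isIndEtale_iff_hasFactorization B).1 h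
  obtain ⟨E, _, _, hE, α, β, hαβ⟩ := hfac (Polynomial A) (Polynomial.aeval b)
  haveI : Algebra.Etale A E := hE
  have hb : β (α X) = b := by
    have h1 := congrArg (fun φ => φ X) hαβ
    simpa using h1
  have h2 := AlgOver.map β q (α X) (algOver_of_quasiFinite _ _)
  rwa [hb] at h2

/-- algebraic residue field extensions are stable under base change -/
theorem algebraicResidueExtensions_baseChange (C : Type u) [CommRing C] [Algebra A C]
    (h : ProEtW.AlgebraicResidueExtensions A B) :
    @ProEtW.AlgebraicResidueExtensions C (B ⊗[A] C) _ _ Algebra.TensorProduct.rightAlgebra := by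
  letI := Algebra.TensorProduct.rightAlgebra (R := A) (A := B) (B := C)
  intro Q _
  let P : Ideal C := Q.comap (algebraMap C (B ⊗[A] C))
  haveI : P.IsPrime := Ideal.IsPrime.comap _
  let L := Subalgebra.algebraicClosure (C ⧸ P) ((B ⊗[A] C) ⧸ Q)
  refine ⟨fun x => ?_⟩
  obtain ⟨x, rfl⟩ := Ideal.Quotient.mk_surjective x
  change Ideal.Quotient.mk Q x ∈ L
  induction x using TensorProduct.induction_on with
  | zero => rw [map_zero]; exact L.zero_mem
  | tmul b c =>
    have h1 : b ⊗ₜ[A] c = (b ⊗ₜ[A] (1 : C)) * ((1 : B) ⊗ₜ[A] c) := by simp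
    rw [h1, map_mul]
    apply L.mul_mem
    · change IsAlgebraic _ _
      rw [← algOver_iff]
      apply AlgOver.tower (A := A)
      haveI : (Q.comap (Algebra.TensorProduct.includeLeft : B →ₐ[A] B ⊗[A] C)).IsPrime :=
        Ideal.IsPrime.comap _
      exact AlgOver.map (Algebra.TensorProduct.includeLeft : B →ₐ[A] B ⊗[A] C) Q b
        ((algebraicResidueExtensions_iff.1 h) _ b)
    · have h2 : Ideal.Quotient.mk Q ((1 : B) ⊗ₜ[A] c) =
          algebraMap (C ⧸ P) ((B ⊗[A] C) ⧸ Q) (Ideal.Quotient.mk P c) := rfl
      rw [h2]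
      exact L.algebraMap_mem _
  | add x y hx hy => rw [map_add]; exact L.add_mem hx hy

end AlgOver

section LocalIso

variable {A : Type u} [CommRing A]

/-- local isomorphisms are étale -/
theorem etale_of_isLocalIso (E : Type u) [CommRing E] [Algebra A E] [Algebra.IsLocalIso A E] :
    Algebra.Etale A E := by
  rw [← RingHom.etale_algebraMap]
  let s : Set E := {g : E | Algebra.IsStandardOpenImmersion A (Localization.Away g)}
  refine RingHom.Etale.ofLocalizationSpanTarget (algebraMap A E) s
    (Algebra.IsLocalIso.span_isStandardOpenImmersion_eq_top A E) ?_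
  intro g
  obtain ⟨r, hr⟩ := Algebra.IsStandardOpenImmersion.exists_away A (Localization.Away g.1)
    (self := g.2)
  rw [← IsScalarTower.algebraMap_eq, RingHom.etale_algebraMap]
  exact Algebra.Etale.of_isLocalizationAway r

/-- ind-Zariski ring maps are ind-étale -/
theorem isIndEtale_of_isIndZariski {B : Type u} [CommRing B] [Algebra A B]
    (h : EtPBC.IsIndZariski A B) : EtPBC.IsIndEtale A B := by
  rw [isIndEtale_iff_hasFactorization]
  have hfac := (LocSec.isIndZariski_iff_hasFactorization B).1 h
  intro P _ _ _ φ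
  obtain ⟨E, _, _, hE, α, β, hαβ⟩ := hfac P φ
  haveI : Algebra.IsLocalIso A E := hE
  exact ⟨E, inferInstance, inferInstance, etale_of_isLocalIso E, α, β, hαβ⟩

end LocalIso

section Transport

open IsLocalRing

theorem henselianLocalRing_of_ringEquiv {R R' : Type*} [CommRing R] [CommRing R']
    [IsLocalRing R] [IsLocalRing R'] (e : R ≃+* R') [hR : HenselianLocalRing R] :
    HenselianLocalRing R' := by
  have hmax : ∀ x : R', x ∈ maximalIdeal R' ↔ e.symm x ∈ maximalIdeal R := by
    intro x
    rw [mem_maximalIdeal, mem_maximalIdeal, mem_nonunits_iff, mem_nonunits_iff]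
    exact not_congr (isUnit_map_iff e.symm x).symm
  refine { is_henselian := ?_ }
  intro f hf a₀ h₁ h₂
  have hev : ∀ (g : R'[X]) (y : R'), (g.map e.symm.toRingHom).eval (e.symm y) = e.symm (g.eval y) := by
    intro g y
    rw [eval_map]
    exact (hom_eval₂ g (RingHom.id R') e.symm.toRingHom y).symm.trans (by simp [eval₂_id])
  obtain ⟨a, ha, haa⟩ := hR.is_henselian (f.map e.symm.toRingHom) (hf.map _) (e.symm a₀)
    (by rw [hev]; exact (hmax _).1 h₁)
    (by rw [derivative_map, hev]; exact h₂.map e.symm)
  refine ⟨e a, ?_, ?_⟩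
  · have h3 := hev f (e a)
    rw [e.symm_apply_apply] at h3
    have h4 : e.symm (f.eval (e a)) = 0 := by rw [← h3]; exact ha
    exact (map_eq_zero_iff e.symm e.symm.injective).1 h4
  · rw [hmax, map_sub, e.symm_apply_apply]
    exact haa

theorem isSepClosed_of_ringEquiv {k k' : Type*} [Field k] [Field k'] (e : k ≃+* k')
    [IsSepClosed k] : IsSepClosed k' := by
  apply IsSepClosed.of_exists_root
  intro p hpm hpi hps
  have hsep : (p.map e.symm.toRingHom).Separable := hps.map
  have hdeg : (p.map e.symm.toRingHom).degree ≠ 0 := by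
    rw [degree_map]
    exact (degree_pos_of_irreducible hpi).ne'
  obtain ⟨x, hx⟩ := IsSepClosed.exists_root (p.map e.symm.toRingHom) hdeg hsep
  refine ⟨e x, ?_⟩
  have h1 : e.symm (p.eval (e x)) = (p.map e.symm.toRingHom).eval x := by
    rw [eval_map]
    have h2 := hom_eval₂ p (RingHom.id k') e.symm.toRingHom (e x)
    simp only [eval₂_id, RingHom.comp_id, RingEquiv.toRingHom_eq_coe, RingHom.coe_coe,
      e.symm_apply_apply] at h2
    exact h2
  have h3 : e.symm (p.eval (e x)) = 0 := by rw [h1]; exact hx
  exact (map_eq_zero_iff e.symm e.symm.injective).1 h3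

theorem isStrictlyHenselianLocalRing_of_ringEquiv {R R' : Type u} [CommRing R] [CommRing R']
    [IsLocalRing R] [IsLocalRing R'] (e : R ≃+* R')
    (h : EtCoh.IsStrictlyHenselianLocalRing R) : EtCoh.IsStrictlyHenselianLocalRing R' := by
  obtain ⟨h1, h2⟩ := h
  exact ⟨henselianLocalRing_of_ringEquiv e,
    isSepClosed_of_ringEquiv (IsLocalRing.ResidueField.mapEquiv e)⟩

end Transport

section Quot

/-- if `R/J → S/JS` is bijective, primes of `R` containing `J` lift to `S` -/
theorem exists_prime_of_quotientMap_bijective {R S : Type u} [CommRing R] [CommRing S]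
    [Algebra R S] (J : Ideal R)
    (hbij : Function.Bijective (Ideal.quotientMap (J.map (algebraMap R S)) (algebraMap R S)
      Ideal.le_comap_map))
    (n : PrimeSpectrum R) (hn : J ≤ n.asIdeal) :
    ∃ P : PrimeSpectrum S, PrimeSpectrum.comap (algebraMap R S) P = n := by
  let e := RingEquiv.ofBijective _ hbij
  let χ : S →+* R ⧸ n.asIdeal :=
    (Ideal.Quotient.factor hn).comp (e.symm.toRingHom.comp (Ideal.Quotient.mk _))
  have hχ : ∀ x : R, χ (algebraMap R S x) = Ideal.Quotient.mk _ x := by
    intro x
    have h1 : e (Ideal.Quotient.mk J x) = Ideal.Quotient.mk _ (algebraMap R S x) := rfl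
    simp only [χ, RingHom.comp_apply, RingEquiv.toRingHom_eq_coe, RingHom.coe_coe]
    rw [← h1, e.symm_apply_apply, Ideal.Quotient.factor_mk]
  refine ⟨⟨RingHom.ker χ, RingHom.ker_isPrime χ⟩, ?_⟩
  ext x
  simp only [PrimeSpectrum.comap_asIdeal, Ideal.mem_comap, RingHom.mem_ker, hχ,
    Ideal.Quotient.eq_zero_iff_mem]

end Quot

end Groth.Agent.Lib.Helper4.AlgRes
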