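import Groth.Agent.Lib.Helper4.ProperOver

/-!
# Helper library (helper4): images of proper closed subsets
-/

set_option autoImplicit false

universe u

open CategoryTheory CategoryTheory.Limits AlgebraicGeometry

namespace Groth.Agent.Lib.Helper4

open ClSub

variable {Y S W : Scheme.{u}}

/-- If `h : W ⟶ Y` is universally closed and `W` is proper over `S` (through `q : Y ⟶ S`, which is
locally of finite type), then the (closed) range of `h` is proper over `S`. -/
theorem isProperOver_range_of_universallyClosed (q : Y ⟶ S) [LocallyOfFiniteType q]
    (h : W ⟶ Y) [UniversallyClosed h] [IsProper (h ≫ q)] : IsProperOver q (Set.range h) := by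
  have hclosed : IsClosed (Set.range h) := h.isClosedMap.isClosed_range
  have hr : Set.range h.imageι = Set.range h := by
    rw [Scheme.Hom.imageι, Scheme.IdealSheafData.range_subschemeι, Scheme.Hom.support_ker,
      hclosed.closure_eq]
  rw [isProperOver_iff_of_isClosedImmersion q h.imageι _ hr]
  have hs : Surjective h.toImage := by
    constructor
    intro t
    have : h.imageι t ∈ Set.range h := hr ▸ ⟨t, rfl⟩
    obtain ⟨w, hw⟩ := this
    refine ⟨w, h.imageι.isClosedEmbedding.injective ?_⟩
    rw [← hw, ← Scheme.Hom.comp_apply, Scheme.Hom.toImage_imageι]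
  have : IsProper (h.toImage ≫ h.imageι ≫ q) := by
    rw [← Category.assoc, Scheme.Hom.toImage_imageι]
    infer_instance
  exact isProper_of_comp_surjective h.toImage (h.imageι ≫ q)

end Groth.Agent.Lib.Helper4
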