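import Groth.Agent.Lib.Helper94.JShriek
import Groth.Prelude.Def_CxOX

/-!
# Extension by zero of `O`-modules along an open subscheme is exact (helper4)

`preservesFiniteLimits_extZero X U : PreservesFiniteLimits (CxOX.extZero U.ι)`, from helper94's
exactness of `ModSite.extZero` on a small ringed site and the Prelude's `CxOX.extZeroIsoSite`.
Consequences: `preservesMonomorphisms_extZero`, `injective_restrict` (restriction of an injective
`O_X`-module to an open subscheme is injective).
-/

set_option autoImplicit false
universe u
open CategoryTheory AlgebraicGeometry CategoryTheory.Limits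

namespace Groth.Agent.Lib.Helper4.ExtZeroExact

/-- `j_!` for an open subscheme is exact -/
theorem preservesFiniteLimits_extZero (X : Scheme.{u}) (U : X.Opens) :
    PreservesFiniteLimits (CxOX.extZero U.ι) := by
  have h1 : PreservesFiniteLimits (ModSite.extZero X.sheaf U) :=
    Groth.Agent.Lib.Helper94.JShriek.preservesFiniteLimits_extZero
  have h0 : PreservesFiniteLimits (Scheme.Modules.overEquiv U).inverse := inferInstance
  have h2 : PreservesFiniteLimits ((Scheme.Modules.overEquiv U).inverse ⋙ ModSite.extZero X.sheaf U) :=
    @comp_preservesFiniteLimits _ _ _ _ _ _ _ _ h0 h1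
  exact @preservesFiniteLimits_of_natIso _ _ _ _ _ _ (CxOX.extZeroIsoSite U).symm h2

theorem preservesMonomorphisms_extZero (X : Scheme.{u}) (U : X.Opens) :
    (CxOX.extZero U.ι).PreservesMonomorphisms := by
  have := preservesFiniteLimits_extZero X U
  infer_instance

theorem injective_restrict (X : Scheme.{u}) (U : X.Opens) (I : X.Modules)
    (hI : Injective I) : Injective (I.restrict U.ι) := by
  have := preservesMonomorphisms_extZero X U
  exact Injective.injective_of_adjoint (CxOX.extZeroAdj U.ι) I

end Groth.Agent.Lib.Helper4.ExtZeroExact
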