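import Mathlib
import Groth.Agent.Lib.Helper4.IndCriterion

/-!
# Helper library (helper4): the category of étale `A`-algebras over an arbitrary `A`-algebra `T`
is filtered; its colimit is the "ind-étale coreflection" of `T`.
-/

set_option autoImplicit false

universe u

open CategoryTheory CategoryTheory.Limits TensorProduct

namespace Groth.Agent.Lib.Helper4

section Filtered

variable {A : Type u} [CommRing A]

/-- For an étale `A`-algebra `X`, the kernel of the multiplication `X ⊗ X → X` is generated by an
idempotent. -/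
theorem exists_idempotent_diag (X : Type u) [CommRing X] [Algebra A X] [Algebra.Etale A X] :
    ∃ e : X ⊗[A] X, IsIdempotentElem e ∧ KaehlerDifferential.ideal A X = Ideal.span {e} :=
  (Ideal.isIdempotentElem_iff_of_fg _ (KaehlerDifferential.ideal_fg A X)).mp <|
    (Ideal.cotangent_subsingleton_iff _).mp <| inferInstanceAs <| Subsingleton Ω[X⁄A]

variable (T : Type u) [CommRing T] [Algebra A T]

theorem obj_etale (x : Obj (etaleClass A) T) : Algebra.Etale A x.Q := x.mem

/-- the category of (presented) étale `A`-algebras over any `A`-algebra `T` is filtered -/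
theorem isFiltered_obj_etale : IsFiltered (Obj (etaleClass A) T) := by
  have hne : Nonempty (Obj (etaleClass A) T) := by
    obtain ⟨z, -, -⟩ := exists_obj etaleClass_isGood A (inferInstance : Algebra.Etale A A)
      (Algebra.ofId A T)
    exact ⟨z⟩
  have : IsFilteredOrEmpty (Obj (etaleClass A) T) := by
    refine ⟨fun x y => ?_, fun x y f g => ?_⟩
    · have := obj_etale T x
      have := obj_etale T y
      have hE : Algebra.Etale A (x.Q ⊗[A] y.Q) := Algebra.Etale.comp A x.Q (x.Q ⊗[A] y.Q)
      obtain ⟨z, e, hz⟩ := exists_obj etaleClass_isGood (x.Q ⊗[A] y.Q) hE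
        (Algebra.TensorProduct.productMap x.φ y.φ)
      refine ⟨z, ⟨e.symm.toAlgHom.comp Algebra.TensorProduct.includeLeft, ?_⟩,
        ⟨e.symm.toAlgHom.comp Algebra.TensorProduct.includeRight, ?_⟩, trivial⟩
      · rw [hz]
        ext a
        simp
      · rw [hz]
        ext a
        simp
    · have := obj_etale T x
      have := obj_etale T y
      obtain ⟨e, he, hsp⟩ := exists_idempotent_diag (A := A) x.Q
      let m : x.Q ⊗[A] x.Q →ₐ[A] y.Q := Algebra.TensorProduct.productMap f.1 g.1
      have hm : y.φ.comp m = x.φ.comp (Algebra.TensorProduct.lmul' A) := by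
        apply Algebra.TensorProduct.ext'
        intro a b
        have h1 := congrArg (fun k => k a) f.2
        have h2 := congrArg (fun k => k b) g.2
        simp only [AlgHom.comp_apply] at h1 h2
        simp [m, h1, h2]
      have he0 : Algebra.TensorProduct.lmul' A e = 0 := by
        have : e ∈ KaehlerDifferential.ideal A x.Q := hsp ▸ Ideal.subset_span rfl
        exact this
      let u : y.Q := m (1 - e)
      have hu : IsUnit (y.φ u) := by
        have : y.φ u = 1 := by
          have h1 : y.φ u = x.φ (Algebra.TensorProduct.lmul' A (1 - e)) :=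
            congrArg (fun k => k (1 - e)) hm
          rw [h1, map_sub, map_one, he0, sub_zero, map_one]
        rw [this]; exact isUnit_one
      let φZ : Localization.Away u →ₐ[A] T :=
        IsLocalization.Away.liftAlgHom (S := Localization.Away u) (f := y.φ) u hu
      have hEZ : Algebra.Etale A (Localization.Away u) := inferInstance
      obtain ⟨z, ez, hz⟩ := exists_obj etaleClass_isGood (Localization.Away u) hEZ φZ
      refine ⟨z, ⟨ez.symm.toAlgHom.comp (IsScalarTower.toAlgHom A y.Q (Localization.Away u)), ?_⟩,
        ?_⟩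
      · rw [hz]
        ext b
        simp [φZ]
      · apply Subtype.ext
        ext a
        change ez.symm (algebraMap y.Q (Localization.Away u) (f.1 a)) =
          ez.symm (algebraMap y.Q (Localization.Away u) (g.1 a))
        congr 1
        have h0 : (f.1 a - g.1 a) * u = 0 := by
          have hmem : ((1 : x.Q) ⊗ₜ[A] a - a ⊗ₜ[A] (1 : x.Q)) ∈ KaehlerDifferential.ideal A x.Q :=
            KaehlerDifferential.one_smul_sub_smul_one_mem_ideal A a
          rw [hsp, Ideal.mem_span_singleton'] at hmem
          obtain ⟨t, ht⟩ := hmem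
          have h1 : ((1 : x.Q) ⊗ₜ[A] a - a ⊗ₜ[A] (1 : x.Q)) * (1 - e) = 0 := by
            rw [← ht, mul_assoc, he.mul_one_sub_self, mul_zero]
          have h2 := congrArg m h1
          rw [map_mul, map_sub, map_zero] at h2
          have h3 : m ((1 : x.Q) ⊗ₜ[A] a) = g.1 a := by simp [m]
          have h4 : m (a ⊗ₜ[A] (1 : x.Q)) = f.1 a := by simp [m]
          rw [h3, h4] at h2
          have : (f.1 a - g.1 a) * u = -((g.1 a - f.1 a) * u) := by ring
          rw [this]
          change -((g.1 a - f.1 a) * m (1 - e)) = 0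
          rw [h2, neg_zero]
        have hunit : IsUnit (algebraMap y.Q (Localization.Away u) u) :=
          IsLocalization.Away.algebraMap_isUnit u
        have h5 := congrArg (algebraMap y.Q (Localization.Away u)) h0
        rw [map_mul, map_zero, hunit.mul_left_eq_zero, map_sub, sub_eq_zero] at h5
        exact h5
  exact { toIsFilteredOrEmpty := this, nonempty := hne }

end Filtered

section Coreflection

variable (A : Type u) [CommRing A] (T : Type u) [CommRing T] [Algebra A T]

/-- the colimit cocone of all étale algebras over `T` -/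
noncomputable def etCocone : Cocone (objDiagram (ℰ := etaleClass A) (B := T)) :=
  colimit.cocone _

/-- it is a colimit cocone -/
noncomputable def etIsColimit : IsColimit (etCocone A T) := colimit.isColimit _

/-- the ind-étale coreflection of `T` -/
abbrev Et : Type u := (etCocone A T).pt.right

noncomputable instance : Algebra A (Et A T) := (etCocone A T).pt.hom.hom.toAlgebra

theorem isIndEtale_Et : EtPBC.IsIndEtale A (Et A T) := by
  refine ⟨Obj (etaleClass A) T, inferInstance, isFiltered_obj_etale T, objDiagram, etCocone A T,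
    etIsColimit A T, ?_, ⟨Iso.refl _⟩⟩
  intro x
  have h := x.mem
  have heq : ((objDiagram (ℰ := etaleClass A) (B := T)).obj x).hom.hom.toAlgebra =
      (inferInstance : Algebra A x.Q) := Algebra.algebra_ext _ _ (fun r => rfl)
  change @Algebra.Etale A x.Q _ _
    ((objDiagram (ℰ := etaleClass A) (B := T)).obj x).hom.hom.toAlgebra
  rw [heq]
  exact h

/-- the structure maps of the colimit -/
noncomputable def etι (x : Obj (etaleClass A) T) : x.Q →ₐ[A] Et A T :=
  { toRingHom := ((etCocone A T).ι.app x).right.hom
    commutes' := fun a => congrArg (fun m => m.hom a) (Under.w ((etCocone A T).ι.app x)) }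

/-- the canonical map to `T` -/
noncomputable def etπ : Et A T →ₐ[A] T :=
  { toRingHom := ((etIsColimit A T).desc objCocone).right.hom
    commutes' := fun a =>
      congrArg (fun m => m.hom a) (Under.w ((etIsColimit A T).desc objCocone)) }

theorem etπ_ι (x : Obj (etaleClass A) T) (a : x.Q) : etπ A T (etι A T x a) = x.φ a := by
  have := (etIsColimit A T).fac objCocone x
  exact congrArg (fun m => m.right.hom a) this

theorem etι_map {x y : Obj (etaleClass A) T} (f : x ⟶ y) (a : x.Q) :
    etι A T y (f.1 a) = etι A T x a := by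
  have := (etCocone A T).w f
  exact congrArg (fun m => m.right.hom a) this

attribute [local instance] isFiltered_obj_etale in
theorem etι_jointly_surjective (c : Et A T) : ∃ (x : Obj (etaleClass A) T) (a : x.Q),
    etι A T x a = c :=
  colim_jointly_surjective (etIsColimit A T) c

attribute [local instance] isFiltered_obj_etale in
theorem etι_eq_imp (x : Obj (etaleClass A) T) (a a' : x.Q) (h : etι A T x a = etι A T x a') :
    ∃ (y : Obj (etaleClass A) T) (f : x ⟶ y), f.1 a = f.1 a' :=
  colim_eq_imp (etIsColimit A T) x a a' h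

attribute [local instance] isFiltered_obj_etale in
/-- maps from finitely presented algebras to the colimit factor through a stage -/
theorem exists_factor_stage (E : Type u) [CommRing E] [Algebra A E]
    [Algebra.FinitePresentation A E] (k : E →ₐ[A] Et A T) :
    ∃ (x : Obj (etaleClass A) T) (a : E →ₐ[A] x.Q), (etι A T x).comp a = k := by
  let X : Under (CommRingCat.of A) := Under.mk (CommRingCat.ofHom (algebraMap A E))
  have hX : IsFinitelyPresentable.{u} X :=
    CommRingCat.isFinitelyPresentable_under (CommRingCat.of A) X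
      (show (algebraMap A E).FinitePresentation from
        RingHom.finitePresentation_algebraMap.mpr inferInstance)
  let f : X ⟶ (etCocone A T).pt :=
    Under.homMk (CommRingCat.ofHom k.toRingHom) (by
      ext a
      exact k.commutes a)
  obtain ⟨x, p, hp⟩ := IsFinitelyPresentable.exists_hom_of_isColimit (etIsColimit A T) f
  refine ⟨x, { toRingHom := p.right.hom
               commutes' := fun a => congrArg (fun m => m.hom a) (Under.w p) }, ?_⟩
  ext b
  exact congrArg (fun m => m.right.hom b) hp

/-- two maps from an étale algebra into a stage which agree in `T` become equal at a later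
stage -/
theorem exists_equalize (E : Type u) [CommRing E] [Algebra A E] [Algebra.Etale A E]
    (x : Obj (etaleClass A) T) (a₁ a₂ : E →ₐ[A] x.Q) (h : x.φ.comp a₁ = x.φ.comp a₂) :
    ∃ (z : Obj (etaleClass A) T) (f : x ⟶ z), f.1.comp a₁ = f.1.comp a₂ := by
  have := obj_etale T x
  obtain ⟨e, he, hsp⟩ := exists_idempotent_diag (A := A) E
  let m : E ⊗[A] E →ₐ[A] x.Q := Algebra.TensorProduct.productMap a₁ a₂
  have hm : x.φ.comp m = (x.φ.comp a₁).comp (Algebra.TensorProduct.lmul' A) := by
    apply Algebra.TensorProduct.ext'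
    intro b c
    have h2 := congrArg (fun k => k c) h
    simp only [AlgHom.comp_apply] at h2
    simp [m, h2]
  have he0 : Algebra.TensorProduct.lmul' A e = 0 := by
    have : e ∈ KaehlerDifferential.ideal A E := hsp ▸ Ideal.subset_span rfl
    exact this
  let u : x.Q := m (1 - e)
  have hu : IsUnit (x.φ u) := by
    have : x.φ u = 1 := by
      have h1 : x.φ u = (x.φ.comp a₁) (Algebra.TensorProduct.lmul' A (1 - e)) :=
        congrArg (fun k => k (1 - e)) hm
      rw [h1, map_sub, map_one, he0, sub_zero, map_one]
    rw [this]; exact isUnit_one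
  let φZ : Localization.Away u →ₐ[A] T :=
    IsLocalization.Away.liftAlgHom (S := Localization.Away u) (f := x.φ) u hu
  have hEZ : Algebra.Etale A (Localization.Away u) := inferInstance
  obtain ⟨z, ez, hz⟩ := exists_obj etaleClass_isGood (Localization.Away u) hEZ φZ
  refine ⟨z, ⟨ez.symm.toAlgHom.comp (IsScalarTower.toAlgHom A x.Q (Localization.Away u)), ?_⟩,
    ?_⟩
  · rw [hz]
    ext b
    simp [φZ]
  · ext b
    change ez.symm (algebraMap x.Q (Localization.Away u) (a₁ b)) =
      ez.symm (algebraMap x.Q (Localization.Away u) (a₂ b))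
    congr 1
    have h0 : (a₁ b - a₂ b) * u = 0 := by
      have hmem : ((1 : E) ⊗ₜ[A] b - b ⊗ₜ[A] (1 : E)) ∈ KaehlerDifferential.ideal A E :=
        KaehlerDifferential.one_smul_sub_smul_one_mem_ideal A b
      rw [hsp, Ideal.mem_span_singleton'] at hmem
      obtain ⟨t, ht⟩ := hmem
      have h1 : ((1 : E) ⊗ₜ[A] b - b ⊗ₜ[A] (1 : E)) * (1 - e) = 0 := by
        rw [← ht, mul_assoc, he.mul_one_sub_self, mul_zero]
      have h2 := congrArg m h1
      rw [map_mul, map_sub, map_zero] at h2
      have h3 : m ((1 : E) ⊗ₜ[A] b) = a₂ b := by simp [m]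
      have h4 : m (b ⊗ₜ[A] (1 : E)) = a₁ b := by simp [m]
      rw [h3, h4] at h2
      have : (a₁ b - a₂ b) * u = -((a₂ b - a₁ b) * u) := by ring
      rw [this]
      change -((a₂ b - a₁ b) * m (1 - e)) = 0
      rw [h2, neg_zero]
    have hunit : IsUnit (algebraMap x.Q (Localization.Away u) u) :=
      IsLocalization.Away.algebraMap_isUnit u
    have h5 := congrArg (algebraMap x.Q (Localization.Away u)) h0
    rw [map_mul, map_zero, hunit.mul_left_eq_zero, map_sub, sub_eq_zero] at h5
    exact h5

theorem etπ_comp_etι (x : Obj (etaleClass A) T) : (etπ A T).comp (etι A T x) = x.φ := by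
  ext a
  exact etπ_ι A T x a

/-- uniqueness part of the coreflection property -/
theorem etπ_comp_injective (D : Type u) [CommRing D] [Algebra A D]
    (hD : HasFactorization (etaleClass A) D) (τ₁ τ₂ : D →ₐ[A] Et A T)
    (h : (etπ A T).comp τ₁ = (etπ A T).comp τ₂) : τ₁ = τ₂ := by
  ext d
  obtain ⟨E, _, _, hE, α, β, hαβ⟩ := hD (MvPolynomial (Fin 1) A)
    (MvPolynomial.aeval (fun _ => d))
  have hE' : Algebra.Etale A E := hE
  have hd : β (α (MvPolynomial.X 0)) = d := by
    have h1 : β (α (MvPolynomial.X 0)) =
        MvPolynomial.aeval (fun _ => d) (MvPolynomial.X (0 : Fin 1)) :=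
      congrArg (fun m => m (MvPolynomial.X 0)) hαβ
    rwa [MvPolynomial.aeval_X] at h1
  obtain ⟨x₁, a₁, h₁⟩ := exists_factor_stage A T E (τ₁.comp β)
  obtain ⟨x₂, a₂, h₂⟩ := exists_factor_stage A T E (τ₂.comp β)
  have := isFiltered_obj_etale (A := A) T
  let y := IsFiltered.max x₁ x₂
  let f₁ : x₁ ⟶ y := IsFiltered.leftToMax x₁ x₂
  let f₂ : x₂ ⟶ y := IsFiltered.rightToMax x₁ x₂
  have hb₁ : (etι A T y).comp (f₁.1.comp a₁) = τ₁.comp β := by
    rw [← h₁]
    ext b
    exact etι_map A T f₁ (a₁ b)
  have hb₂ : (etι A T y).comp (f₂.1.comp a₂) = τ₂.comp β := by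
    rw [← h₂]
    ext b
    exact etι_map A T f₂ (a₂ b)
  have hy : y.φ.comp (f₁.1.comp a₁) = y.φ.comp (f₂.1.comp a₂) := by
    have e1 : y.φ.comp (f₁.1.comp a₁) = (etπ A T).comp ((etι A T y).comp (f₁.1.comp a₁)) := by
      ext b
      exact (etπ_ι A T y _).symm
    have e2 : y.φ.comp (f₂.1.comp a₂) = (etπ A T).comp ((etι A T y).comp (f₂.1.comp a₂)) := by
      ext b
      exact (etπ_ι A T y _).symm
    rw [e1, e2, hb₁, hb₂, ← AlgHom.comp_assoc, h, AlgHom.comp_assoc]
  obtain ⟨z, f, hf⟩ := exists_equalize A T E y _ _ hy
  rw [← hd]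
  have e1 : τ₁ (β (α (MvPolynomial.X 0))) = etι A T y (f₁.1 (a₁ (α (MvPolynomial.X 0)))) :=
    (congrArg (fun m => m (α (MvPolynomial.X 0))) hb₁).symm
  have e2 : τ₂ (β (α (MvPolynomial.X 0))) = etι A T y (f₂.1 (a₂ (α (MvPolynomial.X 0)))) :=
    (congrArg (fun m => m (α (MvPolynomial.X 0))) hb₂).symm
  rw [e1, e2, ← etι_map A T f, ← etι_map A T f (f₂.1 _)]
  congr 1
  exact congrArg (fun m => m (α (MvPolynomial.X 0))) hf

/-- for an ind-étale algebra `D`, the coreflection is `D` itself -/
theorem etπ_bijective_of_hasFactorization (D : Type u) [CommRing D] [Algebra A D]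
    (hD : HasFactorization (etaleClass A) D) : Function.Bijective (etπ A D) := by
  constructor
  · rw [injective_iff_map_eq_zero]
    intro c hc
    obtain ⟨x, a, rfl⟩ := etι_jointly_surjective A D c
    rw [etπ_ι] at hc
    have := obj_etale D x
    let K : Ideal x.Q := Ideal.span {a}
    have hK : K.FG := Submodule.fg_span (Set.finite_singleton _)
    have : Algebra.FinitePresentation A (x.Q ⧸ K) := Algebra.FinitePresentation.quotient hK
    let φK : (x.Q ⧸ K) →ₐ[A] D := Ideal.Quotient.liftₐ K x.φ (by
      intro r hr
      obtain ⟨s, rfl⟩ := Ideal.mem_span_singleton'.mp hr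
      rw [map_mul, hc, mul_zero])
    obtain ⟨F, _, _, hF, α, β, hαβ⟩ := hD (x.Q ⧸ K) φK
    obtain ⟨z, ez, hz⟩ := exists_obj etaleClass_isGood F hF β
    let f : x ⟶ z := ⟨(ez.symm.toAlgHom.comp α).comp (Ideal.Quotient.mkₐ A K), by
      rw [hz]
      ext r
      have h1 : β (α (Ideal.Quotient.mk K r)) = φK (Ideal.Quotient.mk K r) :=
        congrArg (fun m => m (Ideal.Quotient.mk K r)) hαβ
      have h2 : φK (Ideal.Quotient.mk K r) = x.φ r := rfl
      simpa using h1.trans h2⟩
    rw [← etι_map A D f a]
    have : f.1 a = 0 := by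
      change ez.symm (α (Ideal.Quotient.mk K a)) = 0
      have : Ideal.Quotient.mk K a = 0 :=
        Ideal.Quotient.eq_zero_iff_mem.mpr (Ideal.subset_span rfl)
      rw [this, map_zero, map_zero]
    rw [this, map_zero]
  · intro d
    obtain ⟨E, _, _, hE, α, β, hαβ⟩ := hD (MvPolynomial (Fin 1) A)
      (MvPolynomial.aeval (fun _ => d))
    have hd : β (α (MvPolynomial.X 0)) = d := by
      have h1 : β (α (MvPolynomial.X 0)) =
          MvPolynomial.aeval (fun _ => d) (MvPolynomial.X (0 : Fin 1)) :=
        congrArg (fun m => m (MvPolynomial.X 0)) hαβ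
      rwa [MvPolynomial.aeval_X] at h1
    obtain ⟨z, ez, hz⟩ := exists_obj etaleClass_isGood E hE β
    refine ⟨etι A D z (ez.symm (α (MvPolynomial.X 0))), ?_⟩
    rw [etπ_ι, hz]
    simpa using hd

end Coreflection

section Functoriality

variable {A : Type u} [CommRing A] {D T : Type u} [CommRing D] [CommRing T] [Algebra A D]
  [Algebra A T] (σ : D →ₐ[A] T)

/-- push an object forward along `σ : D → T` -/
noncomputable abbrev Obj.push (x : Obj (etaleClass A) D) : Obj (etaleClass A) T :=
  ⟨x.n, x.I, x.mem, σ.comp x.φ⟩

/-- push a morphism forward -/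
noncomputable def pushHom {x y : Obj (etaleClass A) D} (f : x ⟶ y) : x.push σ ⟶ y.push σ :=
  ⟨f.1, by
    change (σ.comp y.φ).comp f.1 = σ.comp x.φ
    rw [AlgHom.comp_assoc, f.2]⟩

/-- the cocone defining functoriality of the coreflection -/
noncomputable def etMapCocone : Cocone (objDiagram (ℰ := etaleClass A) (B := D)) where
  pt := (etCocone A T).pt
  ι :=
    { app := fun x => (etCocone A T).ι.app (x.push σ)
      naturality := fun x y f => by
        have := (etCocone A T).w (pushHom σ f)
        exact this.trans (Category.comp_id _).symm }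

/-- functoriality of the coreflection -/
noncomputable def etMap : Et A D →ₐ[A] Et A T :=
  { toRingHom := ((etIsColimit A D).desc (etMapCocone σ)).right.hom
    commutes' := fun a =>
      congrArg (fun m => m.hom a) (Under.w ((etIsColimit A D).desc (etMapCocone σ))) }

theorem etMap_ι (x : Obj (etaleClass A) D) (a : x.Q) :
    etMap σ (etι A D x a) = etι A T (x.push σ) a := by
  have := (etIsColimit A D).fac (etMapCocone σ) x
  exact congrArg (fun m => m.right.hom a) this

theorem etπ_etMap (c : Et A D) : etπ A T (etMap σ c) = σ (etπ A D c) := by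
  obtain ⟨x, a, rfl⟩ := etι_jointly_surjective A D c
  rw [etMap_ι, etπ_ι A D x a]
  exact etπ_ι A T (x.push σ) a

/-- existence part of the coreflection property: maps from ind-étale algebras to `T` lift to
the coreflection -/
theorem exists_lift_of_hasFactorization (hD : HasFactorization (etaleClass A) D) :
    ∃ τ : D →ₐ[A] Et A T, (etπ A T).comp τ = σ := by
  let e : Et A D ≃ₐ[A] D := AlgEquiv.ofBijective (etπ A D)
    (etπ_bijective_of_hasFactorization A D hD)
  refine ⟨(etMap σ).comp e.symm.toAlgHom, ?_⟩
  ext d
  change etπ A T (etMap σ (e.symm d)) = σ d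
  rw [etπ_etMap]
  congr 1
  exact e.apply_symm_apply d

end Functoriality

end Groth.Agent.Lib.Helper4
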