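import Mathlib
import Groth.Agent.Lib.Helper4.EtaleCoreflection
import Groth.Agent.Lib.Helper37.HenselEtale

/-!
# Helper library (helper4): henselian local ind-étale algebras are coreflections of their
residue fields
-/

set_option autoImplicit false

universe u

open CategoryTheory CategoryTheory.Limits TensorProduct

namespace Groth.Agent.Lib.Helper4

section HL

variable {R S K : Type u} [CommRing R] [CommRing S] [Field K] [HenselianLocalRing S]
  [Algebra R S] [Algebra R K] (u : S →ₐ[R] K) (hu : Function.Surjective u)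
  (hku : RingHom.ker u.toRingHom = IsLocalRing.maximalIdeal S)

include hu hku in
/-- maps from étale algebras to the residue field of a henselian local ring lift -/
theorem exists_lift_henselian (E : Type u) [CommRing E] [Algebra R E] [Algebra.Etale R E]
    (φ : E →ₐ[R] K) : ∃ a : E →ₐ[R] S, u.comp a = φ := by
  let _ : Algebra S K := u.toRingHom.toAlgebra
  have : IsScalarTower R S K := IsScalarTower.of_algebraMap_eq (fun r => (u.commutes r).symm)
  let σ₀ : S ⊗[R] E →ₐ[S] K :=
    Algebra.TensorProduct.lift (Algebra.ofId S K) φ (fun _ _ => Commute.all _ _)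
  have hsurj : Function.Surjective (Algebra.ofId S K) := hu
  let eK : (S ⧸ RingHom.ker (Algebra.ofId S K)) ≃ₐ[S] K :=
    Ideal.quotientKerAlgEquivOfSurjective hsurj
  have hker : RingHom.ker (Algebra.ofId S K) = IsLocalRing.maximalIdeal S := hku
  let eK' : (S ⧸ IsLocalRing.maximalIdeal S) ≃ₐ[S] K :=
    (Ideal.quotientEquivAlgOfEq S hker.symm).trans eK
  let σ : S ⊗[R] E →ₐ[S] S ⧸ IsLocalRing.maximalIdeal S := eK'.symm.toAlgHom.comp σ₀
  obtain ⟨τ, hτ⟩ := Groth.Agent.Lib.Helper37.exists_lift_of_etale (IsLocalRing.maximalIdeal S) σ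
  refine ⟨(τ.restrictScalars R).comp Algebra.TensorProduct.includeRight, ?_⟩
  ext x
  have h1 : Ideal.Quotient.mk _ (τ (1 ⊗ₜ x)) = σ (1 ⊗ₜ x) :=
    congrArg (fun m => m (1 ⊗ₜ x)) hτ
  have h2 : eK' (Ideal.Quotient.mk _ (τ (1 ⊗ₜ x))) = u (τ (1 ⊗ₜ x)) := rfl
  have h3 : eK' (σ (1 ⊗ₜ x)) = φ x := by
    change eK' (eK'.symm (σ₀ (1 ⊗ₜ x))) = φ x
    rw [AlgEquiv.apply_symm_apply]
    simp [σ₀]
  change u (τ (1 ⊗ₜ x)) = φ x
  rw [← h2, h1, h3]

include hku in
/-- lifts are unique -/
theorem lift_henselian_unique (E : Type u) [CommRing E] [Algebra R E] [Algebra.Etale R E]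
    (a b : E →ₐ[R] S) (h : u.comp a = u.comp b) : a = b := by
  obtain ⟨e, he, hsp⟩ := exists_idempotent_diag (A := R) E
  let m : E ⊗[R] E →ₐ[R] S := Algebra.TensorProduct.productMap a b
  have he0 : Algebra.TensorProduct.lmul' R e = 0 := by
    have : e ∈ KaehlerDifferential.ideal R E := hsp ▸ Ideal.subset_span rfl
    exact this
  have hm : u.comp m = (u.comp a).comp (Algebra.TensorProduct.lmul' R) := by
    apply Algebra.TensorProduct.ext'
    intro x y
    have h2 := congrArg (fun k => k y) h
    simp only [AlgHom.comp_apply] at h2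
    simp [m, h2]
  have hme : m e = 0 := by
    have hid : IsIdempotentElem (m e) := he.map m
    have hmem : m e ∈ IsLocalRing.maximalIdeal S := by
      rw [← hku]
      change u (m e) = 0
      have := congrArg (fun k => k e) hm
      simp only [AlgHom.comp_apply] at this
      rw [this, he0, map_zero, map_zero]
    have hunit : IsUnit (1 - m e) := by
      by_contra hnu
      have h1 : (1 - m e) ∈ IsLocalRing.maximalIdeal S := (IsLocalRing.mem_maximalIdeal _).mpr hnu
      have : (1 : S) ∈ IsLocalRing.maximalIdeal S := by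
        have := Ideal.add_mem _ h1 hmem
        simp at this
      exact (Ideal.ne_top_iff_one _).mp (IsLocalRing.maximalIdeal.isMaximal S).ne_top this
    have h0 : m e * (1 - m e) = 0 := hid.mul_one_sub_self
    exact (hunit.mul_left_eq_zero).mp h0
  ext x
  have hmem : ((1 : E) ⊗ₜ[R] x - x ⊗ₜ[R] (1 : E)) ∈ KaehlerDifferential.ideal R E :=
    KaehlerDifferential.one_smul_sub_smul_one_mem_ideal R x
  rw [hsp, Ideal.mem_span_singleton'] at hmem
  obtain ⟨t, ht⟩ := hmem
  have h2 := congrArg m ht
  rw [map_mul, hme, mul_zero, map_sub] at h2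
  have h3 : m ((1 : E) ⊗ₜ[R] x) = b x := by simp [m]
  have h4 : m (x ⊗ₜ[R] (1 : E)) = a x := by simp [m]
  rw [h3, h4] at h2
  exact (sub_eq_zero.mp h2.symm).symm

include hku in
/-- maps from ind-étale algebras to a henselian local ring are determined by their reduction to
the residue field -/
theorem hom_henselian_ext (D : Type u) [CommRing D] [Algebra R D]
    (hD : HasFactorization (etaleClass R) D) (f g : D →ₐ[R] S) (h : u.comp f = u.comp g) :
    f = g := by
  ext d
  obtain ⟨E, _, _, hE, α, β, hαβ⟩ := hD (MvPolynomial (Fin 1) R)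
    (MvPolynomial.aeval (fun _ => d))
  have hE' : Algebra.Etale R E := hE
  have hd : β (α (MvPolynomial.X 0)) = d := by
    have h1 : β (α (MvPolynomial.X 0)) =
        MvPolynomial.aeval (fun _ => d) (MvPolynomial.X (0 : Fin 1)) :=
      congrArg (fun m => m (MvPolynomial.X 0)) hαβ
    rwa [MvPolynomial.aeval_X] at h1
  have := lift_henselian_unique u hku E (f.comp β) (g.comp β) (by
    rw [← AlgHom.comp_assoc, h, AlgHom.comp_assoc])
  rw [← hd]
  exact congrArg (fun m => m (α (MvPolynomial.X 0))) this

/-- the chosen lift of an object -/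
noncomputable def henselLift (x : Obj (etaleClass R) K) : x.Q →ₐ[R] S :=
  haveI := obj_etale K x
  (exists_lift_henselian u hu hku x.Q x.φ).choose

theorem henselLift_spec (x : Obj (etaleClass R) K) : u.comp (henselLift u hu hku x) = x.φ :=
  haveI := obj_etale K x
  (exists_lift_henselian u hu hku x.Q x.φ).choose_spec

theorem henselLift_map {x y : Obj (etaleClass R) K} (f : x ⟶ y) :
    (henselLift u hu hku y).comp f.1 = henselLift u hu hku x := by
  have := obj_etale K x
  apply lift_henselian_unique u hku x.Q
  rw [← AlgHom.comp_assoc, henselLift_spec, henselLift_spec, f.2]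

/-- the cocone of lifts -/
noncomputable def henselCocone : Cocone (objDiagram (ℰ := etaleClass R) (B := K)) where
  pt := Under.mk (CommRingCat.ofHom (algebraMap R S))
  ι :=
    { app := fun x => Under.homMk (CommRingCat.ofHom (henselLift u hu hku x).toRingHom) (by
        ext r
        exact (henselLift u hu hku x).commutes r)
      naturality := fun x y f => by
        apply Under.UnderMorphism.ext
        apply CommRingCat.hom_ext
        ext a
        exact congrArg (fun m => m a) (henselLift_map u hu hku f) }

/-- the map from the coreflection of the residue field -/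
noncomputable def ρS : Et R K →ₐ[R] S :=
  { toRingHom := ((etIsColimit R K).desc (henselCocone u hu hku)).right.hom
    commutes' := fun a =>
      congrArg (fun m => m.hom a) (Under.w ((etIsColimit R K).desc (henselCocone u hu hku))) }

theorem ρS_ι (x : Obj (etaleClass R) K) (a : x.Q) :
    ρS u hu hku (etι R K x a) = henselLift u hu hku x a := by
  have := (etIsColimit R K).fac (henselCocone u hu hku) x
  exact congrArg (fun m => m.right.hom a) this

theorem u_ρS : u.comp (ρS u hu hku) = etπ R K := by
  ext c
  obtain ⟨x, a, rfl⟩ := etι_jointly_surjective R K c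
  change u (ρS u hu hku (etι R K x a)) = _
  rw [ρS_ι, etπ_ι]
  exact congrArg (fun m => m a) (henselLift_spec u hu hku x)

include hu hku in
/-- a henselian local ind-étale `R`-algebra is the coreflection of its residue field -/
theorem exists_algEquiv_Et (hS : HasFactorization (etaleClass R) S) :
    ∃ ε : S ≃ₐ[R] Et R K, (etπ R K).comp ε.toAlgHom = u := by
  obtain ⟨τ, hτ⟩ := exists_lift_of_hasFactorization u hS
  have h1 : (ρS u hu hku).comp τ = AlgHom.id R S := by
    apply hom_henselian_ext u hku S hS
    rw [← AlgHom.comp_assoc, u_ρS, hτ, AlgHom.comp_id]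
  have h2 : τ.comp (ρS u hu hku) = AlgHom.id R (Et R K) := by
    apply etπ_comp_injective R K (Et R K)
      ((isIndEtale_iff_hasFactorization _).mp (isIndEtale_Et R K))
    rw [← AlgHom.comp_assoc, hτ, u_ρS, AlgHom.comp_id]
  exact ⟨AlgEquiv.ofAlgHom τ (ρS u hu hku) h2 h1, hτ⟩

end HL

end Groth.Agent.Lib.Helper4
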