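import Mathlib
import Groth.Agent.Lib.Helper46.WeaklyEtaleFlat

/-!
# Flatness ascends along `A → B` when the diagonal `B ⊗_A B → B` is flat (helper4)

A copy of helper46's argument (`Lib/Helper46/WeaklyEtaleFlat.lean`) using only flatness of the
multiplication map, plus: flatness descends along surjective ring maps, and the cancellation
property of weakly étale algebras.
-/

set_option autoImplicit false
set_option linter.style.haveILetI false
universe u

open TensorProduct

namespace Groth.Agent.Lib.Helper4.FlatDiag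

open Groth.Agent.Lib.Helper46.WeaklyEtaleFlat

section
variable (A B : Type u) [CommRing A] [CommRing B] [Algebra A B]

lemma exists_unit_like' (h : (Algebra.TensorProduct.lmul' A (S := B)).Flat) {ι : Type*} (s : Finset ι) (t : ι → B ⊗[A] B)
    (ht : ∀ i ∈ s, Algebra.TensorProduct.lmul' A (S := B) (t i) = 0) :
    ∃ e : B ⊗[A] B, Algebra.TensorProduct.lmul' A (S := B) e = 1 ∧ ∀ i ∈ s, e * t i = 0 := by
  classical
  letI alg : Algebra (B ⊗[A] B) B := (Algebra.TensorProduct.lmul' A (S := B)).toRingHom.toAlgebra
  have hflat : Module.Flat (B ⊗[A] B) B := h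
  have hsurj : Function.Surjective (Algebra.linearMap (B ⊗[A] B) B) := by
    intro b
    exact ⟨b ⊗ₜ 1, by
      show Algebra.TensorProduct.lmul' A (S := B) (b ⊗ₜ 1) = b
      rw [Algebra.TensorProduct.lmul'_apply_tmul, mul_one]⟩
  obtain ⟨J, hJ⟩ : ∃ J : Ideal (B ⊗[A] B), J = LinearMap.ker (Algebra.linearMap (B ⊗[A] B) B) :=
    ⟨_, rfl⟩
  have hmem : ∀ x : B ⊗[A] B, x ∈ J ↔ Algebra.TensorProduct.lmul' A (S := B) x = 0 := by
    intro x; rw [hJ]; exact Iff.rfl
  have hpure : J.Pure := by
    rw [hJ]
    exact Module.Flat.of_linearEquiv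
      ((Algebra.linearMap (B ⊗[A] B) B).quotKerEquivOfSurjective hsurj)
  induction s using Finset.induction_on with
  | empty => exact ⟨1, map_one _, by simp⟩
  | insert i s hi ih =>
    obtain ⟨e, he1, he⟩ := ih (fun j hj => ht j (Finset.mem_insert_of_mem hj))
    have hti : t i ∈ J := (hmem _).mpr (ht i (Finset.mem_insert_self i s))
    obtain ⟨y, hy, hxy⟩ := Ideal.exists_eq_mul_of_pure hti
    refine ⟨e * (1 - y), ?_, ?_⟩
    · rw [map_mul, he1, map_sub, map_one, (hmem y).mp hy, sub_zero, one_mul]
    · intro j hj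
      rcases Finset.mem_insert.mp hj with rfl | hj
      · have : (1 - y) * t j = 0 := by
          rw [sub_mul, one_mul, mul_comm y, ← hxy, sub_self]
        rw [mul_assoc, this, mul_zero]
      · rw [mul_right_comm, he j hj, zero_mul]

/-- An `A`-flat `B`-module is `B`-flat when `B ⊗_A B → B` is flat. -/
theorem flat_of_flat_of_flat_lmul' (h : (Algebra.TensorProduct.lmul' A (S := B)).Flat)
    (Z : Type u) [AddCommGroup Z] [Module A Z] [Module B Z] [IsScalarTower A B Z]
    [Module.Flat A Z] : Module.Flat B Z := by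
  rw [Module.Flat.iff_forall_isTrivialRelation]
  intro l f x hfx
  obtain ⟨t, htdef⟩ : ∃ t : Fin l → B ⊗[A] B, ∀ i, t i = f i ⊗ₜ[A] (1 : B) - (1 : B) ⊗ₜ[A] f i :=
    ⟨_, fun _ => rfl⟩
  have ht : ∀ i ∈ (Finset.univ : Finset (Fin l)),
      Algebra.TensorProduct.lmul' A (S := B) (t i) = 0 := by
    intro i _
    rw [htdef, map_sub, Algebra.TensorProduct.lmul'_apply_tmul,
      Algebra.TensorProduct.lmul'_apply_tmul, mul_one, one_mul, sub_self]
  obtain ⟨e, he1, he⟩ := exists_unit_like' A B h Finset.univ t ht
  have hy : ∑ i, f i • phi (A := A) (x i) e = 0 := by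
    have h1 : ∀ i, f i • phi (A := A) (x i) e =
        phi (x i) (t i * e) + phi (f i • x i) e := by
      intro i
      rw [smul_phi, phi_smul, ← map_add, ← add_mul, htdef, sub_add_cancel]
    simp_rw [h1]
    rw [Finset.sum_add_distrib]
    have h2 : ∀ i, phi (A := A) (x i) (t i * e) = 0 := by
      intro i; rw [mul_comm, he i (Finset.mem_univ i), map_zero]
    simp_rw [h2]
    rw [Finset.sum_const_zero, zero_add]
    have h3 : ∀ s : Finset (Fin l),
        ∑ i ∈ s, phi (A := A) (f i • x i) e = phi (∑ i ∈ s, f i • x i) e := by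
      classical
      intro s
      induction s using Finset.induction_on with
      | empty => rw [Finset.sum_empty, Finset.sum_empty, phi_zero]
      | insert i s hi ih => rw [Finset.sum_insert hi, Finset.sum_insert hi, phi_add, ih]
    rw [h3, hfx, phi_zero]
  obtain ⟨k, a, z, hz, ha⟩ := Module.Flat.isTrivialRelation_of_sum_smul_eq_zero hy
  refine ⟨k, a, fun j => muZ (A := A) (z j), fun i => ?_, ha⟩
  have := congrArg (muZ (A := A)) (hz i)
  rw [muZ_phi, he1, one_smul, map_sum] at this
  rw [this]
  exact Finset.sum_congr rfl fun j _ => map_smul _ _ _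


end

section Descent

/-- flatness descends along a surjective ring map: an `R'`-module which is flat over `R` is flat
over `R'` when `R → R'` is surjective -/
theorem flat_of_surjective {R R' N : Type*} [CommRing R] [CommRing R'] [Algebra R R']
    [AddCommGroup N] [Module R N] [Module R' N] [IsScalarTower R R' N]
    (hs : Function.Surjective (algebraMap R R')) [Module.Flat R N] : Module.Flat R' N := by
  rw [Module.Flat.iff_forall_isTrivialRelation]
  intro l f' x hfx
  choose f hf using fun i => hs (f' i)
  have h0 : ∑ i, f i • x i = 0 := by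
    rw [← hfx]
    refine Finset.sum_congr rfl fun i _ => ?_
    rw [← hf i, algebraMap_smul]
  obtain ⟨k, a, z, hz, ha⟩ := Module.Flat.isTrivialRelation_of_sum_smul_eq_zero h0
  refine ⟨k, fun i j => algebraMap R R' (a i j), z, fun i => ?_, fun j => ?_⟩
  · rw [hz i]
    refine Finset.sum_congr rfl fun j _ => ?_
    rw [algebraMap_smul]
  · have := congrArg (algebraMap R R') (ha j)
    rw [map_sum, map_zero] at this
    rw [← this]
    refine Finset.sum_congr rfl fun i _ => ?_
    rw [map_mul, hf i]

theorem ringHomFlat_of_comp_surjective {R R' S : Type*} [CommRing R] [CommRing R'] [CommRing S]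
    (π : R →+* R') (hπ : Function.Surjective π) (g : R' →+* S) (h : (g.comp π).Flat) :
    g.Flat := by
  letI : Algebra R R' := π.toAlgebra
  letI : Algebra R' S := g.toAlgebra
  letI : Algebra R S := (g.comp π).toAlgebra
  haveI : IsScalarTower R R' S := IsScalarTower.of_algebraMap_eq fun _ => rfl
  haveI : Module.Flat R S := h
  exact flat_of_surjective (R := R) (R' := R') (N := S) hπ

end Descent

section Cancel

variable (A B C : Type u) [CommRing A] [CommRing B] [CommRing C]
  [Algebra A B] [Algebra A C] [Algebra B C] [IsScalarTower A B C]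

/-- cancellation for weakly étale algebras -/
theorem weaklyEtale_of_weaklyEtale [Algebra.WeaklyEtale A B] [Algebra.WeaklyEtale A C] :
    Algebra.WeaklyEtale B C := by
  refine ⟨flat_of_flat_of_flat_lmul' A B (Algebra.WeaklyEtale.flat_lmul' A B) C, ?_⟩
  -- the surjection `C ⊗[A] C → C ⊗[B] C`
  let π : C ⊗[A] C →ₐ[A] C ⊗[B] C :=
    Algebra.TensorProduct.lift
      ((Algebra.TensorProduct.includeLeft (R := B) (S := B) (A := C) (B := C)).restrictScalars A)
      ((Algebra.TensorProduct.includeRight (R := B) (A := C) (B := C)).restrictScalars A)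
      (fun _ _ => Commute.all _ _)
  have hπ_tmul : ∀ c c' : C, π (c ⊗ₜ c') = c ⊗ₜ[B] c' := by
    intro c c'
    simp [π, Algebra.TensorProduct.tmul_mul_tmul]
  have hπ : Function.Surjective π.toRingHom := by
    intro x
    induction x using TensorProduct.induction_on with
    | zero => exact ⟨0, map_zero _⟩
    | tmul c c' => exact ⟨c ⊗ₜ c', hπ_tmul c c'⟩
    | add x y hx hy =>
      obtain ⟨x', rfl⟩ := hx
      obtain ⟨y', rfl⟩ := hy
      exact ⟨x' + y', map_add _ _ _⟩
  refine ringHomFlat_of_comp_surjective π.toRingHom hπ _ ?_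
  have hcomp : (Algebra.TensorProduct.lmul' B (S := C)).toRingHom.comp π.toRingHom =
      (Algebra.TensorProduct.lmul' A (S := C)).toRingHom := by
    have : ((Algebra.TensorProduct.lmul' B (S := C)).restrictScalars A).comp π =
        Algebra.TensorProduct.lmul' A (S := C) := by
      apply Algebra.TensorProduct.ext'
      intro c c'
      simp only [AlgHom.comp_apply, hπ_tmul, AlgHom.restrictScalars_apply,
        Algebra.TensorProduct.lmul'_apply_tmul]
    exact congrArg (fun φ : C ⊗[A] C →ₐ[A] C => φ.toRingHom) this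
  rw [hcomp]
  exact Algebra.WeaklyEtale.flat_lmul' A C

end Cancel

end Groth.Agent.Lib.Helper4.FlatDiag
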