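import Groth.Agent.Lib.Helper4.AnFlat
import Groth.Agent.Lib.Helper21.AnPts

/-!
# Continuity of the comparison functor `An.eps X : X_et ⥤ X(ℂ)_cl` (helper4)

* `exists_pts_map_eq`: lifting `ℂ`-points along morphisms of étale `X`-schemes.
* `coverPreserving_eps`, `epsCont`.
-/
set_option autoImplicit false
open CategoryTheory CategoryTheory.Limits AlgebraicGeometry Topology TopologicalSpace Opposite
open An
namespace Groth.Agent.Lib.Helper4.AnFlat
section Cont

set_option linter.unusedSectionVars false
set_option linter.deprecated false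
variable (X : Scheme.{0}) [X.Over SC] [LocallyOfFiniteType (X ↘ SC)] [Fact EtaleLH]

/-- a `ℂ`-point of `U` lifts along a morphism of étale `X`-schemes hitting its underlying point -/
theorem exists_pts_map_eq {U V : X.Etale} (g : V ⟶ U) (a : Pts U.left) (v : V.left)
    (hv : g.left v = a.pt) : ∃ b : Pts V.left, Pts.map g.left b = a := by
  have hcl : IsClosed ({a.pt} : Set U.left) := Groth.Agent.Lib.Helper21.isClosed_pt U.left a
  obtain ⟨b, hb⟩ := Groth.Agent.Lib.Helper21.exists_pt_mem V.left
    (Z := g.left ⁻¹' {a.pt}) ⟨v, hv⟩ (hcl.preimage g.left.continuous).isLocallyClosed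
  refine ⟨b, Groth.Agent.Lib.Helper21.pt_injective U.left ?_⟩
  rw [Pts.pt_map]
  exact hb

set_option backward.isDefEq.respectTransparency.types false in
theorem coverPreserving_eps :
    CoverPreserving X.smallEtaleTopology (Cl.topology (Pts X)) (eps X) := by
  constructor
  intro U S hS
  have eX : X.smallEtaleTopology =
      (X.smallPretopology (P := EtCoh.etaleMP) (Q := EtCoh.etaleMP)).toGrothendieck :=
    Scheme.smallGrothendieckTopology_eq_toGrothendieck_smallPretopology X le_rfl
  rw [eX] at hS
  replace hS := (Scheme.mem_toGrothendieck_smallPretopology U S).1 hS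
  intro a
  obtain ⟨V, g, v, hg, -, hv⟩ := hS a.pt
  obtain ⟨b, hb⟩ := exists_pts_map_eq X g a v hv
  obtain ⟨e, hbe, he⟩ := isLocalHomeomorph_map_left X g b
  refine ⟨Cl.restrictOpen ((eps X).obj V) e.source e.open_source,
    Cl.restrictOpenι _ _ _ ≫ (eps X).map g, ⟨V, g, Cl.restrictOpenι _ _ _, hg, rfl⟩, ?_,
    ⟨⟨b, hbe⟩, hb⟩⟩
  have h1 : (Cl.restrictOpenι ((eps X).obj V) e.source e.open_source ≫ (eps X).map g).toFun =
      e.source.restrict e := by
    funext w
    change Pts.map g.left w.1 = e w.1
    rw [he]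
  rw [h1]
  exact e.isOpenEmbedding_restrict

theorem epsCont : EpsCont X :=
  Functor.isContinuous_of_coverPreserving (compatiblePreservingOfFlat _ _) (coverPreserving_eps X)

end Cont
end Groth.Agent.Lib.Helper4.AnFlat
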