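import Mathlib
import Groth.Prelude.Def_AnEps
import Groth.Agent.Lib.Helper1.LanFlat

/-!
# The comparison functor `An.eps X : X_et ⥤ X(ℂ)_cl` is flat (helper4)

* `liftPt`, `continuous_liftPt`: for a pullback square of schemes over `ℂ` in which the first
  projection is a local homeomorphism on `ℂ`-points and `g` is locally injective on `ℂ`-points,
  the canonical map from a fibre product of spaces to the `ℂ`-points of the pullback is continuous.
* `preservesFiniteLimits_eps`, `representablyFlat_eps`.
* `epsPull_preservesFiniteLimits`.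
-/

set_option autoImplicit false
open CategoryTheory CategoryTheory.Limits AlgebraicGeometry Topology TopologicalSpace Opposite
open An

namespace Groth.Agent.Lib.Helper4.AnFlat

section Core

set_option linter.unusedSectionVars false

variable {P U V W : Scheme.{0}} [P.Over SC] [U.Over SC] [V.Over SC] [W.Over SC]
  {fst : P ⟶ U} {snd : P ⟶ V} {f : U ⟶ W} {g : V ⟶ W}
  [fst.IsOver SC] [snd.IsOver SC] [f.IsOver SC] [g.IsOver SC]

/-- the `ℂ`-point of a pullback determined by a compatible pair of `ℂ`-points -/
noncomputable def liftPt (hP : IsPullback fst snd f g) (u : Pts U) (v : Pts V)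
    (h : Pts.map f u = Pts.map g v) : Pts P :=
  ⟨hP.lift u.1 v.1 (congrArg Subtype.val h),
    (congrArg (hP.lift u.1 v.1 (congrArg Subtype.val h) ≫ ·) (comp_over fst SC).symm).trans
      ((Category.assoc _ _ _).symm.trans
        ((congrArg (· ≫ U ↘ SC) (hP.lift_fst _ _ _)).trans u.2))⟩

theorem map_fst_liftPt (hP : IsPullback fst snd f g) (u : Pts U) (v : Pts V)
    (h : Pts.map f u = Pts.map g v) : Pts.map fst (liftPt hP u v h) = u :=
  Subtype.ext (hP.lift_fst _ _ _)

theorem map_snd_liftPt (hP : IsPullback fst snd f g) (u : Pts U) (v : Pts V)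
    (h : Pts.map f u = Pts.map g v) : Pts.map snd (liftPt hP u v h) = v :=
  Subtype.ext (hP.lift_snd _ _ _)

theorem pts_ext (hP : IsPullback fst snd f g) {z z' : Pts P}
    (h1 : Pts.map fst z = Pts.map fst z') (h2 : Pts.map snd z = Pts.map snd z') : z = z' :=
  Subtype.ext (hP.hom_ext (congrArg Subtype.val h1) (congrArg Subtype.val h2))

theorem map_condition (hP : IsPullback fst snd f g) (z : Pts P) :
    Pts.map f (Pts.map fst z) = Pts.map g (Pts.map snd z) :=
  Subtype.ext (by
    change (z.1 ≫ fst) ≫ f = (z.1 ≫ snd) ≫ g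
    rw [Category.assoc, Category.assoc, hP.w])

theorem continuous_liftPt (hP : IsPullback fst snd f g)
    (hfst : IsLocalHomeomorph (Pts.map fst)) (hg : IsLocallyInjective (Pts.map g))
    {A : Type*} [TopologicalSpace A] (a : A → Pts U) (b : A → Pts V)
    (ha : Continuous a) (hb : Continuous b) (h : ∀ x, Pts.map f (a x) = Pts.map g (b x)) :
    Continuous (fun x => liftPt hP (a x) (b x) (h x)) := by
  rw [continuous_iff_continuousAt]
  intro x₀
  set z₀ := liftPt hP (a x₀) (b x₀) (h x₀) with hz₀
  let s := hfst.localInverseAt z₀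
  have hfz : Pts.map fst z₀ = a x₀ := map_fst_liftPt hP _ _ _
  have hsz : Pts.map snd z₀ = b x₀ := map_snd_liftPt hP _ _ _
  obtain ⟨N, hNo, hvN, hNinj⟩ := hg (b x₀)
  -- the three neighbourhood conditions
  have h1 : ∀ᶠ x in 𝓝 x₀, a x ∈ s.source := by
    apply ha.continuousAt.eventually_mem
    apply s.open_source.mem_nhds
    rw [← hfz]
    exact hfst.apply_self_mem_localInverseAt_source
  have hcont : ContinuousAt (fun x => Pts.map snd (s (a x))) x₀ := by
    apply (Pts.continuous_map snd).continuousAt.comp
    apply ContinuousAt.comp _ ha.continuousAt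
    apply s.continuousAt
    rw [← hfz]
    exact hfst.apply_self_mem_localInverseAt_source
  have hval : Pts.map snd (s (a x₀)) = b x₀ := by
    rw [← hfz, hfst.localInverseAt_apply_self, hsz]
  have h2 : ∀ᶠ x in 𝓝 x₀, Pts.map snd (s (a x)) ∈ N := by
    apply hcont.eventually_mem
    rw [hval]
    exact hNo.mem_nhds hvN
  have h3 : ∀ᶠ x in 𝓝 x₀, b x ∈ N := hb.continuousAt.eventually_mem (hNo.mem_nhds hvN)
  have heq : (fun x => liftPt hP (a x) (b x) (h x)) =ᶠ[𝓝 x₀] fun x => s (a x) := by
    filter_upwards [h1, h2, h3] with x hx1 hx2 hx3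
    have hf1 : Pts.map fst (s (a x)) = a x := hfst.apply_localInverseAt_of_mem hx1
    apply pts_ext hP
    · rw [map_fst_liftPt, hf1]
    · rw [map_snd_liftPt]
      apply hNinj hx3 hx2
      rw [← h x, ← map_condition hP, hf1]
  have hc : ContinuousAt (fun x => s (a x)) x₀ := by
    apply ContinuousAt.comp _ ha.continuousAt
    apply s.continuousAt
    rw [← hfz]
    exact hfst.apply_self_mem_localInverseAt_source
  exact hc.congr heq.symm

end Core

section Eps
variable (X : Scheme.{0}) [X.Over SC] [LocallyOfFiniteType (X ↘ SC)] [Fact EtaleLH]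

set_option linter.unusedSectionVars false

instance (U : X.Etale) : Etale U.hom := U.prop

set_option backward.isDefEq.respectTransparency.types false in
theorem etale_left {U V : X.Etale} (g : U ⟶ V) : Etale g.left := by
  have h1 : Etale (g.left ≫ V.hom) := by
    rw [MorphismProperty.Over.w g]; infer_instance
  exact Etale.of_comp g.left V.hom

instance lft_left (U : X.Etale) : LocallyOfFiniteType (U.left ↘ SC) := by
  show LocallyOfFiniteType (U.hom ≫ X ↘ SC)
  infer_instance

theorem isLocalHomeomorph_map_left {U V : X.Etale} (g : U ⟶ V) :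
    IsLocalHomeomorph (Pts.map g.left) := by
  have := etale_left X g
  exact (Fact.out : EtaleLH) U.left V.left g.left

set_option backward.isDefEq.respectTransparency.types false in
theorem isPullback_left {U V W : X.Etale} (f : U ⟶ W) (g : V ⟶ W) :
    IsPullback (pullback.fst f g).left (pullback.snd f g).left f.left g.left := by
  have h := (IsPullback.of_hasPullback f g).map (Scheme.Etale.forget X ⋙ Over.forget X)
  exact h

set_option backward.isDefEq.respectTransparency.types false in
theorem eps_p_map {U V : X.Etale} (g : U ⟶ V) (z : Pts U.left) :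
    ((eps X).obj U).p z = ((eps X).obj V).p (Pts.map g.left z) :=
  Subtype.ext (by
    change z.1 ≫ U.hom = (z.1 ≫ g.left) ≫ V.hom
    rw [Category.assoc, MorphismProperty.Over.w])

theorem eps_condition {U V W : X.Etale} (f : U ⟶ W) (g : V ⟶ W) :
    (eps X).map (pullback.fst f g) ≫ (eps X).map f =
      (eps X).map (pullback.snd f g) ≫ (eps X).map g := by
  rw [← Functor.map_comp, ← Functor.map_comp, pullback.condition]

noncomputable def isLimitEps {U V W : X.Etale} (f : U ⟶ W) (g : V ⟶ W) :
    IsLimit (PullbackCone.mk ((eps X).map (pullback.fst f g)) ((eps X).map (pullback.snd f g))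
      (eps_condition X f g)) := by
  have hP := isPullback_left X f g
  have hcomp : ∀ (s : PullbackCone ((eps X).map f) ((eps X).map g)) (x : s.pt.E),
      Pts.map f.left (s.fst.toFun x) = Pts.map g.left (s.snd.toFun x) := fun s x =>
    congrArg (fun m => m.toFun x) s.condition
  refine PullbackCone.IsLimit.mk _
    (fun s => ⟨fun x => liftPt hP (s.fst.toFun x) (s.snd.toFun x) (hcomp s x), ?_, ?_⟩) ?_ ?_ ?_
  · exact continuous_liftPt hP (isLocalHomeomorph_map_left X _)
      (isLocalHomeomorph_map_left X g).isLocallyInjective _ _ s.fst.continuous s.snd.continuous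
      (hcomp s)
  · intro x
    have h1 := s.fst.over x
    have h2 := map_fst_liftPt hP (s.fst.toFun x) (s.snd.toFun x) (hcomp s x)
    exact (eps_p_map X (pullback.fst f g) _).trans ((congrArg _ h2).trans h1)
  · intro s
    apply Cl.hom_ext
    funext x
    exact map_fst_liftPt hP _ _ (hcomp s x)
  · intro s
    apply Cl.hom_ext
    funext x
    exact map_snd_liftPt hP _ _ (hcomp s x)
  · intro s m h1 h2
    apply Cl.hom_ext
    funext x
    apply pts_ext hP
    · exact (congrArg (fun m => m.toFun x) h1).trans (map_fst_liftPt hP _ _ (hcomp s x)).symm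
    · exact (congrArg (fun m => m.toFun x) h2).trans (map_snd_liftPt hP _ _ (hcomp s x)).symm


noncomputable instance preservesPullback_eps {U V W : X.Etale} (f : U ⟶ W) (g : V ⟶ W) :
    PreservesLimit (cospan f g) (eps X) := by
  apply preservesLimit_of_preserves_limit_cone (IsPullback.of_hasPullback f g).isLimit
  exact (isLimitMapConePullbackConeEquiv (eps X) pullback.condition).symm (isLimitEps X f g)

noncomputable instance preservesTerminal_eps :
    PreservesLimit (Functor.empty.{0} X.Etale) (eps X) := by
  apply preservesLimit_of_preserves_limit_cone (EtCore.topIsTerminal X)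
  exact (isLimitMapConeEmptyConeEquiv (eps X) (EtCoh.top X)).symm
    (IsTerminal.ofIso (Cl.selfIsTerminal (Pts X)) (epsTopIso X).symm)

noncomputable instance preservesFiniteLimits_eps : PreservesFiniteLimits (eps X) := by
  have h1 : PreservesLimitsOfShape (Discrete.{0} PEmpty) (eps X) :=
    preservesLimitsOfShape_pempty_of_preservesTerminal (eps X)
  have h2 : PreservesLimitsOfShape WalkingCospan (eps X) :=
    ⟨fun {K} => preservesLimit_of_iso_diagram (eps X) (diagramIsoCospan K).symm⟩
  exact preservesFiniteLimits_of_preservesTerminal_and_pullbacks (eps X)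

noncomputable instance representablyFlat_eps : RepresentablyFlat (eps X) :=
  flat_of_preservesFiniteLimits _


attribute [local instance] CategoryTheory.Limits.reflectsLimits_of_reflectsIsomorphisms in
set_option backward.isDefEq.respectTransparency.types false in
theorem epsPull_preservesFiniteLimits [EpsCont X] : PreservesFiniteLimits (epsPull X) := by
  have : PreservesFilteredColimitsOfSize.{0, 1} (forget AddCommGrpCat.{1}) :=
    preservesFilteredColimitsOfSize_shrink.{1, 1, 0, 1} _
  have : ∀ V : (Cl (Pts X))ᵒᵖ, IsFiltered (CostructuredArrow (eps X).op V) := fun V =>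
    IsFiltered.of_equivalence (structuredArrowOpEquivalence (eps X) (unop V))
  have : ∀ V : (Cl (Pts X))ᵒᵖ, PreservesColimitsOfShape (CostructuredArrow (eps X).op V)
      (forget AddCommGrpCat.{1}) := fun V =>
    PreservesFilteredColimitsOfSize.preserves_filtered_colimits _
  have : PreservesFiniteLimits ((eps X).op.lan :
      ((X.Etale)ᵒᵖ ⥤ AddCommGrpCat.{1}) ⥤ ((Cl (Pts X))ᵒᵖ ⥤ AddCommGrpCat.{1})) :=
    Groth.Agent.Lib.Helper1.LanFlat.lan_preservesFiniteLimits_of_flat
      (E := AddCommGrpCat.{1}) (eps X)
  exact Functor.sheafPullbackConstruction.preservesFiniteLimits (eps X)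
    AddCommGrpCat.{1} X.smallEtaleTopology (Cl.topology (Pts X))

end Eps

end Groth.Agent.Lib.Helper4.AnFlat
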