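import Mathlib.CategoryTheory.Adjunction.Unique
import Mathlib.CategoryTheory.Adjunction.Basic

/-!
# Generic adjunction coherence for base-change squares (helper4)

* `hom_ext_of_unit` : morphisms out of a left adjoint are determined by adjuncts.
* `bc_counit` : the counit/base-change compatibility in a square of adjunctions.
* `const_compat` : compatibility of the "pullback of constant object" isomorphisms in a square.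
-/

open CategoryTheory

namespace Groth.Agent.Lib.Helper4.BCAdj

universe v₀ v₁ v₂ v₃ v₄ u₀ u₁ u₂ u₃ u₄

section
variable {C : Type u₁} [Category.{v₁} C] {D : Type u₂} [Category.{v₂} D]

lemma hom_ext_of_unit {L : C ⥤ D} {R : D ⥤ C} (a : L ⊣ R) {x : C} {y : D} (φ ψ : L.obj x ⟶ y)
    (h : a.unit.app x ≫ R.map φ = a.unit.app x ≫ R.map ψ) : φ = ψ := by
  apply (a.homEquiv x y).injective
  simpa [Adjunction.homEquiv_unit] using h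

end

section Compat

variable {C : Type u₁} [Category.{v₁} C] {D : Type u₂} [Category.{v₂} D]

/-- `l : L1 ⟶ L2` and `r : R1 ⟶ R2` are compatible with the units. -/
def Compat {L1 L2 : C ⥤ D} {R1 R2 : D ⥤ C} (a1 : L1 ⊣ R1) (a2 : L2 ⊣ R2) (l : L1 ⟶ L2)
    (r : R1 ⟶ R2) : Prop :=
  ∀ x, a1.unit.app x ≫ R1.map (l.app x) ≫ r.app (L2.obj x) = a2.unit.app x

lemma Compat.trans {L1 L2 L3 : C ⥤ D} {R1 R2 R3 : D ⥤ C} {a1 : L1 ⊣ R1} {a2 : L2 ⊣ R2}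
    {a3 : L3 ⊣ R3} {l12 : L1 ⟶ L2} {l23 : L2 ⟶ L3} {r12 : R1 ⟶ R2} {r23 : R2 ⟶ R3}
    (h12 : Compat a1 a2 l12 r12) (h23 : Compat a2 a3 l23 r23) :
    Compat a1 a3 (l12 ≫ l23) (r12 ≫ r23) := by
  intro x
  have n := r12.naturality (l23.app x)
  rw [← h23 x, ← h12 x]
  simp only [NatTrans.comp_app, Functor.map_comp, Category.assoc]
  rw [reassoc_of% n]

lemma Compat.symm {L1 L2 : C ⥤ D} {R1 R2 : D ⥤ C} {a1 : L1 ⊣ R1} {a2 : L2 ⊣ R2} {l : L1 ≅ L2}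
    {r : R1 ≅ R2} (h : Compat a1 a2 l.hom r.hom) : Compat a2 a1 l.inv r.inv := by
  intro x
  have n := r.hom.naturality (l.inv.app x)
  rw [← h x]
  simp only [Category.assoc]
  rw [← reassoc_of% n]
  simp only [Iso.hom_inv_id_app, Category.comp_id]
  rw [← Functor.map_comp, Iso.hom_inv_id_app, Functor.map_id]
  exact Category.comp_id _

lemma compat_leftAdjointUniq {L1 L2 : C ⥤ D} {R : D ⥤ C} (a1 : L1 ⊣ R) (a2 : L2 ⊣ R) :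
    Compat a1 a2 (Adjunction.leftAdjointUniq a1 a2).hom (𝟙 R) := by
  intro x
  simp

lemma compat_ofNatIsoRight {L : C ⥤ D} {R R' : D ⥤ C} (a : L ⊣ R) (i : R ≅ R') :
    Compat a (a.ofNatIsoRight i) (𝟙 L) i.hom := by
  intro x
  simp

end Compat

section Square

variable {AY : Type u₁} [Category.{v₁} AY] {AX : Type u₂} [Category.{v₂} AX]
  {AY' : Type u₃} [Category.{v₃} AY'] {AX' : Type u₄} [Category.{v₄} AX']
  {Pf : AY ⥤ AX} {Rf : AX ⥤ AY} (af : Pf ⊣ Rf)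
  {Pg' : AX ⥤ AX'} {Rg' : AX' ⥤ AX} (ag' : Pg' ⊣ Rg')
  {Pg : AY ⥤ AY'} {Rg : AY' ⥤ AY} (ag : Pg ⊣ Rg)
  {Pf' : AY' ⥤ AX'} {Rf' : AX' ⥤ AY'} (af' : Pf' ⊣ Rf')
  (e : Pf ⋙ Pg' ⟶ Pg ⋙ Pf') (σ : Rg' ⋙ Rf ≅ Rf' ⋙ Rg)
  (he : ∀ N : AY, af.unit.app N ≫ Rf.map (ag'.unit.app (Pf.obj N)) ≫
      Rf.map (Rg'.map (e.app N)) ≫ σ.hom.app _ =
     ag.unit.app N ≫ Rg.map (af'.unit.app (Pg.obj N)))

include he in
lemma bc_counit (F : AX) :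
    Pg'.map (af.counit.app F) =
      e.app (Rf.obj F) ≫ Pf'.map ((ag.homEquiv _ _).symm (Rf.map (ag'.unit.app F) ≫ σ.hom.app _)) ≫
        af'.counit.app (Pg'.obj F) := by
  apply hom_ext_of_unit ag'
  apply hom_ext_of_unit af
  rw [← cancel_mono (σ.hom.app _)]
  dsimp only [Functor.comp_obj, Functor.id_obj]
  have h1 : af.unit.app (Rf.obj F) ≫ Rf.map (ag'.unit.app (Pf.obj (Rf.obj F)) ≫
      Rg'.map (Pg'.map (af.counit.app F))) = Rf.map (ag'.unit.app F) := by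
    have := ag'.unit.naturality (af.counit.app F)
    dsimp only [Functor.id_obj, Functor.comp_obj, Functor.id_map, Functor.comp_map] at this
    rw [← this, Functor.map_comp, af.right_triangle_components_assoc]
  rw [h1]
  obtain ⟨β, hβ⟩ : ∃ β : Pg.obj (Rf.obj F) ⟶ Rf'.obj (Pg'.obj F),
      β = (ag.homEquiv (Rf.obj F) (Rf'.obj (Pg'.obj F))).symm
        (Rf.map (ag'.unit.app F) ≫ σ.hom.app (Pg'.obj F)) := ⟨_, rfl⟩
  rw [← hβ]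
  have hβ' : ag.unit.app _ ≫ Rg.map β = Rf.map (ag'.unit.app F) ≫ σ.hom.app (Pg'.obj F) := by
    have := ag.homEquiv_unit (f := β)
    rw [← this, hβ, Equiv.apply_symm_apply]
  have h2 := he (Rf.obj F)
  have h3 := σ.hom.naturality (Pf'.map β ≫ af'.counit.app (Pg'.obj F))
  dsimp only [Functor.comp_obj, Functor.id_obj, Functor.comp_map] at h2 h3
  simp only [Functor.map_comp, Category.assoc]
  simp only [Functor.map_comp, Category.assoc] at h3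
  rw [h3]
  rw [reassoc_of% h2]
  rw [← hβ']
  have h4 := af'.unit.naturality β
  dsimp only [Functor.comp_obj, Functor.id_obj, Functor.comp_map, Functor.id_map] at h4
  rw [← Rg.map_comp_assoc, ← h4]
  simp only [← Functor.map_comp, Category.assoc]
  rw [af'.right_triangle_components, Category.comp_id]

end Square

section Const

variable {𝒢 : Type u₀} [Category.{v₀} 𝒢]

section TwoStep

variable {A0 : Type u₁} [Category.{v₁} A0] {A1 : Type u₂} [Category.{v₂} A1]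
  {A2 : Type u₃} [Category.{v₃} A2]
  {K0 : 𝒢 ⥤ A0} {Γ0 : A0 ⥤ 𝒢} (κ0 : K0 ⊣ Γ0)
  {K1 : 𝒢 ⥤ A1} {Γ1 : A1 ⥤ 𝒢} (κ1 : K1 ⊣ Γ1)
  {K2 : 𝒢 ⥤ A2} {Γ2 : A2 ⥤ 𝒢} (κ2 : K2 ⊣ Γ2)
  {P1 : A0 ⥤ A1} {R1 : A1 ⥤ A0} (a1 : P1 ⊣ R1)
  {P2 : A1 ⥤ A2} {R2 : A2 ⥤ A1} (a2 : P2 ⊣ R2)
  (γ1 : R1 ⋙ Γ0 ⟶ Γ1) (γ2 : R2 ⋙ Γ1 ⟶ Γ2)
  (π1 : K0 ⋙ P1 ⟶ K1) (π2 : K1 ⋙ P2 ⟶ K2)
  (h1 : ∀ M, κ0.unit.app M ≫ Γ0.map (a1.unit.app (K0.obj M)) ≫ Γ0.map (R1.map (π1.app M)) ≫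
    γ1.app (K1.obj M) = κ1.unit.app M)
  (h2 : ∀ M, κ1.unit.app M ≫ Γ1.map (a2.unit.app (K1.obj M)) ≫ Γ1.map (R2.map (π2.app M)) ≫
    γ2.app (K2.obj M) = κ2.unit.app M)

include h1 h2 in
lemma twoStep (M : 𝒢) :
    κ0.unit.app M ≫ Γ0.map (a1.unit.app (K0.obj M)) ≫
      Γ0.map (R1.map (a2.unit.app (P1.obj (K0.obj M)))) ≫
      Γ0.map (R1.map (R2.map (P2.map (π1.app M)))) ≫
      Γ0.map (R1.map (R2.map (π2.app M))) ≫
      γ1.app (R2.obj (K2.obj M)) ≫ γ2.app (K2.obj M) = κ2.unit.app M := by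
  have n1 := a2.unit.naturality (π1.app M)
  dsimp only [Functor.id_obj, Functor.comp_obj, Functor.id_map, Functor.comp_map] at n1
  have n2 := γ1.naturality (a2.unit.app (K1.obj M) ≫ R2.map (π2.app M))
  dsimp only [Functor.id_obj, Functor.comp_obj, Functor.id_map, Functor.comp_map] at n2
  simp only [Functor.map_comp, Category.assoc] at n2
  have n1' := congrArg (fun x => Γ0.map (R1.map x)) n1
  simp only [Functor.map_comp] at n1'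
  rw [← h2 M, ← h1 M]
  simp only [Category.assoc]
  rw [← reassoc_of% n2, reassoc_of% n1']

end TwoStep

section SquareConst

variable {AY : Type u₁} [Category.{v₁} AY] {AX : Type u₂} [Category.{v₂} AX]
  {AY' : Type u₃} [Category.{v₃} AY'] {AX' : Type u₄} [Category.{v₄} AX']
  {Pf : AY ⥤ AX} {Rf : AX ⥤ AY} (af : Pf ⊣ Rf)
  {Pg' : AX ⥤ AX'} {Rg' : AX' ⥤ AX} (ag' : Pg' ⊣ Rg')
  {Pg : AY ⥤ AY'} {Rg : AY' ⥤ AY} (ag : Pg ⊣ Rg)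
  {Pf' : AY' ⥤ AX'} {Rf' : AX' ⥤ AY'} (af' : Pf' ⊣ Rf')
  (e : Pf ⋙ Pg' ⟶ Pg ⋙ Pf') (σ : Rg' ⋙ Rf ≅ Rf' ⋙ Rg)
  (he : ∀ N : AY, af.unit.app N ≫ Rf.map (ag'.unit.app (Pf.obj N)) ≫
      Rf.map (Rg'.map (e.app N)) ≫ σ.hom.app _ =
     ag.unit.app N ≫ Rg.map (af'.unit.app (Pg.obj N)))
  {KY : 𝒢 ⥤ AY} {ΓY : AY ⥤ 𝒢} (κY : KY ⊣ ΓY)
  {KX : 𝒢 ⥤ AX} {ΓX : AX ⥤ 𝒢} (κX : KX ⊣ ΓX)
  {KY' : 𝒢 ⥤ AY'} {ΓY' : AY' ⥤ 𝒢} (κY' : KY' ⊣ ΓY')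
  {KX' : 𝒢 ⥤ AX'} {ΓX' : AX' ⥤ 𝒢} (κX' : KX' ⊣ ΓX')
  (γf : Rf ⋙ ΓY ≅ ΓX) (γg' : Rg' ⋙ ΓX ≅ ΓX') (γg : Rg ⋙ ΓY ≅ ΓY') (γf' : Rf' ⋙ ΓY' ≅ ΓX')
  (πf : KY ⋙ Pf ⟶ KX) (πg' : KX ⋙ Pg' ⟶ KX') (πg : KY ⋙ Pg ⟶ KY') (πf' : KY' ⋙ Pf' ⟶ KX')
  (hf : ∀ M, κY.unit.app M ≫ ΓY.map (af.unit.app (KY.obj M)) ≫ ΓY.map (Rf.map (πf.app M)) ≫
    γf.hom.app (KX.obj M) = κX.unit.app M)
  (hg' : ∀ M, κX.unit.app M ≫ ΓX.map (ag'.unit.app (KX.obj M)) ≫ ΓX.map (Rg'.map (πg'.app M)) ≫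
    γg'.hom.app (KX'.obj M) = κX'.unit.app M)
  (hg : ∀ M, κY.unit.app M ≫ ΓY.map (ag.unit.app (KY.obj M)) ≫ ΓY.map (Rg.map (πg.app M)) ≫
    γg.hom.app (KY'.obj M) = κY'.unit.app M)
  (hf' : ∀ M, κY'.unit.app M ≫ ΓY'.map (af'.unit.app (KY'.obj M)) ≫
    ΓY'.map (Rf'.map (πf'.app M)) ≫ γf'.hom.app (KX'.obj M) = κX'.unit.app M)
  (hG : ∀ N : AX', ΓY.map (σ.hom.app N) ≫ γg.hom.app (Rf'.obj N) ≫ γf'.hom.app N =
    γf.hom.app (Rg'.obj N) ≫ γg'.hom.app N)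

include he hf hg' hg hf' hG in
lemma const_compat (M : 𝒢) :
    e.app (KY.obj M) ≫ Pf'.map (πg.app M) ≫ πf'.app M = Pg'.map (πf.app M) ≫ πg'.app M := by
  apply hom_ext_of_unit ag'
  apply hom_ext_of_unit af
  apply hom_ext_of_unit κY
  rw [← cancel_mono (γf.hom.app _), ← cancel_mono (γg'.hom.app _)]
  dsimp only [Functor.comp_obj, Functor.id_obj]
  have t1 := twoStep κY κX κX' af ag' γf.hom γg'.hom πf πg' hf hg' M
  have t2 := twoStep κY κY' κX' ag af' γg.hom γf'.hom πg πf' hg hf' M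
  simp only [Functor.map_comp, Category.assoc]
  rw [t1]
  rw [← hG]
  have n1 := σ.hom.naturality (Pf'.map (πg.app M) ≫ πf'.app M)
  dsimp only [Functor.comp_obj, Functor.comp_map] at n1
  have n1' := congrArg (fun x => ΓY.map x) n1
  simp only [Functor.map_comp] at n1'
  rw [reassoc_of% n1']
  have he' := congrArg (fun x => ΓY.map x) (he (KY.obj M))
  simp only [Functor.map_comp] at he'
  dsimp only [Functor.comp_obj] at he'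
  rw [reassoc_of% he']
  exact t2

end SquareConst

end Const

/-- Inverse form of the constant-object compatibility (pure iso algebra). -/
lemma inv_form {𝒢 : Type u₀} [Category.{v₀} 𝒢]
    {AY : Type u₁} [Category.{v₁} AY] {AX : Type u₂} [Category.{v₂} AX]
    {AY' : Type u₃} [Category.{v₃} AY'] {AX' : Type u₄} [Category.{v₄} AX']
    {Pf : AY ⥤ AX} {Pg' : AX ⥤ AX'} {Pg : AY ⥤ AY'} {Pf' : AY' ⥤ AX'}
    (e : Pf ⋙ Pg' ⟶ Pg ⋙ Pf')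
    {KY : 𝒢 ⥤ AY} {KX : 𝒢 ⥤ AX} {KY' : 𝒢 ⥤ AY'} {KX' : 𝒢 ⥤ AX'}
    (πf : KY ⋙ Pf ≅ KX) (πg' : KX ⋙ Pg' ≅ KX') (πg : KY ⋙ Pg ≅ KY') (πf' : KY' ⋙ Pf' ≅ KX')
    (M : 𝒢)
    (h : e.app (KY.obj M) ≫ Pf'.map (πg.hom.app M) ≫ πf'.hom.app M =
      Pg'.map (πf.hom.app M) ≫ πg'.hom.app M) :
    (πg'.inv.app M ≫ Pg'.map (πf.inv.app M)) ≫ e.app (KY.obj M) =
      πf'.inv.app M ≫ Pf'.map (πg.inv.app M) := by
  have i1 : IsIso (Pf'.map (πg.hom.app M) ≫ πf'.hom.app M) := inferInstance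
  rw [← cancel_mono (Pf'.map (πg.hom.app M) ≫ πf'.hom.app M)]
  simp only [Category.assoc]
  rw [h]
  have h1 : Pg'.map (πf.inv.app M) ≫ Pg'.map (πf.hom.app M) = 𝟙 _ := by
    rw [← Functor.map_comp, Iso.inv_hom_id_app, Functor.map_id]
  have h2 : Pf'.map (πg.inv.app M) ≫ Pf'.map (πg.hom.app M) = 𝟙 _ := by
    rw [← Functor.map_comp, Iso.inv_hom_id_app, Functor.map_id]
  rw [reassoc_of% h1, reassoc_of% h2, Iso.inv_hom_id_app, Iso.inv_hom_id_app]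

end Groth.Agent.Lib.Helper4.BCAdj
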