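import Groth.Agent.Lib.Cohomology.Helper3_ExtFunct

/-!
# Ext-level compatibility in a square of exact functors (helper4)
-/

universe w₁ w₂ w₃ w₄ v₁ v₂ v₃ v₄ u₁ u₂ u₃ u₄

open CategoryTheory CategoryTheory.Limits CategoryTheory.Abelian
open Groth.Agent.Lib.Cohomology.ExtFunct

namespace Groth.Agent.Lib.Helper4.ConjSq

section
variable {C : Type u₁} [Category.{v₁} C] [Abelian C] [HasExt.{w₁} C]
variable {D : Type u₂} [Category.{v₂} D] [Abelian D] [HasExt.{w₂} D]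

lemma conjMap_comp_mk₀ (L : C ⥤ D) [L.Additive] [PreservesFiniteLimits L]
    [PreservesFiniteColimits L] {A B : C} {A' B' B'' : D} (α : A' ⟶ L.obj A) (β : L.obj B ⟶ B')
    (γ : B' ⟶ B'') (q : ℕ) (x : Ext.{w₁} A B q) :
    (conjMap L α β q x).comp (Ext.mk₀ γ) (add_zero q) = conjMap L α (β ≫ γ) q x := by
  rw [conjMap_apply, conjMap_apply, ← Ext.mk₀_comp_mk₀]
  simp only [Ext.comp_assoc_of_third_deg_zero]

end

variable {CY : Type u₁} [Category.{v₁} CY] [Abelian CY] [HasExt.{w₁} CY] [EnoughInjectives CY]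
variable {CX : Type u₂} [Category.{v₂} CX] [Abelian CX] [HasExt.{w₂} CX]
variable {CY' : Type u₃} [Category.{v₃} CY'] [Abelian CY'] [HasExt.{w₃} CY']
variable {CX' : Type u₄} [Category.{v₄} CX'] [Abelian CX'] [HasExt.{w₄} CX']

theorem conj_sq (Pf : CY ⥤ CX) (Pg' : CX ⥤ CX') (Pg : CY ⥤ CY') (Pf' : CY' ⥤ CX')
    [Pf.Additive] [PreservesFiniteLimits Pf] [PreservesFiniteColimits Pf]
    [Pg'.Additive] [PreservesFiniteLimits Pg'] [PreservesFiniteColimits Pg']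
    [Pg.Additive] [PreservesFiniteLimits Pg] [PreservesFiniteColimits Pg]
    [Pf'.Additive] [PreservesFiniteLimits Pf'] [PreservesFiniteColimits Pf']
    (e : Pf ⋙ Pg' ≅ Pg ⋙ Pf') {ZY : CY} {ZX : CX} {ZY' : CY'} {ZX' : CX'}
    (cf : ZX ⟶ Pf.obj ZY) (cg' : ZX' ⟶ Pg'.obj ZX) (cg : ZY' ⟶ Pg.obj ZY)
    (cf' : ZX' ⟶ Pf'.obj ZY') {B : CY} {F : CX} {B' : CY'}
    (εf : Pf.obj B ⟶ F) (εf' : Pf'.obj B' ⟶ Pg'.obj F) (bc : Pg.obj B ⟶ B')
    (hA : (cg' ≫ Pg'.map cf) ≫ e.hom.app ZY = cf' ≫ Pf'.map cg)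
    (hB : e.inv.app B ≫ Pg'.map εf = Pf'.map bc ≫ εf') (q : ℕ) (ζ : Ext.{w₁} ZY B q) :
    conjMap Pg' cg' (𝟙 _) q (conjMap Pf cf εf q ζ) =
      conjMap Pf' cf' εf' q ((conjMap Pg cg (𝟙 _) q ζ).comp (Ext.mk₀ bc) (add_zero q)) := by
  have : PreservesFiniteLimits (Pf ⋙ Pg') := comp_preservesFiniteLimits Pf Pg'
  have : PreservesFiniteColimits (Pf ⋙ Pg') := comp_preservesFiniteColimits Pf Pg'
  have : PreservesFiniteLimits (Pg ⋙ Pf') := comp_preservesFiniteLimits Pg Pf'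
  have : PreservesFiniteColimits (Pg ⋙ Pf') := comp_preservesFiniteColimits Pg Pf'
  rw [conjMap_comp_mk₀, conjMap_comp Pf Pg', conjMap_comp Pg Pf',
    conjMap_natIso (Pf ⋙ Pg') (Pg ⋙ Pf') e]
  refine conjMap_congr _ hA ?_ q ζ
  rw [Category.comp_id, Category.id_comp]
  exact hB

end Groth.Agent.Lib.Helper4.ConjSq
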