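import Mathlib
import Groth.Prelude.Def_SGA4b

/-!
# Helper library (helper4): the small étale site of a separably closed field

* `exists_section`: a scheme étale over a separably closed field `k` has a `k`-section through every point;
* the one-object category `{Spec k}` is a dense subsite of `(Spec k)_ét`;
* `isEquivalence_sections`: global sections is an equivalence `Sh((Spec k)_ét, Type (u+1)) ≌ Type (u+1)`.
-/

set_option autoImplicit false
open CategoryTheory CategoryTheory.Limits AlgebraicGeometry Opposite
universe u

namespace Groth.Agent.Lib.Helper4.SepClosedSite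

variable (k : Type u) [Field k] [IsSepClosed k]

set_option backward.isDefEq.respectTransparency.types false in
/-- the canonical map from a field `k` to the residue field of `Spec k` at a point. -/
noncomputable def toRes (y : Spec (CommRingCat.of k)) :
    CommRingCat.of k ⟶ (Spec (CommRingCat.of k)).residueField y :=
  CommRingCat.ofHom (algebraMap k y.asIdeal.ResidueField) ≫
    (Scheme.Spec.residueFieldIso (CommRingCat.of k) y).inv

set_option backward.isDefEq.respectTransparency.types false in
theorem SpecMap_toRes (y : Spec (CommRingCat.of k)) :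
    Spec.map (toRes k y) = (Spec (CommRingCat.of k)).fromSpecResidueField y := by
  rw [toRes, Spec.map_comp]
  exact Scheme.Spec.map_residueFieldIso_inv_eq_fromSpecResidueField _ _

set_option backward.isDefEq.respectTransparency.types false in
theorem toRes_bijective (y : Spec (CommRingCat.of k)) :
    Function.Bijective (toRes k y).hom := by
  have h1 : Function.Bijective (algebraMap k y.asIdeal.ResidueField) := by
    haveI : y.asIdeal.IsMaximal := by
      have : y.asIdeal = ⊥ := by
        rcases Ideal.eq_bot_or_top y.asIdeal with h | h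
        · exact h
        · exact absurd h y.isPrime.ne_top
      rw [this]
      exact Ideal.bot_isMaximal
    exact ⟨(algebraMap k y.asIdeal.ResidueField).injective,
      Ideal.algebraMap_residueField_surjective y.asIdeal⟩
  have h2 : Function.Bijective (Scheme.Spec.residueFieldIso (CommRingCat.of k) y).inv.hom :=
    ConcreteCategory.bijective_of_isIso (Scheme.Spec.residueFieldIso (CommRingCat.of k) y).inv
  exact h2.comp h1

/-- Sections through any point of a scheme étale over a separably closed field. -/
theorem exists_section {U : Scheme.{u}} (f : U ⟶ Spec (CommRingCat.of k)) [Etale f] (x : U) :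
    ∃ σ : Spec (CommRingCat.of k) ⟶ U, σ ≫ f = 𝟙 _ ∧ x ∈ Set.range σ.base := by
  set y := f.base x with hy
  let L := (Spec (CommRingCat.of k)).residueField y
  let ψ : k →+* L := (toRes k y).hom
  let alg0 : Algebra L (U.residueField x) := (f.residueFieldMap x).hom.toAlgebra
  have hsep0 : Algebra.IsSeparable L (U.residueField x) := inferInstance
  let φ : k →+* U.residueField x := (f.residueFieldMap x).hom.comp ψ
  let alg1 : Algebra k (U.residueField x) := φ.toAlgebra
  let e₁ : L ≃+* k := (RingEquiv.ofBijective ψ (toRes_bijective k y)).symm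
  have hsep : Algebra.IsSeparable k (U.residueField x) := by
    refine Algebra.IsSeparable.of_equiv_equiv e₁ (RingEquiv.refl _) ?_
    ext a
    obtain ⟨b, rfl⟩ := (toRes_bijective k y).2 a
    have : e₁ (ψ b) = b := (RingEquiv.ofBijective ψ (toRes_bijective k y)).symm_apply_apply b
    simp only [RingHom.comp_apply, RingEquiv.coe_toRingHom, RingEquiv.refl_apply]
    rw [this]
    rfl
  have hφ : Function.Bijective φ :=
    ⟨φ.injective, IsSepClosed.algebraMap_surjective k (U.residueField x)⟩
  let eφ : k ≃+* U.residueField x := RingEquiv.ofBijective φ hφ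
  let θ : U.residueField x ⟶ CommRingCat.of k := CommRingCat.ofHom eφ.symm.toRingHom
  refine ⟨Spec.map θ ≫ U.fromSpecResidueField x, ?_, ?_⟩
  · rw [Category.assoc, ← Scheme.Hom.SpecMap_residueFieldMap_fromSpecResidueField,
      ← SpecMap_toRes, ← Spec.map_comp, ← Spec.map_comp]
    rw [← Spec.map_id]
    congr 1
    ext a
    change eφ.symm (φ a) = a
    exact eφ.symm_apply_apply a
  · refine ⟨default, ?_⟩
    rw [Scheme.Hom.comp_base]
    exact Scheme.fromSpecResidueField_apply x _




set_option backward.isDefEq.respectTransparency.types false in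
/-- Unfolding the small étale topology (pointwise criterion). -/
theorem mem_smallEtaleTopology_iff {X : Scheme.{u}} (W : X.Etale) (S : Sieve W) :
    S ∈ X.smallEtaleTopology W ↔
      ∀ x : ↥(W.left), ∃ (Y : X.Etale) (f : Y ⟶ W) (y : ↥(Y.left)), S f ∧ f.left.base y = x := by
  change S ∈ X.smallGrothendieckTopology (P := @Etale) W ↔ _
  rw [Scheme.smallGrothendieckTopology_eq_toGrothendieck_smallPretopology _ le_rfl]
  refine (Scheme.mem_toGrothendieck_smallPretopology (P := @Etale) (Q := @Etale) W S).trans ?_
  constructor
  · intro h x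
    obtain ⟨Y, f, y, h1, -, h3⟩ := h x
    exact ⟨Y, f, y, h1, h3⟩
  · intro h x
    obtain ⟨Y, f, y, h1, h3⟩ := h x
    exact ⟨Y, f, y, h1, inferInstance, h3⟩

section
variable (X : Scheme.{u})

/-- The inclusion of the one-object category `{X}` into the small étale site of `X`. -/
noncomputable abbrev G : Discrete PUnit.{1} ⥤ X.Etale := Functor.fromPUnit (EtCoh.top X)

instance : (G X).Faithful where
  map_injective := fun _ => Subsingleton.elim _ _

set_option backward.isDefEq.respectTransparency.types false in
instance : (G X).Full where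
  map_surjective := by
    rintro ⟨⟨⟩⟩ ⟨⟨⟩⟩ f
    refine ⟨𝟙 _, ?_⟩
    exact (EtCore.topIsTerminal X).hom_ext _ _

end


set_option backward.isDefEq.respectTransparency.types false in
instance isCoverDense : (G (Spec (CommRingCat.of k))).IsCoverDense
    (Spec (CommRingCat.of k)).smallEtaleTopology where
  is_cover U := by
    rw [mem_smallEtaleTopology_iff]
    intro x
    haveI : Etale U.hom := U.prop
    obtain ⟨σ, hσ, y, hy⟩ := exists_section k U.hom x
    let s : EtCoh.top (Spec (CommRingCat.of k)) ⟶ U :=
      MorphismProperty.Over.homMk σ hσ trivial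
    exact ⟨EtCoh.top _, s, y, ⟨⟨⟨PUnit.unit⟩, 𝟙 _, s, Category.id_comp _⟩⟩, hy⟩

noncomputable abbrev K := (Spec (CommRingCat.of k)).smallEtaleTopology
noncomputable abbrev J := (G (Spec (CommRingCat.of k))).inducedTopology (K k)


noncomputable abbrev Φ : Sheaf (K k) (Type (u + 1)) ⥤ Sheaf (J k) (Type (u + 1)) :=
  (G (Spec (CommRingCat.of k))).sheafPushforwardContinuous (Type (u + 1)) (J k) (K k)

instance : (Φ k).IsEquivalence := by
  dsimp only [Φ]
  infer_instance

/-- every covering sieve of the induced topology on the one-object category is maximal -/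
theorem eq_top_of_mem {c : Discrete PUnit.{1}} (S : Sieve c) (hS : S ∈ J k c) : S = ⊤ := by
  rw [Functor.mem_inducedTopology_iff_of_isCoverDense, mem_smallEtaleTopology_iff] at hS
  obtain ⟨⟨⟩⟩ := c
  obtain ⟨Y, f, y, ⟨c', g, h, hg, -⟩, -⟩ :=
    hS (show ↥(Spec (CommRingCat.of k)) from IsLocalRing.closedPoint k)
  obtain ⟨⟨⟩⟩ := c'
  have : g = 𝟙 _ := Subsingleton.elim _ _
  rw [this] at hg
  exact (Sieve.id_mem_iff_eq_top).1 hg

noncomputable abbrev E : Sheaf (J k) (Type (u + 1)) ⥤ Type (u + 1) :=
  (sheafSections (J k) (Type (u + 1))).obj (op ⟨PUnit.unit⟩)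

instance : (E k).Faithful where
  map_injective := by
    intro F F' a b hab
    apply Sheaf.hom_ext
    ext ⟨⟨⟨⟩⟩⟩ : 2
    exact hab

instance : (E k).Full where
  map_surjective := by
    intro F F' φ
    refine ⟨⟨{ app := fun _ => φ, naturality := ?_ }⟩, rfl⟩
    rintro ⟨⟨⟨⟩⟩⟩ ⟨⟨⟨⟩⟩⟩ f
    have : f = 𝟙 _ := Subsingleton.elim _ _
    subst this
    simp

instance : (E k).EssSurj where
  mem_essImage a := by
    refine ⟨⟨(Functor.const _).obj a, ?_⟩, ⟨Iso.refl _⟩⟩
    rw [isSheaf_iff_isSheaf_of_type]
    intro c S hS
    rw [eq_top_of_mem k S hS]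
    exact Presieve.isSheafFor_top _

instance : (E k).IsEquivalence where

theorem isEquivalence_sections :
    ((sheafSections (Spec (CommRingCat.of k)).smallEtaleTopology (Type (u + 1))).obj
      (op (EtCoh.top (Spec (CommRingCat.of k))))).IsEquivalence := by
  change (Φ k ⋙ E k).IsEquivalence
  infer_instance


end Groth.Agent.Lib.Helper4.SepClosedSite
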