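import Mathlib
import Groth.Prelude.Def_EtBase
import Groth.Prelude.Def_EtCore
import Groth.Agent.Lib.Helper4.SepClosedSite

set_option autoImplicit false
open CategoryTheory CategoryTheory.Limits AlgebraicGeometry Opposite

universe u

namespace Groth.Agent.Lib.Helper4.ConstLC

open Groth.Agent.Lib.Helper4.SepClosedSite (mem_smallEtaleTopology_iff)

variable (X : Scheme.{u}) (M : Type) [AddCommGroup M]

/-- the value group, lifted -/
abbrev D : Type (u + 1) := ULift.{u + 1} M

/-- the presheaf of locally constant `M`-valued functions on the small étale site -/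
noncomputable def lcPresheaf : X.Etaleᵒᵖ ⥤ AddCommGrpCat.{u + 1} where
  obj V := AddCommGrpCat.of (LocallyConstant V.unop.left (D.{u} M))
  map {V W} g := AddCommGrpCat.ofHom
    (LocallyConstant.comapAddMonoidHom ⟨g.unop.left.base, g.unop.left.continuous⟩)
  map_id V := by
    ext f v
    rfl
  map_comp g h := by
    ext f v
    rfl

variable {X M}

/-- sections as locally constant functions -/
def toLC {V : X.Etaleᵒᵖ} (s : ToType ((lcPresheaf X M).obj V)) :
    LocallyConstant V.unop.left (D.{u} M) := s

/-- locally constant functions as sections -/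
def ofLC {V : X.Etaleᵒᵖ} (s : LocallyConstant V.unop.left (D.{u} M)) :
    ToType ((lcPresheaf X M).obj V) := s

theorem toLC_map {V W : X.Etaleᵒᵖ} (g : V ⟶ W) (f : ToType ((lcPresheaf X M).obj V))
    (w : W.unop.left) : toLC ((lcPresheaf X M).map g f) w = toLC f (g.unop.left w) := rfl

theorem toLC_injective {V : X.Etaleᵒᵖ} {s t : ToType ((lcPresheaf X M).obj V)}
    (h : ∀ v, toLC s v = toLC t v) : s = t :=
  LocallyConstant.ext h

variable (X M)

set_option backward.isDefEq.respectTransparency.types false in
theorem isSheaf_lcPresheaf : Presheaf.IsSheaf X.smallEtaleTopology (lcPresheaf X M) := by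
  apply Presheaf.isSheaf_of_isSheaf_comp _ _ (forget AddCommGrpCat.{u + 1})
  rw [isSheaf_iff_isSheaf_of_type]
  intro V S hS x hx
  rw [mem_smallEtaleTopology_iff] at hS
  choose Y g y hg hy using hS
  -- the glued function
  let F : V.left → D.{u} M := fun v => toLC (V := op (Y v)) (x (g v) (hg v)) (y v)
  have claim : ∀ (W : X.Etale) (k : W ⟶ V) (hk : S k) (w : W.left),
      F (k.left w) = toLC (V := op W) (x k hk) w := by
    intro W k hk w
    set v := k.left w with hv
    obtain ⟨z, hz1, hz2⟩ := Scheme.Pullback.exists_preimage_pullback (f := k.left)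
      (g := (g v).left) w (y v) (by rw [hy v])
    let Z : X.Etale := Scheme.Etale.mk (pullback.fst k.left (g v).left ≫ W.hom)
    let p1 : Z ⟶ W := MorphismProperty.Over.homMk (pullback.fst k.left (g v).left) rfl trivial
    let p2 : Z ⟶ Y v := MorphismProperty.Over.homMk (pullback.snd k.left (g v).left)
      (by
        have h1 : k.left ≫ V.hom = W.hom := MorphismProperty.Over.w k
        have h2 : (g v).left ≫ V.hom = (Y v).hom := MorphismProperty.Over.w (g v)
        change pullback.snd k.left (g v).left ≫ (Y v).hom =
          pullback.fst k.left (g v).left ≫ W.hom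
        rw [← h1, ← h2, ← Category.assoc, ← Category.assoc, pullback.condition]) trivial
    have hp : p1 ≫ k = p2 ≫ g v := by
      apply MorphismProperty.Over.Hom.ext
      exact pullback.condition
    have hc := hx p1 p2 hk (hg v) hp
    have hc' := congrArg (fun s => toLC (V := op Z) s z) hc
    simp only [Functor.comp_map] at hc'
    change toLC (V := op W) (x k hk) (p1.left z) = toLC (V := op (Y v)) (x (g v) (hg v)) (p2.left z)
      at hc'
    have e1 : p1.left z = w := hz1
    have e2 : p2.left z = y v := hz2
    rw [e1, e2] at hc'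
    exact hc'.symm
  have hF : IsLocallyConstant F := by
    rw [IsLocallyConstant.iff_exists_open]
    intro v
    let f0 := toLC (V := op (Y v)) (x (g v) (hg v))
    refine ⟨(g v).left.base '' (f0 ⁻¹' {f0 (y v)}), ?_, ⟨y v, rfl, hy v⟩, ?_⟩
    · exact (g v).left.isOpenMap _ (f0.isLocallyConstant.isOpen_fiber _)
    · rintro _ ⟨w, hw, rfl⟩
      rw [claim (Y v) (g v) (hg v) w]
      exact hw
  refine ⟨ofLC (V := op V) ⟨F, hF⟩, ?_, ?_⟩
  · intro W k hk
    apply toLC_injective
    intro w
    exact claim W k hk w
  · intro t ht
    apply toLC_injective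
    intro v
    have h1 := congrArg (fun s => toLC (V := op (Y v)) s (y v)) (ht (g v) (hg v))
    change toLC (V := op V) t ((g v).left (y v)) = _ at h1
    rw [hy v] at h1
    exact h1

/-- the sheaf of locally constant `M`-valued functions -/
noncomputable def lcSheaf : EtCoh.Ab X := ⟨lcPresheaf X M, isSheaf_lcPresheaf X M⟩




variable (X : Scheme.{u}) (M : Type) [AddCommGroup M]

/-- constant functions -/
noncomputable def constToLC :
    (Functor.const X.Etaleᵒᵖ).obj (AddCommGrpCat.of (D.{u} M)) ⟶ lcPresheaf X M where
  app V := AddCommGrpCat.ofHom (LocallyConstant.constAddMonoidHom (X := V.unop.left))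
  naturality V W g := by
    ext m
    rfl

theorem toLC_constToLC {V : X.Etaleᵒᵖ} (m : D.{u} M) (v : V.unop.left) :
    toLC ((constToLC X M).app V m) v = m := rfl

set_option backward.isDefEq.respectTransparency.types false in
instance : Presheaf.IsLocallyInjective X.smallEtaleTopology (constToLC X M) where
  equalizerSieve_mem {V} m m' h := by
    rw [mem_smallEtaleTopology_iff]
    intro v
    refine ⟨V.unop, 𝟙 _, v, ?_, rfl⟩
    have h1 := congrArg (fun s => toLC s v) h
    change m = m' at h1
    change ((Functor.const X.Etaleᵒᵖ).obj (AddCommGrpCat.of (D.{u} M))).map (𝟙 _).op m =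
      ((Functor.const X.Etaleᵒᵖ).obj (AddCommGrpCat.of (D.{u} M))).map (𝟙 _).op m'
    rw [h1]

set_option backward.isDefEq.respectTransparency.types false in
instance : Presheaf.IsLocallySurjective X.smallEtaleTopology (constToLC X M) where
  imageSieve_mem {V} s := by
    rw [mem_smallEtaleTopology_iff]
    intro v
    let f := toLC (V := op V) s
    let O : V.left.Opens := ⟨f ⁻¹' {f v}, f.isLocallyConstant.isOpen_fiber _⟩
    let W : X.Etale := Scheme.Etale.mk (O.ι ≫ V.hom)
    let k : W ⟶ V := MorphismProperty.Over.homMk O.ι rfl trivial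
    refine ⟨W, k, ⟨v, rfl⟩, ⟨f v, ?_⟩, rfl⟩
    apply toLC_injective
    intro w
    change f v = f (O.ι w)
    exact (w.2 : f w.1 = f v).symm




variable (X : Scheme.{u}) (M : Type) [AddCommGroup M]

/-- the constant sheaf is the sheaf of locally constant functions -/
noncomputable def constIso : EtCoh.const X M ≅ lcSheaf X M := by
  have hW : X.smallEtaleTopology.W (constToLC X M) :=
    GrothendieckTopology.W_of_isLocallyBijective _ _
  have : IsIso ((presheafToSheaf X.smallEtaleTopology AddCommGrpCat.{u + 1}).map (constToLC X M)) :=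
    (GrothendieckTopology.W_iff _ _).1 hW
  exact (@asIso _ _ _ _ _ this) ≪≫ (sheafificationIso (lcSheaf X M)).symm


end Groth.Agent.Lib.Helper4.ConstLC
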