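import Mathlib
import Groth.Agent.Lib.Helper38.ImmDescent

set_option autoImplicit false
open CategoryTheory CategoryTheory.Limits AlgebraicGeometry Opposite TopologicalSpace Topology

universe u

namespace Groth.Agent.Lib.Helper4.LCExtend

/-- locally constant functions are determined on a dense subset -/
theorem eq_of_dense {V W : Type*} [TopologicalSpace V] [TopologicalSpace W] {T : Type*}
    (i : W → V) (hi : Dense (Set.range i)) (f f' : LocallyConstant V T)
    (h : ∀ w, f (i w) = f' (i w)) : f = f' := by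
  ext v
  have hO : IsOpen (f ⁻¹' {f v} ∩ f' ⁻¹' {f' v}) :=
    (f.isLocallyConstant.isOpen_fiber _).inter (f'.isLocallyConstant.isOpen_fiber _)
  obtain ⟨_, ⟨h1, h2⟩, ⟨w, rfl⟩⟩ := hi.inter_open_nonempty _ hO ⟨v, rfl, rfl⟩
  have h1' : f (i w) = f v := h1
  have h2' : f' (i w) = f' v := h2
  rw [← h1', ← h2', h w]

/-- a locally constant function is constant along specializations -/
theorem apply_eq_of_specializes {W : Type*} [TopologicalSpace W] {T : Type*}
    (f : LocallyConstant W T) {y₀ y : W} (h : y₀ ⤳ y) : f y₀ = f y :=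
  h.mem_open (f.isLocallyConstant.isOpen_fiber (f y)) rfl

/-- the generic point of the local scheme at a point whose local ring is a domain -/
theorem exists_generic {V : Scheme.{u}} (v : V) [IsDomain (V.presheaf.stalk v)] :
    ∃ ξ : V, ∀ y : V, y ⤳ v → ξ ⤳ y := by
  let η : PrimeSpectrum (V.presheaf.stalk v) := ⟨⊥, Ideal.isPrime_bot⟩
  refine ⟨(V.fromSpecStalk v) η, ?_⟩
  intro y hy
  have hy' : y ∈ Set.range (V.fromSpecStalk v) := by
    rw [Scheme.range_fromSpecStalk]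
    exact hy
  obtain ⟨q, rfl⟩ := hy'
  let q' : PrimeSpectrum (V.presheaf.stalk v) := q
  have hle : η ≤ q' := (bot_le : (⊥ : Ideal (V.presheaf.stalk v)) ≤ q'.asIdeal)
  have hsp : η ⤳ q' := (PrimeSpectrum.le_iff_specializes η q').1 hle
  exact hsp.map (V.fromSpecStalk v).continuous

/-- along an open immersion `i` into a scheme whose local rings are domains, a locally constant
function takes the same value at any two points whose images generize a common point -/
theorem apply_eq_of_common_specialization {V W : Scheme.{u}} (i : W ⟶ V) [IsOpenImmersion i]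
    {T : Type*} (f : LocallyConstant W T) (v : V) [IsDomain (V.presheaf.stalk v)]
    {y y' : W} (hy : i y ⤳ v) (hy' : i y' ⤳ v) : f y = f y' := by
  obtain ⟨ξ, hξ⟩ := exists_generic v
  have h1 : ξ ⤳ i y := hξ _ hy
  have h2 : ξ ⤳ i y' := hξ _ hy'
  have hmem : ξ ∈ Set.range i := h1.mem_open i.opensRange.isOpen ⟨y, rfl⟩
  obtain ⟨y₀, rfl⟩ := hmem
  have e1 : y₀ ⤳ y := i.isOpenEmbedding.isInducing.specializes_iff.1 h1
  have e2 : y₀ ⤳ y' := i.isOpenEmbedding.isInducing.specializes_iff.1 h2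
  rw [← apply_eq_of_specializes f e1, ← apply_eq_of_specializes f e2]

/-- extension of locally constant functions along a dense quasi-compact open immersion into a scheme
whose local rings are domains -/
theorem exists_extension {V W : Scheme.{u}} (i : W ⟶ V) [IsOpenImmersion i] [QuasiCompact i]
    (hi : Dense (Set.range i)) (hV : ∀ v : V, IsDomain (V.presheaf.stalk v)) {T : Type*}
    (f : LocallyConstant W T) : ∃ f' : LocallyConstant V T, ∀ w, f' (i w) = f w := by
  classical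
  have hgen : ∀ v : V, ∃ w : W, i w ⤳ v := fun v =>
    Groth.Agent.Lib.Helper38.ImmDescent.exists_specializes_of_mem_closure_range i
      (by rw [hi.closure_eq]; trivial)
  choose c hc using hgen
  let F : V → T := fun v => f (c v)
  have hFc : ∀ (v : V) (y : W), i y ⤳ v → f y = F v := by
    intro v y hy
    have := hV v
    exact apply_eq_of_common_specialization i f v hy (hc v)
  have hF : IsLocallyConstant F := by
    rw [IsLocallyConstant.iff_exists_open]
    intro v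
    obtain ⟨N', hN', hvN', -⟩ :=
      (Opens.isBasis_iff_nbhd.mp V.isBasis_affineOpens) (show v ∈ (⊤ : V.Opens) from trivial)
    obtain ⟨N, hN, hvN⟩ : ∃ N : V.Opens, IsAffineOpen N ∧ v ∈ N := ⟨N', hN', hvN'⟩
    have : IsAffine N.toScheme := hN
    have hA : IsCompact ((i ⁻¹ᵁ N : W.Opens) : Set W) :=
      QuasiCompact.isCompact_preimage (f := i) _ N.isOpen hN.isCompact
    have hcl : IsClosed (f ⁻¹' {F v}ᶜ) := by
      rw [Set.preimage_compl]
      exact (f.isLocallyConstant.isOpen_fiber _).isClosed_compl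
    have hop : IsOpen (f ⁻¹' {F v}ᶜ) := f.isLocallyConstant _
    let Tt : W.Opens := ⟨((i ⁻¹ᵁ N : W.Opens) : Set W) ∩ f ⁻¹' {F v}ᶜ,
      (i ⁻¹ᵁ N : W.Opens).isOpen.inter hop⟩
    have hT : IsCompact (Tt : Set W) := hA.inter_right hcl
    have : CompactSpace ↥Tt.toScheme := isCompact_iff_compactSpace.mp hT
    have hsub : Set.range (Tt.ι ≫ i) ⊆ Set.range N.ι := by
      rintro _ ⟨t, rfl⟩
      rw [Scheme.Opens.range_ι]
      exact (t.2 : t.1 ∈ _).1
    let g : Tt.toScheme ⟶ N.toScheme := IsOpenImmersion.lift N.ι (Tt.ι ≫ i) hsub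
    have hg : g ≫ N.ι = Tt.ι ≫ i := IsOpenImmersion.lift_fac _ _ _
    have hgt : ∀ t : Tt.toScheme, N.ι (g t) = i t.1 := by
      intro t
      have := congrArg (fun k : Tt.toScheme ⟶ V => k.base t) hg
      exact this
    have hv : (⟨v, hvN⟩ : N.toScheme) ∉ closure (Set.range g) := by
      intro hmem
      obtain ⟨t, ht⟩ :=
        Groth.Agent.Lib.Helper38.ImmDescent.exists_specializes_of_mem_closure_range g hmem
      have h1 : N.ι (g t) ⤳ N.ι ⟨v, hvN⟩ := ht.map N.ι.continuous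
      rw [hgt t] at h1
      have h2 : f t.1 = F v := hFc v t.1 h1
      exact (t.2 : t.1 ∈ _).2 h2
    refine ⟨N.ι.base '' (closure (Set.range g))ᶜ, ?_, ⟨⟨v, hvN⟩, hv, rfl⟩, ?_⟩
    · exact N.ι.isOpenEmbedding.isOpenMap _ isClosed_closure.isOpen_compl
    · rintro _ ⟨n', hn', rfl⟩
      by_contra hne
      have h1 : i (c (N.ι n')) ⤳ N.ι n' := hc _
      have hyN : i (c (N.ι n')) ∈ N := h1.mem_open N.isOpen n'.2
      have hyT : c (N.ι n') ∈ Tt := ⟨hyN, hne⟩
      let t' : Tt.toScheme := ⟨c (N.ι n'), hyT⟩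
      have h2 : N.ι (g t') ⤳ N.ι n' := by
        rw [hgt t']
        exact h1
      have h3 : g t' ⤳ n' := N.ι.isOpenEmbedding.isInducing.specializes_iff.1 h2
      apply hn'
      exact closure_mono (Set.singleton_subset_iff.2 (Set.mem_range_self t')) (specializes_iff_mem_closure.1 h3)
  exact ⟨⟨F, hF⟩, fun w => (hFc (i w) w specializes_rfl).symm⟩



/-- gluing local extensions of a function which is locally constant on a dense open subset -/
theorem exists_extension_of_local {V : Type*} [TopologicalSpace V] {T : Type*} (Ω : Set V)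
    (hd : Dense Ω) (g : V → T)
    (hloc : ∀ v : V, ∃ N : Set V, IsOpen N ∧ v ∈ N ∧ ∃ h : V → T,
      (∀ x ∈ N, ∀ᶠ y in 𝓝 x, h y = h x) ∧ ∀ x ∈ N ∩ Ω, h x = g x) :
    ∃ g' : LocallyConstant V T, ∀ x ∈ Ω, g' x = g x := by
  choose N hNo hvN h hh hhg using hloc
  have key : ∀ v v' : V, v' ∈ N v → h v' v' = h v v' := by
    intro v v' hv'
    have e1 : ∀ᶠ y in 𝓝 v', h v y = h v v' := hh v v' hv'
    have e2 : ∀ᶠ y in 𝓝 v', h v' y = h v' v' := hh v' v' (hvN v')
    have e3 : ∀ᶠ y in 𝓝 v', y ∈ N v ∩ N v' :=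
      ((hNo v).inter (hNo v')).mem_nhds ⟨hv', hvN v'⟩
    have e4 := (e1.and (e2.and e3))
    obtain ⟨O, hOsub, hO, hv'O⟩ := eventually_nhds_iff.1 e4
    obtain ⟨y, hyO, hyΩ⟩ := hd.inter_open_nonempty O hO ⟨v', hv'O⟩
    obtain ⟨a1, a2, a3⟩ := hOsub y hyO
    rw [← a1, ← a2, hhg v y ⟨a3.1, hyΩ⟩, hhg v' y ⟨a3.2, hyΩ⟩]
  refine ⟨⟨fun v => h v v, ?_⟩, ?_⟩
  · rw [IsLocallyConstant.iff_eventually_eq]
    intro v
    have e1 : ∀ᶠ y in 𝓝 v, h v y = h v v := hh v v (hvN v)
    have e2 : ∀ᶠ y in 𝓝 v, y ∈ N v := (hNo v).mem_nhds (hvN v)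
    filter_upwards [e1, e2] with y hy1 hy2
    rw [key v y hy2, hy1]
  · intro x hx
    exact hhg x x ⟨hvN x, hx⟩




theorem eventually_extend_eq {V W : Type*} [TopologicalSpace V] [TopologicalSpace W] {T : Type*}
    (i : W → V) (hi : IsOpenEmbedding i) (f : LocallyConstant W T) (d : V → T) (w : W) :
    ∀ᶠ y in 𝓝 (i w), Function.extend i f d y = Function.extend i f d (i w) := by
  rw [← hi.map_nhds_eq w, Filter.eventually_map]
  have h := (IsLocallyConstant.iff_eventually_eq f).1 f.isLocallyConstant w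
  filter_upwards [h] with w' hw'
  rw [hi.injective.extend_apply, hi.injective.extend_apply, hw']

/-- extension of locally constant functions along an open immersion which is locally (on the
target) dominated by dense quasi-compact opens -/
theorem exists_extension_of_locally_qc {V W : Scheme.{u}} (i : W ⟶ V) [IsOpenImmersion i]
    (hV : ∀ v : V, IsDomain (V.presheaf.stalk v)) {T : Type*} [Inhabited T]
    (hloc : ∀ v : V, ∃ (N Ω' : V.Opens), IsAffineOpen N ∧ v ∈ N ∧ Ω' ≤ N ∧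
      (Ω' : Set V) ⊆ Set.range i ∧ IsCompact (Ω' : Set V) ∧ (N : Set V) ⊆ closure (Ω' : Set V))
    (f : LocallyConstant W T) : ∃ f' : LocallyConstant V T, ∀ w, f' (i w) = f w := by
  let g : V → T := Function.extend i f (fun _ => default)
  have hgi : ∀ w, g (i w) = f w := fun w => i.isOpenEmbedding.injective.extend_apply _ _ _
  have hgev : ∀ x ∈ Set.range i, ∀ᶠ y in 𝓝 x, g y = g x := by
    rintro _ ⟨w, rfl⟩
    exact eventually_extend_eq i i.isOpenEmbedding f _ w
  have hd : Dense (Set.range i) := by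
    intro v
    obtain ⟨N, Ω', -, hvN, -, hsub, -, hcl⟩ := hloc v
    exact closure_mono hsub (hcl hvN)
  obtain ⟨g', hg'⟩ := exists_extension_of_local (Set.range i) hd g (by
    intro v
    obtain ⟨N, Ω', hN, hvN, hle, hsub, hcpt, hcl⟩ := hloc v
    refine ⟨N, N.isOpen, hvN, ?_⟩
    have : IsAffine N.toScheme := hN
    have : CompactSpace ↥Ω'.toScheme := isCompact_iff_compactSpace.mp hcpt
    let i₁ : Ω'.toScheme ⟶ N.toScheme := V.homOfLE hle
    have hi₁ : ∀ z : Ω'.toScheme, (i₁ z).1 = z.1 := fun z => Scheme.homOfLE_apply hle z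
    have hd₁ : Dense (Set.range i₁) := by
      rw [dense_iff_inter_open]
      rintro O' hO' ⟨n, hn⟩
      have hopen : IsOpen (N.ι.base '' O') := N.ι.isOpenEmbedding.isOpenMap _ hO'
      have hmem : n.1 ∈ closure (Ω' : Set V) := hcl n.2
      obtain ⟨y, ⟨n', hn', rfl⟩, hyΩ⟩ := mem_closure_iff.1 hmem _ hopen ⟨n, hn, rfl⟩
      refine ⟨n', hn', ⟨⟨N.ι n', hyΩ⟩, ?_⟩⟩
      exact Subtype.ext (hi₁ _)
    have hdom : ∀ n : N.toScheme, IsDomain (N.toScheme.presheaf.stalk n) := by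
      intro n
      have := hV n.1
      exact (N.stalkIso n).commRingCatIsoToRingEquiv.toMulEquiv.isDomain _
    let f₁ : LocallyConstant Ω'.toScheme T := ⟨fun z => g z.1, by
      rw [IsLocallyConstant.iff_eventually_eq]
      intro z
      exact continuous_subtype_val.continuousAt.eventually (hgev z.1 (hsub z.2))⟩
    obtain ⟨h₁, hh₁⟩ := exists_extension i₁ hd₁ hdom f₁
    let h : V → T := Function.extend (Subtype.val : N → V) h₁ (fun _ => default)
    have hoe : IsOpenEmbedding (Subtype.val : N → V) := N.isOpen.isOpenEmbedding_subtypeVal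
    have hhn : ∀ n : N, h n.1 = h₁ n := fun n => hoe.injective.extend_apply _ _ _
    have hhev : ∀ x ∈ N, ∀ᶠ y in 𝓝 x, h y = h x := by
      intro x hx
      exact eventually_extend_eq _ hoe h₁ _ ⟨x, hx⟩
    refine ⟨h, hhev, ?_⟩
    rintro x ⟨hxN, hxΩ⟩
    have e1 := hhev x hxN
    have e2 := hgev x hxΩ
    obtain ⟨O, hOsub, hO, hxO⟩ := eventually_nhds_iff.1 (e1.and e2)
    obtain ⟨y, hyO, hyΩ'⟩ := mem_closure_iff.1 (hcl hxN) O hO hxO
    obtain ⟨a1, a2⟩ := hOsub y hyO
    have hy : h y = g y := by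
      have e3 := hh₁ ⟨y, hyΩ'⟩
      have e4 : h y = h₁ (i₁ ⟨y, hyΩ'⟩) := by
        have : (i₁ ⟨y, hyΩ'⟩) = ⟨y, hle hyΩ'⟩ := Subtype.ext (hi₁ _)
        rw [this]
        exact hhn ⟨y, hle hyΩ'⟩
      rw [e4, e3]
      rfl
    rw [← a1, ← a2, hy])
  exact ⟨g', fun w => (hg' _ ⟨w, rfl⟩).trans (hgi w)⟩




/-- over an irreducible base, the range of the base change of a nonempty open immersion along an
open morphism is locally dominated by dense basic opens -/
theorem hloc_of_irreducible {X Vl U : Scheme.{u}} [IrreducibleSpace X] (p : Vl ⟶ X)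
    (hp : IsOpenMap p) (j : U ⟶ X) [IsOpenImmersion j] [Nonempty U] :
    ∀ v : Vl, ∃ (N Ω' : Vl.Opens), IsAffineOpen N ∧ v ∈ N ∧ Ω' ≤ N ∧
      (Ω' : Set Vl) ⊆ Set.range (pullback.fst p j) ∧ IsCompact (Ω' : Set Vl) ∧
      (N : Set Vl) ⊆ closure (Ω' : Set Vl) := by
  intro v
  obtain ⟨X₀, hX₀, hxX₀, -⟩ :=
    (Opens.isBasis_iff_nbhd.mp X.isBasis_affineOpens) (show p v ∈ (⊤ : X.Opens) from trivial)
  obtain ⟨N, hN, hvN, hNle⟩ :=
    (Opens.isBasis_iff_nbhd.mp Vl.isBasis_affineOpens) (show v ∈ p ⁻¹ᵁ X₀ from hxX₀)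
  obtain ⟨x₁, hx₁⟩ : ((X₀ : Set X) ∩ (j.opensRange : Set X)).Nonempty :=
    nonempty_preirreducible_inter X₀.isOpen j.opensRange.isOpen ⟨_, hxX₀⟩
      ⟨j (Classical.arbitrary U), ⟨_, rfl⟩⟩
  obtain ⟨s, hs1, hs2⟩ := IsAffineOpen.exists_basicOpen_le (X := X) (U := X₀) hX₀
    (V := X₀ ⊓ j.opensRange) ⟨x₁, hx₁⟩ hx₁.1
  let t : Γ(Vl, N) := p.appLE X₀ N hNle s
  have hΩ : Vl.basicOpen t = N ⊓ p ⁻¹ᵁ (X.basicOpen s) := Scheme.basicOpen_appLE p N X₀ hNle s
  refine ⟨N, Vl.basicOpen t, hN, hvN, Vl.basicOpen_le t, ?_, (hN.basicOpen t).isCompact, ?_⟩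
  · intro y hy
    rw [Scheme.Pullback.range_fst]
    have hy' : y ∈ N ⊓ p ⁻¹ᵁ (X.basicOpen s) := hΩ ▸ hy
    exact (hs1 hy'.2).2
  · intro y hyN
    rw [mem_closure_iff]
    intro O hO hyO
    have hne : (p '' (O ∩ N)).Nonempty := ⟨p y, y, ⟨hyO, hyN⟩, rfl⟩
    obtain ⟨_, ⟨z, ⟨hzO, hzN⟩, rfl⟩, hzs⟩ :=
      nonempty_preirreducible_inter (hp _ (hO.inter N.isOpen)) (X.basicOpen s).isOpen hne
        ⟨x₁, hs2⟩
    refine ⟨z, hzO, ?_⟩
    have : z ∈ N ⊓ p ⁻¹ᵁ (X.basicOpen s) := ⟨hzN, hzs⟩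
    exact hΩ ▸ this


end Groth.Agent.Lib.Helper4.LCExtend
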