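import Mathlib
import Groth.Agent.Lib.Helper4.ConstLC
import Groth.Agent.Lib.Helper4.LCExtend
import Groth.Agent.S7180

set_option autoImplicit false
open CategoryTheory CategoryTheory.Limits AlgebraicGeometry Opposite

universe u

namespace Groth.Agent.Lib.Helper4.ConstLC

variable {U X : Scheme.{u}} (j : U ⟶ X) (M : Type) [AddCommGroup M]

/-- the projection `V ×_X U ⟶ V` -/
noncomputable abbrev proj (V : X.Etale) : ((EtCoh.bc j).obj V).left ⟶ V.left :=
  pullback.fst V.hom j

theorem proj_naturality {V V' : X.Etale} (g : V' ⟶ V) :
    ((EtCoh.bc j).map g).left ≫ proj j V = proj j V' ≫ g.left :=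
  (EtCoh.isPullback_bc_map j g).w

set_option backward.isDefEq.respectTransparency.types false in
/-- restriction of locally constant functions: `LC_X ⟶ j_* LC_U` -/
noncomputable def restrLC : lcSheaf X M ⟶ (EtCoh.push j).obj (lcSheaf U M) where
  hom :=
    { app := fun V => AddCommGrpCat.ofHom
        (LocallyConstant.comapAddMonoidHom ⟨(proj j V.unop).base, (proj j V.unop).continuous⟩)
      naturality := by
        intro V V' g
        ext f
        apply toLC_injective (V := op ((EtCoh.bc j).obj V'.unop))
        intro w
        have h := congrArg (fun k : ((EtCoh.bc j).obj V'.unop).left ⟶ V.unop.left => k.base w)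
          (proj_naturality j g.unop)
        exact congrArg (toLC (V := V) f) h.symm }

theorem toLC_restrLC (V : X.Etaleᵒᵖ) (f : ToType ((lcPresheaf X M).obj V))
    (w : ((EtCoh.bc j).obj V.unop).left) :
    toLC (V := op ((EtCoh.bc j).obj V.unop)) ((restrLC j M).hom.app V f) w =
      toLC f (proj j V.unop w) := rfl

set_option backward.isDefEq.respectTransparency.types false in
/-- the restriction map is an isomorphism as soon as it is bijective on sections -/
theorem isIso_restrLC (h : ∀ V : X.Etaleᵒᵖ, Function.Bijective ((restrLC j M).hom.app V)) :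
    IsIso (restrLC j M) := by
  have h1 : IsIso (restrLC j M).hom := by
    rw [NatTrans.isIso_iff_isIso_app]
    intro V
    exact (ConcreteCategory.isIso_iff_bijective _).2 (h V)
  have h2 : IsIso ((sheafToPresheaf _ _).map (restrLC j M)) := h1
  exact isIso_of_reflects_iso _ (sheafToPresheaf _ _)

theorem dense_range_fst {V : Scheme.{u}} (p : V ⟶ X) [Etale p] (hj : Dense (Set.range j)) :
    Dense (Set.range (pullback.fst p j)) := by
  rw [Scheme.Pullback.range_fst]
  exact hj.preimage p.isOpenMap

/-- injectivity of restriction when `j` has dense image -/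
theorem injective_restrLC (hj : Dense (Set.range j)) (V : X.Etaleᵒᵖ) :
    Function.Injective ((restrLC j M).hom.app V) := by
  intro f f' hff
  apply toLC_injective
  have : Etale V.unop.hom := V.unop.prop
  have hd : Dense (Set.range (proj j V.unop)) := dense_range_fst j V.unop.hom hj
  have := Groth.Agent.Lib.Helper4.LCExtend.eq_of_dense (proj j V.unop) hd (toLC f) (toLC f')
    (fun w => congrArg (fun s => toLC (V := op ((EtCoh.bc j).obj V.unop)) s w) hff)
  intro v
  rw [this]

/-- surjectivity of restriction for a dense quasi-compact open immersion into a normal scheme -/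
theorem surjective_restrLC [IsOpenImmersion j] [QuasiCompact j] (hj : Dense (Set.range j))
    (hX : Pi1.IsNormalScheme X) (V : X.Etaleᵒᵖ) :
    Function.Surjective ((restrLC j M).hom.app V) := by
  intro f
  have : Etale V.unop.hom := V.unop.prop
  have hd : Dense (Set.range (proj j V.unop)) := dense_range_fst j V.unop.hom hj
  have hV : Pi1.IsNormalScheme V.unop.left := Groth.Agent.S7180.result V.unop.hom hX
  have hoi : IsOpenImmersion (pullback.fst V.unop.hom j) := inferInstance
  have hqc : QuasiCompact (pullback.fst V.unop.hom j) := inferInstance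
  obtain ⟨f', hf'⟩ := @Groth.Agent.Lib.Helper4.LCExtend.exists_extension _ _ (proj j V.unop) hoi hqc hd
    (fun v => (hV v).1) _ (toLC (V := op ((EtCoh.bc j).obj V.unop)) f)
  refine ⟨ofLC f', ?_⟩
  apply toLC_injective (V := op ((EtCoh.bc j).obj V.unop))
  intro w
  exact hf' w

/-- if the counit at `H` is an isomorphism, the unit at anything isomorphic to `R.obj H` is one -/
theorem isIso_unit_app_of_iso {C E : Type*} [Category C] [Category E] {L : C ⥤ E} {R : E ⥤ C}
    (adj : L ⊣ R) (G : C) (H : E) (φ : G ≅ R.obj H) [IsIso (adj.counit.app H)] :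
    IsIso (adj.unit.app G) := by
  have h1 : IsIso (adj.unit.app (R.obj H)) := by
    have h := adj.right_triangle_components H
    have : IsIso (adj.unit.app (R.obj H) ≫ R.map (adj.counit.app H)) := by
      rw [h]; exact IsIso.id _
    exact IsIso.of_isIso_comp_right _ (R.map (adj.counit.app H))
  have h2 : adj.unit.app G ≫ R.map (L.map φ.hom) = φ.hom ≫ adj.unit.app (R.obj H) :=
    (adj.unit.naturality φ.hom).symm
  have h3 : IsIso (adj.unit.app G ≫ R.map (L.map φ.hom)) := by
    rw [h2]; infer_instance
  exact IsIso.of_isIso_comp_right _ (R.map (L.map φ.hom))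




/-- surjectivity of restriction for a nonempty open immersion into an integral normal scheme -/
theorem surjective_restrLC_of_integral [IsIntegral X] [IsOpenImmersion j] [Nonempty U]
    (hX : Pi1.IsNormalScheme X) (V : X.Etaleᵒᵖ) :
    Function.Surjective ((restrLC j M).hom.app V) := by
  intro f
  have : Etale V.unop.hom := V.unop.prop
  have hV : Pi1.IsNormalScheme V.unop.left := Groth.Agent.S7180.result V.unop.hom hX
  have hoi : IsOpenImmersion (pullback.fst V.unop.hom j) := inferInstance
  have : Inhabited (D.{u} M) := ⟨⟨0⟩⟩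
  obtain ⟨f', hf'⟩ := @Groth.Agent.Lib.Helper4.LCExtend.exists_extension_of_locally_qc _ _
    (proj j V.unop) hoi (fun v => (hV v).1) _ _
    (Groth.Agent.Lib.Helper4.LCExtend.hloc_of_irreducible (X := X) V.unop.hom
      V.unop.hom.isOpenMap j)
    (toLC (V := op ((EtCoh.bc j).obj V.unop)) f)
  refine ⟨ofLC f', ?_⟩
  apply toLC_injective (V := op ((EtCoh.bc j).obj V.unop))
  intro w
  exact hf' w

/-- for a nonempty open `U` of an integral normal scheme `X`, `M_X ≅ j_* LC_U` -/
theorem isIso_restrLC_of_integral [IsIntegral X] [IsOpenImmersion j] [Nonempty U]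
    (hX : Pi1.IsNormalScheme X) : IsIso (restrLC j M) := by
  have hj : Dense (Set.range j) :=
    IsOpen.dense j.opensRange.isOpen ⟨j (Classical.arbitrary U), ⟨_, rfl⟩⟩
  exact isIso_restrLC j M (fun V =>
    ⟨injective_restrLC j M hj V, surjective_restrLC_of_integral j M hX V⟩)


end Groth.Agent.Lib.Helper4.ConstLC
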