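import Mathlib

set_option autoImplicit false
open CategoryTheory CategoryTheory.Limits Opposite

universe w v' v u' u

namespace Groth.Agent.Lib.Helper4.ConstStalk

open GrothendieckTopology

section General

variable {C : Type u} [Category.{v} C] {J : GrothendieckTopology C} (Φ : Point.{w} J)
  {A : Type u'} [Category.{v'} A] [HasColimitsOfSize.{w, w} A]

attribute [local instance] IsFiltered.isConnected in
/-- the fibre of a constant presheaf at a point is its value -/
noncomputable def presheafFiberConstIso (M : A) :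
    Φ.presheafFiber.obj ((Functor.const Cᵒᵖ).obj M) ≅ M :=
  IsColimit.coconePointUniqueUpToIso
    (Φ.isColimitPresheafFiberCocone ((Functor.const Cᵒᵖ).obj M)) (isColimitConstCocone _ M)

variable [HasProducts.{w} A] [HasWeakSheafify J A]

/-- the fibre of a constant sheaf at a point is its value -/
noncomputable def sheafFiberConstIso (M : A) :
    Φ.sheafFiber.obj ((constantSheaf J A).obj M) ≅ M :=
  (Φ.presheafToSheafCompSheafFiberIso A).app ((Functor.const Cᵒᵖ).obj M) ≪≫
    presheafFiberConstIso Φ M

end General

section Over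

variable {C : Type u} [Category.{v} C] {J : GrothendieckTopology C}
  {A : Type u'} [Category.{v'} A] [HasColimitsOfSize.{w, w} A] [HasProducts.{w} A]

/-- If `F` restricted to `Y` is constant with value `N`, then for every `f : X ⟶ Y` and
every point `Φ` of the site over `X` the fibre of `F.over X` at `Φ` is `N`. -/
theorem nonempty_iso_sheafFiber_over {X Y : C} (f : X ⟶ Y) [LocallySmall.{w} (Over Y)]
    [HasWeakSheafify (J.over Y) A]
    (Φ : Point.{w} (J.over X)) (F : Sheaf J A) (N : A)
    (β : F.over Y ≅ (constantSheaf (J.over Y) A).obj N) :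
    Nonempty (Φ.sheafFiber.obj (F.over X) ≅ N) := by
  let Ψ := Φ.map (Over.map f) (J.over Y)
  have e1 : Ψ.sheafFiber.obj (F.over Y) ≅ N :=
    Ψ.sheafFiber.mapIso β ≪≫ sheafFiberConstIso Ψ N
  have e2 : Ψ.sheafFiber.obj (F.over Y) ≅ Φ.sheafFiber.obj
      (((Over.map f).sheafPushforwardContinuous A (J.over X) (J.over Y)).obj (F.over Y)) :=
    (Φ.sheafFiberMapIso (Over.map f) (J.over Y) A).app (F.over Y)
  exact ⟨(Φ.sheafFiber.mapIso (F.pushforwardOverMapIso f)).symm ≪≫ e2.symm ≪≫ e1⟩

end Over

end Groth.Agent.Lib.Helper4.ConstStalk
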