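import Mathlib
import Groth.Agent.Lib.Helper4.ConstLCRestr

set_option autoImplicit false
open CategoryTheory CategoryTheory.Limits AlgebraicGeometry Opposite

universe u

namespace Groth.Agent.Lib.Helper4.ConstLC

variable (X : Scheme.{u}) (M : Type) [AddCommGroup M]

/-- `toSheafify` followed by `constIso` is the inclusion of constant functions -/
theorem toSheafify_constIso :
    CategoryTheory.toSheafify X.smallEtaleTopology
      ((Functor.const X.Etaleᵒᵖ).obj (AddCommGrpCat.of (D.{u} M))) ≫ (constIso X M).hom.hom =
      constToLC X M := by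
  unfold constIso
  change CategoryTheory.toSheafify _ _ ≫ (sheafifyMap _ (constToLC X M) ≫ _) = _
  rw [← Category.assoc, ← toSheafify_naturality, Category.assoc]
  have h : CategoryTheory.toSheafify X.smallEtaleTopology (lcPresheaf X M) ≫
      (isoSheafify X.smallEtaleTopology (isSheaf_lcPresheaf X M)).inv = 𝟙 _ := by
    rw [← isoSheafify_hom X.smallEtaleTopology (isSheaf_lcPresheaf X M)]
    exact Iso.hom_inv_id _
  erw [h]
  exact Category.comp_id _

/-- the unit of the constant sheaf adjunction, transported to locally constant functions, sends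
`n` to the constant function `n` -/
theorem unit_constIso (n : D.{u} M) (x : X) :
    toLC (V := op (EtCoh.top X))
      (((EtCore.constAdj X).unit.app (AddCommGrpCat.of (D.{u} M)) ≫
        (EtCore.gsec X).map (constIso X M).hom) n) x = n := by
  have h3 : ((EtCore.constAdj X).unit.app (AddCommGrpCat.of (D.{u} M)) ≫
        (EtCore.gsec X).map (constIso X M).hom) n =
      ((CategoryTheory.toSheafify X.smallEtaleTopology
      ((Functor.const X.Etaleᵒᵖ).obj (AddCommGrpCat.of (D.{u} M))) ≫
        (constIso X M).hom.hom).app (op (EtCoh.top X))) n := by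
    rfl
  rw [h3, toSheafify_constIso]
  rfl


section PullConst

variable {U X : Scheme.{u}} (g : U ⟶ X)

/-- the unit characterisation of `pullConstIso` (cf. helper3 `EtMV.unit_pullConstIso_inv`) -/
theorem unit_pullConstIso_inv' (N : AddCommGrpCat.{u + 1}) :
    (EtCore.constAdj U).unit.app N ≫ (EtCore.gsec U).map ((EtCore.pullConstIso g).inv.app N) =
      ((EtCore.constAdj X).unit.app N ≫ (EtCore.gsec X).map ((EtCoh.pullPushAdj g).unit.app
        ((constantSheaf X.smallEtaleTopology AddCommGrpCat.{u + 1}).obj N))) ≫
        (EtCore.pushGsecIso g).hom.app _ := by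
  have h := Adjunction.unit_leftAdjointUniq_hom_app
    (((EtCore.constAdj X).comp (EtCoh.pullPushAdj g)).ofNatIsoRight (EtCore.pushGsecIso g))
    (EtCore.constAdj U) N
  have h2 : (EtCore.constAdj U).unit.app N ≫
      (EtCore.gsec U).map ((EtCore.pullConstIso g).inv.app N) =
      ((((EtCore.constAdj X).comp (EtCoh.pullPushAdj g)).ofNatIsoRight
        (EtCore.pushGsecIso g)).unit.app N) := by
    rw [← h, Category.assoc, ← Functor.map_comp]
    erw [Iso.hom_inv_id_app]
    erw [CategoryTheory.Functor.map_id, Category.comp_id]
  rw [h2]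
  simp only [Adjunction.ofNatIsoRight_unit, Adjunction.comp_unit_app, NatTrans.comp_app,
    Functor.whiskerLeft_app]
  rfl

variable (M : Type) [AddCommGroup M]

/-- if restriction of locally constant functions `LC_X ⟶ g_* LC_U` is an isomorphism, then the
unit `M_X ⟶ g_* g^* M_X` is an isomorphism -/
theorem isIso_unit_const_of_isIso_restrLC (h : IsIso (restrLC g M)) :
    IsIso ((EtCoh.pullPushAdj g).unit.app (EtCoh.const X M)) := by
  let N : AddCommGrpCat.{u + 1} := AddCommGrpCat.of (D.{u} M)
  let α : EtCoh.const X M ≅ (EtCoh.push g).obj (EtCoh.const U M) :=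
    constIso X M ≪≫ asIso (restrLC g M) ≪≫ (EtCoh.push g).mapIso (constIso U M).symm
  let β : (EtCoh.pull g).obj (EtCoh.const X M) ⟶ EtCoh.const U M :=
    ((EtCoh.pullPushAdj g).homEquiv _ _).symm α.hom
  have hα : α.hom = (EtCoh.pullPushAdj g).unit.app _ ≫ (EtCoh.push g).map β := by
    exact (Equiv.apply_symm_apply ((EtCoh.pullPushAdj g).homEquiv _ _) α.hom).symm
  let θ : (EtCoh.pull g).obj (EtCoh.const X M) ≅ EtCoh.const U M := EtCore.pullConst g M
  have hβ : θ.inv ≫ β = 𝟙 _ := by
    apply ((EtCore.constAdj U).homEquiv N _).injective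
    rw [Adjunction.homEquiv_unit, Adjunction.homEquiv_unit, Functor.map_comp, ← Category.assoc]
    erw [unit_pullConstIso_inv' g N]
    have n1 : (EtCore.pushGsecIso g).hom.app ((EtCoh.pull g).obj (EtCoh.const X M)) ≫
        (EtCore.gsec U).map β = (EtCore.gsec X).map ((EtCoh.push g).map β) ≫
        (EtCore.pushGsecIso g).hom.app (EtCoh.const U M) :=
      ((EtCore.pushGsecIso g).hom.naturality β).symm
    have n2 : (EtCore.gsec X).map ((EtCoh.push g).map (constIso U M).inv) ≫
        (EtCore.pushGsecIso g).hom.app (EtCoh.const U M) =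
        (EtCore.pushGsecIso g).hom.app (lcSheaf U M) ≫ (EtCore.gsec U).map (constIso U M).inv :=
      (EtCore.pushGsecIso g).hom.naturality (constIso U M).inv
    have n3 : (EtCore.gsec X).map ((EtCoh.pullPushAdj g).unit.app (EtCoh.const X M)) ≫
        (EtCore.gsec X).map ((EtCoh.push g).map β) = (EtCore.gsec X).map (constIso X M).hom ≫
        (EtCore.gsec X).map (restrLC g M) ≫
        (EtCore.gsec X).map ((EtCoh.push g).map (constIso U M).inv) := by
      rw [← Functor.map_comp, ← hα, ← Functor.map_comp, ← Functor.map_comp]
      rfl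
    have e2 : ∀ (n : D.{u} M) (y : U), toLC (V := op (EtCoh.top U))
        (((EtCore.constAdj X).unit.app N ≫ (EtCore.gsec X).map (constIso X M).hom ≫
          (EtCore.gsec X).map (restrLC g M) ≫
          (EtCore.pushGsecIso g).hom.app (lcSheaf U M)) n) y = n := by
      intro n y
      change toLC (V := op (EtCoh.top U)) ((lcPresheaf U M).map (EtCore.bcTopIso g).inv.op
        ((restrLC g M).hom.app (op (EtCoh.top X))
          (((EtCore.constAdj X).unit.app N ≫ (EtCore.gsec X).map (constIso X M).hom) n))) y = n
      refine (toLC_map (X := U) (M := M) (EtCore.bcTopIso g).inv.op _ y).trans ?_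
      refine (toLC_restrLC g M (op (EtCoh.top X)) _ _).trans ?_
      exact unit_constIso X M n _
    have e3 : (EtCore.constAdj X).unit.app N ≫ (EtCore.gsec X).map (constIso X M).hom ≫
          (EtCore.gsec X).map (restrLC g M) ≫
          (EtCore.pushGsecIso g).hom.app (lcSheaf U M) =
        (EtCore.constAdj U).unit.app N ≫ (EtCore.gsec U).map (constIso U M).hom := by
      ext n
      apply toLC_injective (V := op (EtCoh.top U))
      intro y
      rw [e2 n y, unit_constIso U M n y]
    have e4 : (EtCore.gsec U).map (constIso U M).hom ≫ (EtCore.gsec U).map (constIso U M).inv =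
        𝟙 _ := by
      rw [← Functor.map_comp, Iso.hom_inv_id, CategoryTheory.Functor.map_id]
    rw [CategoryTheory.Functor.map_id]
    refine Eq.trans ?_ (Category.comp_id _).symm
    calc _ = (EtCore.constAdj X).unit.app N ≫
          ((EtCore.gsec X).map ((EtCoh.pullPushAdj g).unit.app (EtCoh.const X M)) ≫
          (EtCore.gsec X).map ((EtCoh.push g).map β)) ≫
          (EtCore.pushGsecIso g).hom.app (EtCoh.const U M) := by
            simp only [Category.assoc]
            rw [n1]
      _ = ((EtCore.constAdj X).unit.app N ≫ (EtCore.gsec X).map (constIso X M).hom ≫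
          (EtCore.gsec X).map (restrLC g M) ≫
          (EtCore.pushGsecIso g).hom.app (lcSheaf U M)) ≫
            (EtCore.gsec U).map (constIso U M).inv := by
            rw [n3]
            simp only [Category.assoc]
            rw [n2]
      _ = _ := by
            rw [e3, Category.assoc, e4]
            exact Category.comp_id _
  have hβ' : IsIso β := by
    have : β = θ.hom := by
      rw [← cancel_epi θ.inv, hβ, Iso.inv_hom_id]
    rw [this]; infer_instance
  have h3 : IsIso ((EtCoh.pullPushAdj g).unit.app (EtCoh.const X M) ≫ (EtCoh.push g).map β) := by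
    rw [← hα]; infer_instance
  exact IsIso.of_isIso_comp_right _ ((EtCoh.push g).map β)

end PullConst

end Groth.Agent.Lib.Helper4.ConstLC
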