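import Groth.Prelude.Def_EtLim
import Groth.Agent.Lib.Helper4.BCAdj
import Groth.Agent.Lib.Cohomology.Helper3_ExtFunct

/-!
# Coherence of pullback/pushforward isomorphisms on small étale sites (helper4)
-/

set_option autoImplicit false
open CategoryTheory CategoryTheory.Limits AlgebraicGeometry Opposite
universe u

namespace Groth.Agent.Lib.Helper4.EtBCCompat
open Groth.Agent.Lib.Helper4.BCAdj

variable {X Y Z : Scheme.{u}}

lemma compat_pullComp (f : X ⟶ Y) (g : Y ⟶ Z) :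
    Compat (EtCoh.pullPushAdj (f ≫ g)) ((EtCoh.pullPushAdj g).comp (EtCoh.pullPushAdj f))
      (EtCore.pullComp f g).hom (EtCoh.pushComp g f).inv := by
  have h1 := compat_leftAdjointUniq (EtCoh.pullPushAdj (f ≫ g))
    (((EtCoh.pullPushAdj g).comp (EtCoh.pullPushAdj f)).ofNatIsoRight (EtCoh.pushComp g f))
  have h2 := compat_ofNatIsoRight ((EtCoh.pullPushAdj g).comp (EtCoh.pullPushAdj f))
    (EtCoh.pushComp g f)
  have h2' := Compat.symm (l := Iso.refl _) (r := EtCoh.pushComp g f) h2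
  have h3 := h1.trans h2'
  intro x
  have := h3 x
  simpa [EtCore.pullComp] using this

set_option backward.isDefEq.respectTransparency.types false in
lemma pbCongr_rfl (f : X ⟶ Y) (U : Y.Etale) :
    (MorphismProperty.Over.pullbackCongr (P := EtCoh.etaleMP.{u}) (Q := ⊤)
      (rfl : f = f)).inv.app U = 𝟙 _ := by
  rw [← cancel_epi ((MorphismProperty.Over.pullbackCongr (P := EtCoh.etaleMP.{u}) (Q := ⊤)
    (rfl : f = f)).hom.app U), Iso.hom_inv_id_app]
  symm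
  ext
  simp [MorphismProperty.Over.pullbackCongr]
  rfl

set_option backward.isDefEq.respectTransparency.types false in
lemma pushCongr_rfl (f : X ⟶ Y) (M : EtCoh.Ab X) :
    (EtCoh.pushCongr (rfl : f = f)).hom.app M = 𝟙 _ := by
  apply ObjectProperty.hom_ext
  ext U
  simp [EtCoh.pushCongr]
  erw [pbCongr_rfl]
  erw [op_id, M.obj.map_id]
  rfl

lemma compat_pullCongr {f f' : X ⟶ Y} (h : f = f') :
    Compat (EtCoh.pullPushAdj f) (EtCoh.pullPushAdj f') (EtCore.pullCongr h).hom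
      (EtCoh.pushCongr h).hom := by
  subst h
  intro x
  have h1 : (EtCore.pullCongr (rfl : f = f)).hom.app x = 𝟙 _ := by
    simp [EtCore.pullCongr]
  rw [h1, pushCongr_rfl]
  simp

variable {X' Y' : Scheme.{u}}

/-- The iso `g'_* ⋙ f_* ≅ f'_* ⋙ g_*` for a commutative square. -/
noncomputable def sqIsoR (f : X ⟶ Y) (g : Y' ⟶ Y) (f' : X' ⟶ Y') (g' : X' ⟶ X)
    (w : g' ≫ f = f' ≫ g) : EtCoh.push g' ⋙ EtCoh.push f ≅ EtCoh.push f' ⋙ EtCoh.push g :=
  EtCoh.pushComp f g' ≪≫ EtCoh.pushCongr w ≪≫ (EtCoh.pushComp g f').symm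

lemma exists_sqIso (f : X ⟶ Y) (g : Y' ⟶ Y) (f' : X' ⟶ Y') (g' : X' ⟶ X)
    (w : g' ≫ f = f' ≫ g) :
    ∃ e : EtCoh.pull f ⋙ EtCoh.pull g' ≅ EtCoh.pull g ⋙ EtCoh.pull f',
      Compat ((EtCoh.pullPushAdj f).comp (EtCoh.pullPushAdj g'))
        ((EtCoh.pullPushAdj g).comp (EtCoh.pullPushAdj f')) e.hom (sqIsoR f g f' g' w).hom := by
  refine ⟨(EtCore.pullComp g' f).symm ≪≫ EtCore.pullCongr w ≪≫ EtCore.pullComp f' g, ?_⟩
  have c1 := Compat.symm (l := EtCore.pullComp g' f) (r := (EtCoh.pushComp f g').symm)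
    (compat_pullComp g' f)
  have c2 := compat_pullCongr w
  have c3 := compat_pullComp f' g
  exact c1.trans (c2.trans c3)

/-- The iso `f⁻¹ ⋙ g'⁻¹ ≅ g⁻¹ ⋙ f'⁻¹` for a commutative square (made opaque to the kernel on
purpose: only its compatibility with the units is used). -/
noncomputable def sqIso (f : X ⟶ Y) (g : Y' ⟶ Y) (f' : X' ⟶ Y') (g' : X' ⟶ X)
    (w : g' ≫ f = f' ≫ g) : EtCoh.pull f ⋙ EtCoh.pull g' ≅ EtCoh.pull g ⋙ EtCoh.pull f' :=
  (exists_sqIso f g f' g' w).choose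

lemma compat_sq (f : X ⟶ Y) (g : Y' ⟶ Y) (f' : X' ⟶ Y') (g' : X' ⟶ X)
    (w : g' ≫ f = f' ≫ g) :
    Compat ((EtCoh.pullPushAdj f).comp (EtCoh.pullPushAdj g'))
      ((EtCoh.pullPushAdj g).comp (EtCoh.pullPushAdj f'))
      (sqIso f g f' g' w).hom (sqIsoR f g f' g' w).hom :=
  (exists_sqIso f g f' g' w).choose_spec

lemma sq_unit (f : X ⟶ Y) (g : Y' ⟶ Y) (f' : X' ⟶ Y') (g' : X' ⟶ X)
    (w : g' ≫ f = f' ≫ g) (N : EtCoh.Ab Y) :
    (EtCoh.pullPushAdj f).unit.app N ≫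
      (EtCoh.push f).map ((EtCoh.pullPushAdj g').unit.app ((EtCoh.pull f).obj N)) ≫
      (EtCoh.push f).map ((EtCoh.push g').map ((sqIso f g f' g' w).hom.app N)) ≫
      (sqIsoR f g f' g' w).hom.app _ =
    (EtCoh.pullPushAdj g).unit.app N ≫
      (EtCoh.push g).map ((EtCoh.pullPushAdj f').unit.app ((EtCoh.pull g).obj N)) := by
  have := compat_sq f g f' g' w N
  simpa using this

lemma bc_counit_et (f : X ⟶ Y) (g : Y' ⟶ Y) (f' : X' ⟶ Y') (g' : X' ⟶ X)
    (w : g' ≫ f = f' ≫ g) (F : EtCoh.Ab X) :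
    (EtCoh.pull g').map ((EtCoh.pullPushAdj f).counit.app F) =
      (sqIso f g f' g' w).hom.app ((EtCoh.push f).obj F) ≫
        (EtCoh.pull f').map (EtCoh.baseChange0 f g f' g' w F) ≫
        (EtCoh.pullPushAdj f').counit.app ((EtCoh.pull g').obj F) := by
  have := bc_counit (EtCoh.pullPushAdj f) (EtCoh.pullPushAdj g') (EtCoh.pullPushAdj g)
    (EtCoh.pullPushAdj f') (sqIso f g f' g' w).hom (sqIsoR f g f' g' w) (sq_unit f g f' g' w) F
  rw [this]
  simp [EtCoh.baseChange0, sqIsoR]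

lemma compat_pullConst (f : X ⟶ Y) (M : AddCommGrpCat.{u+1}) :
    (EtCore.constAdj Y).unit.app M ≫
      (EtCore.gsec Y).map ((EtCoh.pullPushAdj f).unit.app
        ((constantSheaf Y.smallEtaleTopology AddCommGrpCat.{u+1}).obj M)) ≫
      (EtCore.gsec Y).map ((EtCoh.push f).map ((EtCore.pullConstIso f).hom.app M)) ≫
      (EtCore.pushGsecIso f).hom.app
        ((constantSheaf X.smallEtaleTopology AddCommGrpCat.{u+1}).obj M) =
    (EtCore.constAdj X).unit.app M := by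
  have h1 := compat_ofNatIsoRight ((EtCore.constAdj Y).comp (EtCoh.pullPushAdj f))
    (EtCore.pushGsecIso f)
  have h2 := compat_leftAdjointUniq
    (((EtCore.constAdj Y).comp (EtCoh.pullPushAdj f)).ofNatIsoRight (EtCore.pushGsecIso f))
    (EtCore.constAdj X)
  have h3 := (h1.trans h2) M
  simpa [EtCore.pullConstIso] using h3

lemma chain5 {C : Type*} [Category C] {A : Type*} [Category A] (N : Cᵒᵖ ⥤ A)
    {T0 T1 T2 T3 T4 T5 S1 : C} (hT : IsTerminal T0) (a1 : T1 ⟶ T0) (a2 : T2 ⟶ T1) (a3 : T3 ⟶ T2)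
    (a4 : T4 ⟶ T3) (a5 : T5 ⟶ T4) (b1 : S1 ⟶ T0) (b2 : T5 ⟶ S1) :
    N.map a1.op ≫ N.map a2.op ≫ N.map a3.op ≫ N.map a4.op ≫ N.map a5.op =
      N.map b1.op ≫ N.map b2.op := by
  simp only [← Functor.map_comp, ← op_comp]
  congr 2
  exact hT.hom_ext _ _

set_option backward.isDefEq.respectTransparency.types false in
lemma gsec_compat (f : X ⟶ Y) (g : Y' ⟶ Y) (f' : X' ⟶ Y') (g' : X' ⟶ X)
    (w : g' ≫ f = f' ≫ g) (N : EtCoh.Ab X') :
    (EtCore.gsec Y).map ((sqIsoR f g f' g' w).hom.app N) ≫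
      (EtCore.pushGsecIso g).hom.app ((EtCoh.push f').obj N) ≫ (EtCore.pushGsecIso f').hom.app N =
    (EtCore.pushGsecIso f).hom.app ((EtCoh.push g').obj N) ≫ (EtCore.pushGsecIso g').hom.app N := by
  simp [sqIsoR, EtCore.pushGsecIso, EtCoh.pushComp, EtCoh.pushCongr]
  have hT : IsTerminal ((EtCoh.bc g').obj ((EtCoh.bc f).obj (EtCoh.top Y))) :=
    IsTerminal.isTerminalObj (EtCoh.bc g') _ (EtCore.bcTopIsTerminal f)
  exact chain5 N.obj hT _ _ _ _ _ _ _

lemma pullConst_sq (f : X ⟶ Y) (g : Y' ⟶ Y) (f' : X' ⟶ Y') (g' : X' ⟶ X)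
    (w : g' ≫ f = f' ≫ g) (M : AddCommGrpCat.{u+1}) :
    (sqIso f g f' g' w).hom.app
        ((constantSheaf Y.smallEtaleTopology AddCommGrpCat.{u+1}).obj M) ≫
      (EtCoh.pull f').map ((EtCore.pullConstIso g).hom.app M) ≫
        (EtCore.pullConstIso f').hom.app M =
    (EtCoh.pull g').map ((EtCore.pullConstIso f).hom.app M) ≫
      (EtCore.pullConstIso g').hom.app M := by
  refine const_compat (EtCoh.pullPushAdj f) (EtCoh.pullPushAdj g') (EtCoh.pullPushAdj g)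
    (EtCoh.pullPushAdj f') (sqIso f g f' g' w).hom (sqIsoR f g f' g' w) ?_
    (EtCore.constAdj Y) (EtCore.constAdj X) (EtCore.constAdj Y') (EtCore.constAdj X')
    (EtCore.pushGsecIso f) (EtCore.pushGsecIso g') (EtCore.pushGsecIso g) (EtCore.pushGsecIso f')
    (EtCore.pullConstIso f).hom (EtCore.pullConstIso g').hom (EtCore.pullConstIso g).hom
    (EtCore.pullConstIso f').hom ?_ ?_ ?_ ?_ ?_ M
  · as_aux_lemma => exact sq_unit f g f' g' w
  · as_aux_lemma => exact compat_pullConst f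
  · as_aux_lemma => exact compat_pullConst g'
  · as_aux_lemma => exact compat_pullConst g
  · as_aux_lemma => exact compat_pullConst f'
  · as_aux_lemma => exact gsec_compat f g f' g' w

lemma pullConst_sq_inv (f : X ⟶ Y) (g : Y' ⟶ Y) (f' : X' ⟶ Y') (g' : X' ⟶ X)
    (w : g' ≫ f = f' ≫ g) (M : AddCommGrpCat.{u+1}) :
    ((EtCore.pullConstIso g').inv.app M ≫ (EtCoh.pull g').map ((EtCore.pullConstIso f).inv.app M)) ≫
      (sqIso f g f' g' w).hom.app
        ((constantSheaf Y.smallEtaleTopology AddCommGrpCat.{u+1}).obj M) =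
    (EtCore.pullConstIso f').inv.app M ≫ (EtCoh.pull f').map ((EtCore.pullConstIso g).inv.app M) :=
  inv_form (sqIso f g f' g' w).hom (EtCore.pullConstIso f) (EtCore.pullConstIso g')
    (EtCore.pullConstIso g) (EtCore.pullConstIso f') M (pullConst_sq f g f' g' w M)

lemma bc_counit_et' (f : X ⟶ Y) (g : Y' ⟶ Y) (f' : X' ⟶ Y') (g' : X' ⟶ X)
    (w : g' ≫ f = f' ≫ g) (F : EtCoh.Ab X) :
    (sqIso f g f' g' w).inv.app ((EtCoh.push f).obj F) ≫
        (EtCoh.pull g').map ((EtCoh.pullPushAdj f).counit.app F) =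
      (EtCoh.pull f').map (EtCoh.baseChange0 f g f' g' w F) ≫
        (EtCoh.pullPushAdj f').counit.app ((EtCoh.pull g').obj F) := by
  rw [bc_counit_et f g f' g' w F, Iso.inv_hom_id_app_assoc]

end Groth.Agent.Lib.Helper4.EtBCCompat
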