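import Groth.Agent.Lib.Helper4.EtBCCompat
import Groth.Agent.Lib.Helper4.ConjSq

/-!
# `EtCore.Hpull`, `EtLim.HofPush` as `conjMap`s, and their base change compatibility (helper4)
-/

set_option autoImplicit false
open CategoryTheory CategoryTheory.Limits AlgebraicGeometry Opposite
universe u

namespace Groth.Agent.Lib.Helper4.EtHpullConj
open Groth.Agent.Lib.Cohomology.ExtFunct Groth.Agent.Lib.Helper4.EtBCCompat

variable {X Y X' Y' : Scheme.{u}}

lemma Hpull_eq_conjMap (u : X ⟶ Y) [PreservesFiniteLimits (EtCoh.pull u)] (G : EtCoh.Ab Y)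
    (n : ℕ) (x : EtCoh.H Y G n) :
    EtCore.Hpull u G n x =
      conjMap (EtCoh.pull u) (EtCore.pullConst u ℤ).inv (𝟙 ((EtCoh.pull u).obj G)) n x := by
  rw [conjMap_apply, Abelian.Ext.comp_mk₀_id]
  rfl

lemma HF_map_apply (X : Scheme.{u}) {F G : EtCoh.Ab X} (φ : F ⟶ G) (n : ℕ) (x : EtCoh.H X F n) :
    ((EtCoh.HF X n).map φ).hom x = x.comp (Abelian.Ext.mk₀ φ) (add_zero n) := rfl

lemma HofPush_eq_conjMap (u : X ⟶ Y) [PreservesFiniteLimits (EtCoh.pull u)] (F : EtCoh.Ab X)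
    (n : ℕ) (x : EtCoh.H Y ((EtCoh.push u).obj F) n) :
    EtLim.HofPush u F n x =
      conjMap (EtCoh.pull u) (EtCore.pullConst u ℤ).inv ((EtCoh.pullPushAdj u).counit.app F) n x := by
  have h : EtLim.HofPush u F n x =
      ((EtCoh.HF X n).map ((EtCoh.pullPushAdj u).counit.app F)).hom
        (EtCore.Hpull u ((EtCoh.push u).obj F) n x) := rfl
  rw [h, Hpull_eq_conjMap, HF_map_apply, Groth.Agent.Lib.Helper4.ConjSq.conjMap_comp_mk₀,
    Category.id_comp]

end Groth.Agent.Lib.Helper4.EtHpullConj
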