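import Mathlib
import Groth.Prelude.Def_EtBaseX

/-!
# Helper library (helper4): the étale local ring at a geometric point is strictly henselian

`ev ξ` evaluation at the geometric point, `isUnit_iff_ev_ne_zero`, `exists_root_nbhd` (standard étale
neighbourhood adjoining a simple root), `exists_root`, `isLocalRing`, `henselianLocalRing`,
`isSepClosed_residueField`, `isStrictlyHenselian`.
-/

set_option autoImplicit false
open CategoryTheory CategoryTheory.Limits AlgebraicGeometry Opposite Polynomial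
universe u

namespace Groth.Agent.Lib.Helper4.EtLocalRing

/-- Standard étale neighbourhood adjoining a simple root. -/
theorem exists_root_nbhd {U : Scheme.{u}} {Ω : Type u} [Field Ω]
    (ul : Spec (CommRingCat.of Ω) ⟶ U) (g : Γ(U, ⊤)[X]) (hg : g.Monic) (α : Ω)
    (hα : (g.map (ul.appTop ≫ (Scheme.ΓSpecIso (CommRingCat.of Ω)).hom).hom).eval α = 0)
    (hα' : (g.map (ul.appTop ≫ (Scheme.ΓSpecIso (CommRingCat.of Ω)).hom).hom).derivative.eval α ≠ 0) :
    ∃ (W : Scheme.{u}) (p : W ⟶ U) (_ : Etale p) (wl : Spec (CommRingCat.of Ω) ⟶ W)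
      (_ : wl ≫ p = ul) (T : Γ(W, ⊤)),
      (g.map p.appTop.hom).eval T = 0 ∧
      (Scheme.ΓSpecIso (CommRingCat.of Ω)).hom.hom (wl.appTop.hom T) = α := by
  let A : CommRingCat.{u} := Γ(U, ⊤)
  let e : A ⟶ CommRingCat.of Ω := ul.appTop ≫ (Scheme.ΓSpecIso (CommRingCat.of Ω)).hom
  let P : StandardEtalePair A := ⟨g, hg, derivative g, ⟨1, 0, 1, by simp⟩⟩
  letI algΩ : Algebra A Ω := e.hom.toAlgebra
  have hmap : P.HasMap α := by
    refine ⟨?_, IsUnit.mk0 _ ?_⟩
    · change aeval α g = 0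
      rw [aeval_def, eval₂_eq_eval_map]
      exact hα
    · change aeval α (derivative g) ≠ 0
      rw [aeval_def, eval₂_eq_eval_map, ← derivative_map]
      exact hα'
  let β : P.Ring →ₐ[A] Ω := P.lift α hmap
  let B : CommRingCat.{u} := CommRingCat.of P.Ring
  let a : A ⟶ B := CommRingCat.ofHom (algebraMap A P.Ring)
  let β' : B ⟶ CommRingCat.of Ω := CommRingCat.ofHom β.toRingHom
  have haβ : a ≫ β' = e := by
    ext x
    exact β.commutes x
  let q : Spec B ⟶ Spec A := Spec.map a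
  haveI : Etale q := by
    rw [HasRingHomProperty.Spec_iff (P := @Etale)]
    rw [CommRingCat.hom_ofHom, RingHom.etale_algebraMap]
    infer_instance
  have compat : ul ≫ U.toSpecΓ = Spec.map β' ≫ q := by
    rw [Scheme.toSpecΓ_naturality, ← SpecMap_ΓSpecIso_hom, ← Spec.map_comp, ← Spec.map_comp, haβ]
  let W : Scheme.{u} := pullback U.toSpecΓ q
  let p : W ⟶ U := pullback.fst _ _
  let wl : Spec (CommRingCat.of Ω) ⟶ W := pullback.lift ul (Spec.map β') compat
  let ψ : B ⟶ Γ(W, ⊤) := (Scheme.ΓSpecIso B).inv ≫ (pullback.snd U.toSpecΓ q).appTop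
  have hψ : a ≫ ψ = p.appTop := by
    dsimp only [ψ]
    rw [Scheme.ΓSpecIso_inv_naturality_assoc, ← Scheme.Hom.comp_appTop, ← pullback.condition,
      Scheme.Hom.comp_appTop, Scheme.toSpecΓ_appTop, Iso.inv_hom_id_assoc]
  refine ⟨W, p, inferInstance, wl, pullback.lift_fst _ _ _, ψ.hom P.X, ?_, ?_⟩
  · rw [← hψ]
    change ((g.map (ψ.hom.comp a.hom))).eval (ψ.hom P.X) = 0
    rw [← Polynomial.map_map, Polynomial.eval_map_apply]
    have : (g.map a.hom).eval P.X = 0 := by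
      have h := (StandardEtalePair.hasMap_X (P := P)).1
      change aeval P.X g = 0 at h
      rwa [aeval_def, eval₂_eq_eval_map] at h
    rw [this, map_zero]
  · change ((Scheme.ΓSpecIso B).inv ≫ ((pullback.snd U.toSpecΓ q).appTop ≫ wl.appTop) ≫
      (Scheme.ΓSpecIso (CommRingCat.of Ω)).hom).hom P.X = α
    rw [← Scheme.Hom.comp_appTop, pullback.lift_snd, Scheme.ΓSpecIso_naturality,
      Iso.inv_hom_id_assoc]
    exact P.lift_X α hmap


variable {X : Scheme.{u}} {Ω : Type u} [Field Ω] [IsSepClosed Ω] (ξ : Spec (CommRingCat.of Ω) ⟶ X)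

/-- the point of the small étale site -/
noncomputable abbrev Φ := Scheme.pointSmallEtale ξ

/-- the étale local ring -/
noncomputable abbrev R : CommRingCat.{u} := EtBase.etaleLocalRing ξ

/-- the structure map of a stage -/
noncomputable abbrev ι (U : X.Etale) (u : (Φ ξ).fiber.obj U) : Γ(U.left, ⊤) ⟶ R ξ :=
  (Φ ξ).toPresheafFiber U u (EtBase.OO X)

/-- evaluation of functions on a stage at the geometric point -/
noncomputable def evStage (U : X.Etale) (u : (Φ ξ).fiber.obj U) :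
    Γ(U.left, ⊤) ⟶ CommRingCat.of Ω :=
  u.left.appTop ≫ (Scheme.ΓSpecIso (CommRingCat.of Ω)).hom

set_option backward.isDefEq.respectTransparency.types false in
theorem evStage_w {U V : X.Etale} (f : U ⟶ V) (u : (Φ ξ).fiber.obj U) :
    (EtBase.OO X).map f.op ≫ evStage ξ U u = evStage ξ V ((Φ ξ).fiber.map f u) := by
  dsimp only [evStage]
  refine (Category.assoc _ _ _).symm.trans ?_
  congr 1

/-- evaluation at the geometric point -/
noncomputable def ev : R ξ ⟶ CommRingCat.of Ω :=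
  (Φ ξ).presheafFiberDesc (fun U u => evStage ξ U u) (fun _ _ f u => evStage_w ξ f u)

theorem ι_ev (U : X.Etale) (u : (Φ ξ).fiber.obj U) : ι ξ U u ≫ ev ξ = evStage ξ U u :=
  (Φ ξ).toPresheafFiber_presheafFiberDesc _ _ U u

theorem ev_ι_apply (U : X.Etale) (u : (Φ ξ).fiber.obj U) (s : Γ(U.left, ⊤)) :
    (ev ξ).hom ((ι ξ U u).hom s) = (evStage ξ U u).hom s := by
  rw [← ι_ev]; rfl


theorem isUnit_of_basicOpen_eq_top {Y : Scheme.{u}} (t : Γ(Y, ⊤)) (h : Y.basicOpen t = ⊤) :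
    IsUnit t := by
  refine Y.toRingedSpace.isUnit_of_isUnit_germ ⊤ t (fun x hx => ?_)
  have hx' : x ∈ Y.basicOpen t := by rw [h]; trivial
  exact (Y.mem_basicOpen t x hx).1 hx'


/-- points of the fibre from morphisms of schemes -/
noncomputable abbrev mkPt (U : X.Etale) (ul : Spec (CommRingCat.of Ω) ⟶ U.left) (hul : ul ≫ U.hom = ξ) :
    (Φ ξ).fiber.obj U := Over.homMk ul hul

theorem exists_mkPt (U : X.Etale) (u : (Φ ξ).fiber.obj U) :
    ∃ (ul : Spec (CommRingCat.of Ω) ⟶ U.left) (hul : ul ≫ U.hom = ξ), u = mkPt ξ U ul hul := by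
  obtain ⟨ul, hul, rfl⟩ := Over.homMk_surjective u
  exact ⟨ul, hul, rfl⟩

theorem evStage_mkPt_apply (U : X.Etale) (ul : Spec (CommRingCat.of Ω) ⟶ U.left)
    (hul : ul ≫ U.hom = ξ) (s : Γ(U.left, ⊤)) :
    (evStage ξ U (mkPt ξ U ul hul)).hom s =
      (Scheme.ΓSpecIso (CommRingCat.of Ω)).hom.hom (ul.appTop.hom s) := rfl

set_option backward.isDefEq.respectTransparency.types false in
/-- restriction to an open subscheme through which the point factors -/
theorem exists_restrict (U : X.Etale) (ul : Spec (CommRingCat.of Ω) ⟶ U.left) (hul : ul ≫ U.hom = ξ)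
    (D : U.left.Opens) (hD : ul ⁻¹ᵁ D = ⊤) :
    ∃ (vl : Spec (CommRingCat.of Ω) ⟶ (D : Scheme.{u})) (hvl : vl ≫ D.ι = ul)
      (hv : vl ≫ (D.ι ≫ U.hom) = ξ),
      ∀ s : Γ(U.left, ⊤), (ι ξ U (mkPt ξ U ul hul)).hom s =
        (ι ξ (Scheme.Etale.mk (D.ι ≫ U.hom)) (mkPt ξ (Scheme.Etale.mk (D.ι ≫ U.hom)) vl hv)).hom
          (D.ι.appTop.hom s) := by
  have hrange : Set.range ul.base ⊆ Set.range D.ι.base := by
    rintro _ ⟨y, rfl⟩
    have : y ∈ ul ⁻¹ᵁ D := by rw [hD]; trivial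
    exact (Scheme.Opens.range_ι D).symm ▸ this
  let vl : Spec (CommRingCat.of Ω) ⟶ ↑D := IsOpenImmersion.lift D.ι ul hrange
  have hvl : vl ≫ D.ι = ul := IsOpenImmersion.lift_fac _ _ _
  have hv : vl ≫ (D.ι ≫ U.hom) = ξ := by rw [← Category.assoc, hvl, hul]
  refine ⟨vl, hvl, hv, fun s => ?_⟩
  let V : X.Etale := Scheme.Etale.mk (D.ι ≫ U.hom)
  let j : V ⟶ U := MorphismProperty.Over.homMk D.ι rfl trivial
  have hj : (Φ ξ).fiber.map j (mkPt ξ V vl hv) = mkPt ξ U ul hul := by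
    apply Over.OverMorphism.ext
    exact hvl
  rw [← hj]
  exact ((Φ ξ).toPresheafFiber_w_apply j (mkPt ξ V vl hv) (EtBase.OO X) s).symm

set_option backward.isDefEq.respectTransparency.types false in
/-- an element of the étale local ring with nonzero value is a unit -/
theorem isUnit_of_ev_ne_zero (r : R ξ) (hr : (ev ξ).hom r ≠ 0) : IsUnit r := by
  obtain ⟨U, u, s, rfl⟩ := (Φ ξ).toPresheafFiber_jointly_surjective r
  obtain ⟨ul, hul, rfl⟩ := exists_mkPt ξ U u
  change (ev ξ).hom ((ι ξ U _).hom s) ≠ 0 at hr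
  rw [ev_ι_apply, evStage_mkPt_apply] at hr
  have h1 : IsUnit (ul.appTop.hom s) := by
    have h2 : IsUnit ((Scheme.ΓSpecIso (CommRingCat.of Ω)).hom.hom (ul.appTop.hom s)) :=
      IsUnit.mk0 _ hr
    have := h2.map (Scheme.ΓSpecIso (CommRingCat.of Ω)).inv.hom
    have h3 : (Scheme.ΓSpecIso (CommRingCat.of Ω)).inv.hom
        ((Scheme.ΓSpecIso (CommRingCat.of Ω)).hom.hom (ul.appTop.hom s)) = ul.appTop.hom s := by
      change ((Scheme.ΓSpecIso (CommRingCat.of Ω)).hom ≫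
        (Scheme.ΓSpecIso (CommRingCat.of Ω)).inv).hom _ = _
      rw [Iso.hom_inv_id]; rfl
    rwa [h3] at this
  have h4 : ul ⁻¹ᵁ (U.left.basicOpen s) = ⊤ :=
    (Scheme.Hom.preimage_basicOpen ul s).trans (Scheme.basicOpen_of_isUnit _ h1)
  obtain ⟨vl, hvl, hv, h5⟩ := exists_restrict ξ U ul hul _ h4
  change IsUnit ((ι ξ U _).hom s)
  rw [h5]
  refine IsUnit.map _ ?_
  apply isUnit_of_basicOpen_eq_top
  refine (Scheme.Hom.preimage_basicOpen (U.left.basicOpen s).ι s).symm.trans ?_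
  ext y
  simp only [Scheme.Hom.mem_preimage, TopologicalSpace.Opens.coe_top, Set.mem_univ, iff_true]
  exact y.2


theorem range_ι_mono {U W : X.Etale} (f : W ⟶ U) (w : (Φ ξ).fiber.obj W) :
    Set.range (ι ξ U ((Φ ξ).fiber.map f w)).hom ⊆ Set.range (ι ξ W w).hom := by
  rintro _ ⟨s, rfl⟩
  exact ⟨(EtBase.OO X).map f.op s, (Φ ξ).toPresheafFiber_w_apply f w (EtBase.OO X) s⟩

theorem exists_stage_finset (S : Finset (R ξ)) :
    ∃ (U : X.Etale) (u : (Φ ξ).fiber.obj U), (S : Set (R ξ)) ⊆ Set.range (ι ξ U u).hom := by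
  classical
  induction S using Finset.induction_on with
  | empty =>
    exact ⟨EtCoh.top X, mkPt ξ (EtCoh.top X) ξ (Category.comp_id _), by simp⟩
  | insert a S _ ih =>
    obtain ⟨U, u, hU⟩ := ih
    obtain ⟨U', u', s', hs'⟩ := (Φ ξ).toPresheafFiber_jointly_surjective a
    let m : (Φ ξ).fiber.Elements := IsCofiltered.min ⟨U, u⟩ ⟨U', u'⟩
    let fL : m ⟶ ⟨U, u⟩ := IsCofiltered.minToLeft _ _
    let fR : m ⟶ ⟨U', u'⟩ := IsCofiltered.minToRight _ _
    refine ⟨m.1, m.2, ?_⟩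
    intro x hx
    rw [Finset.coe_insert, Set.mem_insert_iff] at hx
    rcases hx with rfl | hx
    · have := range_ι_mono ξ fR.1 m.2
      rw [fR.2] at this
      exact this ⟨s', hs'⟩
    · have := range_ι_mono ξ fL.1 m.2
      rw [fL.2] at this
      exact this (hU hx)

set_option backward.isDefEq.respectTransparency.types false in
/-- lifting of simple roots from the geometric point -/
theorem exists_root (f : (R ξ)[X]) (hf : f.Monic) (α : Ω)
    (h0 : (f.map (ev ξ).hom).eval α = 0) (h1 : (f.map (ev ξ).hom).derivative.eval α ≠ 0) :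
    ∃ t : R ξ, f.eval t = 0 ∧ (ev ξ).hom t = α := by
  obtain ⟨U, u, hU⟩ := exists_stage_finset ξ f.coeffs
  have hlift : f ∈ Polynomial.lifts (ι ξ U u).hom := by
    rw [Polynomial.lifts_iff_coeff_lifts]
    intro n
    by_cases hn : f.coeff n = 0
    · rw [hn]; exact ⟨0, map_zero _⟩
    · exact hU (Polynomial.coeff_mem_coeffs hn)
  obtain ⟨g, hg, -, hgm⟩ := Polynomial.lifts_and_natDegree_eq_and_monic hlift hf
  obtain ⟨ul, hul, rfl⟩ := exists_mkPt ξ U u
  have hev : f.map (ev ξ).hom =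
      g.map (ul.appTop ≫ (Scheme.ΓSpecIso (CommRingCat.of Ω)).hom).hom := by
    rw [← hg, Polynomial.map_map]
    congr 1
    exact congrArg CommRingCat.Hom.hom (ι_ev ξ U (mkPt ξ U ul hul))
  rw [hev] at h0 h1
  obtain ⟨W, p, hp, wl, hwl, T, hT0, hTα⟩ := exists_root_nbhd ul g hgm α h0 h1
  haveI : Etale p := hp
  let V : X.Etale := Scheme.Etale.mk (p ≫ U.hom)
  let j : V ⟶ U := MorphismProperty.Over.homMk p rfl trivial
  have hw : wl ≫ (p ≫ U.hom) = ξ := by rw [← Category.assoc, hwl, hul]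
  have hj : (Φ ξ).fiber.map j (mkPt ξ V wl hw) = mkPt ξ U ul hul := by
    apply Over.OverMorphism.ext
    exact hwl
  have hι : p.appTop ≫ ι ξ V (mkPt ξ V wl hw) = ι ξ U (mkPt ξ U ul hul) := by
    rw [← hj]
    exact (Φ ξ).toPresheafFiber_w j (mkPt ξ V wl hw) (EtBase.OO X)
  refine ⟨(ι ξ V (mkPt ξ V wl hw)).hom T, ?_, ?_⟩
  · rw [← hg, ← hι]
    change ((g.map ((ι ξ V (mkPt ξ V wl hw)).hom.comp p.appTop.hom))).eval _ = 0
    rw [← Polynomial.map_map, Polynomial.eval_map_apply]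
    exact (congrArg (ι ξ V (mkPt ξ V wl hw)).hom hT0).trans (map_zero _)
  · rw [ev_ι_apply, evStage_mkPt_apply]
    exact hTα


theorem isUnit_iff_ev_ne_zero (r : R ξ) : IsUnit r ↔ (ev ξ).hom r ≠ 0 :=
  ⟨fun h => (h.map (ev ξ).hom).ne_zero, isUnit_of_ev_ne_zero ξ r⟩

theorem isLocalRing : IsLocalRing (R ξ) := by
  haveI : Nontrivial (R ξ) := (ev ξ).hom.domain_nontrivial
  refine IsLocalRing.of_nonunits_add ?_
  intro a b ha hb
  rw [mem_nonunits_iff, isUnit_iff_ev_ne_zero, not_not] at ha hb ⊢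
  rw [map_add, ha, hb, add_zero]

theorem mem_maximalIdeal_iff [IsLocalRing (R ξ)] (r : R ξ) :
    r ∈ IsLocalRing.maximalIdeal (R ξ) ↔ (ev ξ).hom r = 0 := by
  rw [IsLocalRing.mem_maximalIdeal, mem_nonunits_iff, isUnit_iff_ev_ne_zero, not_not]

theorem henselianLocalRing : HenselianLocalRing (R ξ) := by
  haveI := isLocalRing ξ
  refine ⟨fun f hf a₀ h₁ h₂ => ?_⟩
  rw [mem_maximalIdeal_iff] at h₁
  rw [isUnit_iff_ev_ne_zero] at h₂
  obtain ⟨t, ht0, htα⟩ := exists_root ξ f hf ((ev ξ).hom a₀)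
    (by rw [Polynomial.eval_map_apply, h₁])
    (by rw [Polynomial.derivative_map, Polynomial.eval_map_apply]; exact h₂)
  refine ⟨t, ht0, ?_⟩
  rw [mem_maximalIdeal_iff, map_sub, htα, sub_self]

theorem isSepClosed_residueField [IsLocalRing (R ξ)] :
    IsSepClosed (IsLocalRing.ResidueField (R ξ)) := by
  haveI : IsLocalHom (ev ξ).hom := ⟨fun a ha => (isUnit_iff_ev_ne_zero ξ a).2 ha.ne_zero⟩
  let evb : IsLocalRing.ResidueField (R ξ) →+* Ω := IsLocalRing.ResidueField.lift (ev ξ).hom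
  have hevb : evb.comp (IsLocalRing.residue (R ξ)) = (ev ξ).hom := by
    ext x; exact IsLocalRing.ResidueField.lift_residue_apply _ x
  refine IsSepClosed.of_exists_root _ fun p hp hirr hsep => ?_
  obtain ⟨f, hfp, -, hfm⟩ := Polynomial.lifts_and_natDegree_eq_and_monic
    (Polynomial.map_surjective _ IsLocalRing.residue_surjective p |>.elim
      (fun q hq => (Polynomial.mem_lifts _).2 ⟨q, hq⟩)) hp
  have hsep' : (p.map evb).Separable := hsep.map
  have hdeg : (p.map evb).degree ≠ 0 := by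
    rw [Polynomial.degree_map]
    exact (Polynomial.degree_pos_of_irreducible hirr).ne'
  obtain ⟨α, hα⟩ := IsSepClosed.exists_root (p.map evb) hdeg hsep'
  have hfev : f.map (ev ξ).hom = p.map evb := by
    rw [← hevb, ← Polynomial.map_map, hfp]
  obtain ⟨t, ht0, -⟩ := exists_root ξ f hfm α (by rw [hfev]; exact hα)
    (by
      rw [hfev]
      exact hsep'.eval₂_derivative_ne_zero (RingHom.id _) (by rwa [Polynomial.eval₂_id]))
  refine ⟨IsLocalRing.residue (R ξ) t, ?_⟩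
  rw [← hfp, Polynomial.eval_map_apply, ht0, map_zero]

theorem isStrictlyHenselian : EtCoh.IsStrictlyHenselianLocalRing (R ξ) :=
  ⟨henselianLocalRing ξ, by
    haveI := isLocalRing ξ
    exact isSepClosed_residueField ξ⟩

end Groth.Agent.Lib.Helper4.EtLocalRing
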