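import Mathlib
import Groth.Agent.Lib.Helper4.EtaleCoreflection
import Groth.Agent.Lib.Helper4.IndEtaleComp
import Groth.Agent.S0736
import Groth.Prelude.Def_ProEtW

/-!
# Helper library (helper4): a faithfully flat ind-étale extension with étale retractions
(Stacks 097V), via the coreflection `Et A (∏ algebraic closures of residue fields)`.
-/

set_option autoImplicit false

universe u

open CategoryTheory CategoryTheory.Limits TensorProduct

namespace Groth.Agent.Lib.Helper4

/-- a nontrivial algebra of finite type over an algebraically closed field has a rational point -/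
theorem exists_algHom_of_nontrivial (K : Type*) [Field K] [IsAlgClosed K] (Y : Type*)
    [CommRing Y] [Algebra K Y] [Algebra.FiniteType K Y] [Nontrivial Y] :
    Nonempty (Y →ₐ[K] K) := by
  obtain ⟨M, hM⟩ := Ideal.exists_maximal Y
  let _ : Field (Y ⧸ M) := Ideal.Quotient.field M
  have : Algebra.FiniteType K (Y ⧸ M) :=
    Algebra.FiniteType.of_surjective (Ideal.Quotient.mkₐ K M) Ideal.Quotient.mk_surjective
  have : Module.Finite K (Y ⧸ M) := finite_of_finite_type_of_isJacobsonRing K (Y ⧸ M)
  have hbij : Function.Bijective (algebraMap K (Y ⧸ M)) :=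
    IsAlgClosed.algebraMap_bijective_of_isIntegral
  let e : K ≃ₐ[K] (Y ⧸ M) := AlgEquiv.ofBijective (Algebra.ofId K (Y ⧸ M)) hbij
  exact ⟨e.symm.toAlgHom.comp (Ideal.Quotient.mkₐ K M)⟩

section Main

variable (A : Type u) [CommRing A]

/-- the product of the algebraic closures of all residue fields -/
abbrev Ωprod : Type u := ∀ p : PrimeSpectrum A, AlgebraicClosure p.asIdeal.ResidueField

/-- the extension -/
abbrev EtΩ : Type u := Et A (Ωprod A)

/-- the point of `EtΩ` over `p` -/
noncomputable def χΩ (p : PrimeSpectrum A) :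
    EtΩ A →ₐ[A] AlgebraicClosure p.asIdeal.ResidueField :=
  (Pi.evalAlgHom A (fun p : PrimeSpectrum A => AlgebraicClosure p.asIdeal.ResidueField) p).comp
    (etπ A (Ωprod A))

theorem flat_EtΩ : Module.Flat A (EtΩ A) := by
  have := Groth.Agent.S0736.result A (EtΩ A) (isIndEtale_Et A (Ωprod A))
  infer_instance

theorem faithfullyFlat_EtΩ : Module.FaithfullyFlat A (EtΩ A) := by
  have := flat_EtΩ A
  refine ⟨fun m hm htop => ?_⟩
  let p : PrimeSpectrum A := ⟨m, hm.isPrime⟩
  have h0 : ∀ c ∈ m • (⊤ : Submodule A (EtΩ A)), χΩ A p c = 0 := by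
    intro c hc
    refine Submodule.smul_induction_on hc (fun r hr c _ => ?_) (fun x y hx hy => ?_)
    · rw [map_smul, Algebra.smul_def,
        IsScalarTower.algebraMap_apply A p.asIdeal.ResidueField
          (AlgebraicClosure p.asIdeal.ResidueField)]
      have : algebraMap A p.asIdeal.ResidueField r = 0 :=
        Ideal.algebraMap_residueField_eq_zero.mpr hr
      rw [this, map_zero, zero_mul]
    · rw [map_add, hx, hy, add_zero]
  have h1 : (1 : EtΩ A) ∈ m • (⊤ : Submodule A (EtΩ A)) := by
    rw [htop]; exact Submodule.mem_top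
  have := h0 1 h1
  rw [map_one] at this
  exact one_ne_zero this

theorem hasEtaleRetractions_EtΩ : ProEtW.HasEtaleRetractions (EtΩ A) := by
  intro B _ _ hff hEt
  let _ : Algebra A B := ((algebraMap (EtΩ A) B).comp (algebraMap A (EtΩ A))).toAlgebra
  have : IsScalarTower A (EtΩ A) B := IsScalarTower.of_algebraMap_eq (fun _ => rfl)
  have hB : HasFactorization (etaleClass A) B :=
    hasFactorization_of_isIndEtale_of_etale A (EtΩ A) B (isIndEtale_Et A _)
  have hC : HasFactorization (etaleClass A) (EtΩ A) :=
    (isIndEtale_iff_hasFactorization _).mp (isIndEtale_Et A _)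
  -- pointwise maps
  have hpt : ∀ p : PrimeSpectrum A, ∃ s : B →+* AlgebraicClosure p.asIdeal.ResidueField,
      ∀ c, s (algebraMap (EtΩ A) B c) = χΩ A p c := by
    intro p
    let _ : Algebra (EtΩ A) (AlgebraicClosure p.asIdeal.ResidueField) :=
      (χΩ A p).toRingHom.toAlgebra
    have : Nontrivial (AlgebraicClosure p.asIdeal.ResidueField ⊗[EtΩ A] B) := inferInstance
    have : Algebra.FiniteType (AlgebraicClosure p.asIdeal.ResidueField)
        (AlgebraicClosure p.asIdeal.ResidueField ⊗[EtΩ A] B) := inferInstance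
    obtain ⟨s⟩ := exists_algHom_of_nontrivial (AlgebraicClosure p.asIdeal.ResidueField)
      (AlgebraicClosure p.asIdeal.ResidueField ⊗[EtΩ A] B)
    refine ⟨s.toRingHom.comp (Algebra.TensorProduct.includeRight :
      B →ₐ[EtΩ A] AlgebraicClosure p.asIdeal.ResidueField ⊗[EtΩ A] B).toRingHom, fun c => ?_⟩
    change s ((1 : AlgebraicClosure p.asIdeal.ResidueField) ⊗ₜ[EtΩ A] (algebraMap (EtΩ A) B c)) = _
    have h1 : (1 : AlgebraicClosure p.asIdeal.ResidueField) ⊗ₜ[EtΩ A] (algebraMap (EtΩ A) B c) =
        algebraMap (AlgebraicClosure p.asIdeal.ResidueField)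
          (AlgebraicClosure p.asIdeal.ResidueField ⊗[EtΩ A] B) (χΩ A p c) := by
      rw [Algebra.TensorProduct.algebraMap_apply, Algebra.algebraMap_self, RingHom.id_apply,
        Algebra.algebraMap_eq_smul_one, TensorProduct.tmul_smul, TensorProduct.smul_tmul',
        Algebra.smul_def, mul_one]
      rfl
    rw [h1, s.commutes]
    rfl
  choose s hs using hpt
  have hsA : ∀ (p : PrimeSpectrum A) (a : A), s p (algebraMap A B a) =
      algebraMap A (AlgebraicClosure p.asIdeal.ResidueField) a := by
    intro p a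
    change s p (algebraMap (EtΩ A) B (algebraMap A (EtΩ A) a)) = _
    rw [hs, (χΩ A p).commutes]
  let σ : B →ₐ[A] Ωprod A :=
    { toRingHom := RingHom.pi s
      commutes' := fun a => by
        funext p
        exact hsA p a }
  have hσ : σ.comp (IsScalarTower.toAlgHom A (EtΩ A) B) = etπ A (Ωprod A) := by
    ext c p
    exact hs p c
  obtain ⟨τ, hτ⟩ := exists_lift_of_hasFactorization σ hB
  have hid : τ.comp (IsScalarTower.toAlgHom A (EtΩ A) B) = AlgHom.id A (EtΩ A) := by
    apply etπ_comp_injective A (Ωprod A) (EtΩ A) hC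
    rw [← AlgHom.comp_assoc, hτ, hσ, AlgHom.comp_id]
  exact ⟨{ toRingHom := τ.toRingHom
           commutes' := fun c => congrArg (fun m => m c) hid }⟩

/-- **Stacks 097V**: every ring has a faithfully flat ind-étale extension over which all
faithfully flat étale algebras have retractions. -/
theorem exists_etaleRetractions : ∃ (C : Type u) (_ : CommRing C) (_ : Algebra A C),
    Module.FaithfullyFlat A C ∧ EtPBC.IsIndEtale A C ∧ ProEtW.HasEtaleRetractions C :=
  ⟨EtΩ A, inferInstance, inferInstance, faithfullyFlat_EtΩ A, isIndEtale_Et A _,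
    hasEtaleRetractions_EtΩ A⟩

end Main

end Groth.Agent.Lib.Helper4
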