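import Mathlib
import Groth.Prelude.Def_EtBase
import Groth.Agent.Lib.Helper37.HenselPi
import Groth.Agent.Lib.Helper37.HenselFinite
import Groth.Agent.Lib.Helper4.WLocalSquare

/-!
# Finite algebras over (strictly) henselian local rings

* `exists_local_factor`: localization of a finite algebra over a henselian local ring at a maximal
  ideal is a finite local algebra.
* `eq_of_le_of_le`: a prime of a finite algebra over a henselian local ring lies in exactly one
  maximal ideal.
* `isStrictlyHenselian_of_finite`: local finite algebra over strictly henselian is strictly henselian.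
-/

set_option autoImplicit false
set_option linter.style.haveILetI false

universe u

namespace Groth.Agent.Lib.Helper4.FinHensel

open Groth.Agent.Lib.Helper37 Groth.Agent.Lib.Helper4.AlgRes

section Pi

variable {ι : Type u} [Finite ι] (T : ι → Type u) [∀ i, CommRing (T i)] [∀ i, IsLocalRing (T i)]

/-- maximal ideals of a finite product of local rings -/
theorem exists_eq_comap_maximalIdeal (N : Ideal (∀ i, T i)) [hN : N.IsMaximal] :
    ∃ i : ι, N = (IsLocalRing.maximalIdeal (T i)).comap (Pi.evalRingHom T i) := by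
  haveI := hN.isPrime
  obtain ⟨⟨i, P⟩, hP⟩ := (PrimeSpectrum.sigmaToPi_bijective T).surjective ⟨N, inferInstance⟩
  refine ⟨i, ?_⟩
  have hN' : N = P.asIdeal.comap (Pi.evalRingHom T i) := by
    have := congrArg PrimeSpectrum.asIdeal hP
    simpa using this.symm
  have hle : N ≤ (IsLocalRing.maximalIdeal (T i)).comap (Pi.evalRingHom T i) := by
    rw [hN']
    exact Ideal.comap_mono (IsLocalRing.le_maximalIdeal P.2.ne_top)
  exact hN.eq_of_le (Ideal.comap_ne_top _ (IsLocalRing.maximalIdeal.isMaximal _).ne_top) hle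

theorem pi_eq_of_le_of_le (q : Ideal (∀ i, T i)) [q.IsPrime] (N₁ N₂ : Ideal (∀ i, T i))
    [N₁.IsMaximal] [N₂.IsMaximal] (h₁ : q ≤ N₁) (h₂ : q ≤ N₂) : N₁ = N₂ := by
  classical
  obtain ⟨i₁, rfl⟩ := exists_eq_comap_maximalIdeal T N₁
  obtain ⟨i₂, rfl⟩ := exists_eq_comap_maximalIdeal T N₂
  obtain ⟨⟨i, P⟩, hP⟩ := (PrimeSpectrum.sigmaToPi_bijective T).surjective ⟨q, inferInstance⟩
  have hq : q = P.asIdeal.comap (Pi.evalRingHom T i) := by
    have := congrArg PrimeSpectrum.asIdeal hP
    simpa using this.symm
  have key : ∀ j : ι, q ≤ (IsLocalRing.maximalIdeal (T j)).comap (Pi.evalRingHom T j) → j = i := by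
    intro j hj
    by_contra hne
    have hmem : (Pi.single j 1 : ∀ i, T i) ∈ q := by
      rw [hq, Ideal.mem_comap]
      simp [Pi.single_eq_of_ne (Ne.symm hne)]
    have := hj hmem
    rw [Ideal.mem_comap] at this
    simp at this
  rw [key i₁ h₁, key i₂ h₂]

end Pi

section Hensel

variable (R : Type u) [CommRing R] [HenselianLocalRing R]
  (S : Type u) [CommRing S] [Algebra R S] [Module.Finite R S]

include R in
/-- a prime of a finite algebra over a henselian local ring lies in a unique maximal ideal -/
theorem eq_of_le_of_le (q : Ideal S) [q.IsPrime] (N₁ N₂ : Ideal S)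
    [N₁.IsMaximal] [N₂.IsMaximal] (h₁ : q ≤ N₁) (h₂ : q ≤ N₂) : N₁ = N₂ := by
  obtain ⟨ι, _, T, _, hT, ⟨e⟩⟩ := exists_pi_isLocalRing_of_finite R S
  haveI := hT
  haveI : (q.comap e.symm.toRingHom).IsPrime := Ideal.comap_isPrime _ _
  haveI : (N₁.comap e.symm.toRingHom).IsMaximal := Ideal.comap_isMaximal_of_surjective _
    e.symm.surjective
  haveI : (N₂.comap e.symm.toRingHom).IsMaximal := Ideal.comap_isMaximal_of_surjective _
    e.symm.surjective
  have := pi_eq_of_le_of_le T (q.comap e.symm.toRingHom) (N₁.comap e.symm.toRingHom)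
    (N₂.comap e.symm.toRingHom) (Ideal.comap_mono h₁) (Ideal.comap_mono h₂)
  have h3 := congrArg (Ideal.comap e.toRingHom) this
  simpa [Ideal.comap_comap] using h3

/-- the localization of a finite algebra over a henselian local ring at a maximal ideal is a local
ring finite over the base -/
theorem exists_local_factor (N : Ideal S) [hN : N.IsMaximal] :
    ∃ (T : Type u) (_ : CommRing T) (_ : IsLocalRing T) (_ : Algebra R T),
      Module.Finite R T ∧ Nonempty (Localization.AtPrime N ≃+* T) := by
  classical
  obtain ⟨ι, _, T, _, hT, ⟨e⟩⟩ := exists_pi_isLocalRing_of_finite R S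
  haveI := hT
  haveI : (N.comap e.symm.toRingHom).IsMaximal := Ideal.comap_isMaximal_of_surjective _
    e.symm.surjective
  obtain ⟨i, hi⟩ := exists_eq_comap_maximalIdeal T (N.comap e.symm.toRingHom)
  let φ : S →+* T i := (Pi.evalRingHom T i).comp e.toRingHom
  have hφ : ∀ s, φ s = e s i := fun s => rfl
  have hφsurj : Function.Surjective φ := by
    intro t
    refine ⟨e.symm (Pi.single i t), ?_⟩
    simp [hφ]
  have hNφ : ∀ s, s ∈ N ↔ φ s ∈ IsLocalRing.maximalIdeal (T i) := by
    intro s
    have h1 : e s ∈ N.comap e.symm.toRingHom ↔ s ∈ N := by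
      simp [Ideal.mem_comap]
    rw [← h1, hi, Ideal.mem_comap]
    rfl
  letI algRT : Algebra R (T i) := (φ.comp (algebraMap R S)).toAlgebra
  let l : S →ₗ[R] T i :=
    { toFun := φ
      map_add' := map_add φ
      map_smul' := fun r s => by
        simp only [Algebra.smul_def, map_mul, RingHom.id_apply]
        rfl }
  have hfin : Module.Finite R (T i) := Module.Finite.of_surjective l hφsurj
  letI algST : Algebra S (T i) := φ.toAlgebra
  have hloc : IsLocalization.AtPrime (T i) N := by
    refine ⟨?_, ?_, ?_⟩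
    · rintro ⟨s, hs⟩
      have : φ s ∉ IsLocalRing.maximalIdeal (T i) := fun h => hs ((hNφ s).2 h)
      show IsUnit (φ s)
      simpa [IsLocalRing.mem_maximalIdeal] using this
    · intro t
      obtain ⟨s, rfl⟩ := hφsurj t
      exact ⟨(s, 1), by simp [RingHom.algebraMap_toAlgebra]⟩
    · intro a b hab
      change φ a = φ b at hab
      have hc : e.symm (Pi.single i 1) ∉ N := by
        rw [hNφ, hφ]
        simp
      refine ⟨⟨e.symm (Pi.single i 1), hc⟩, ?_⟩
      apply e.injective
      simp only [map_mul, RingEquiv.apply_symm_apply]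
      funext j
      by_cases hj : j = i
      · subst hj
        simp only [Pi.mul_apply, Pi.single_eq_same, one_mul]
        exact hab
      · simp [Pi.single_eq_of_ne hj]
  exact ⟨T i, inferInstance, inferInstance, algRT, hfin,
    ⟨(IsLocalization.algEquiv N.primeCompl (Localization.AtPrime N) (T i)).toRingEquiv⟩⟩

end Hensel

theorem isStrictlyHenselian_of_finite (R : Type u) [CommRing R] [IsLocalRing R]
    (hR : EtCoh.IsStrictlyHenselianLocalRing R)
    (T : Type u) [CommRing T] [IsLocalRing T] [Algebra R T] [Module.Finite R T] :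
    EtCoh.IsStrictlyHenselianLocalRing T := by
  obtain ⟨hH, hsep⟩ := hR
  have hHT : HenselianLocalRing T := henselianLocalRing_of_finite R T
  refine ⟨hHT, ?_⟩
  let k := IsLocalRing.ResidueField T
  haveI : Module.Finite R k := Module.Finite.trans T k
  haveI : Algebra.IsIntegral R k := Algebra.IsIntegral.of_finite R k
  haveI : Module.Finite (IsLocalRing.ResidueField R) k := inferInstance
  haveI : Algebra.IsAlgebraic (IsLocalRing.ResidueField R) k := Algebra.IsAlgebraic.of_finite _ _
  exact Algebra.IsAlgebraic.isSepClosed (F := IsLocalRing.ResidueField R) (E := k)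

section AB

variable {A B : Type u} [CommRing A] [CommRing B] [Algebra A B] [Module.Finite A B]
  (m : Ideal A) [m.IsMaximal]

local notation "Sm" => Localization (Algebra.algebraMapSubmonoid B m.primeCompl)

omit [Module.Finite A B] in
theorem disjoint_of_comap_le (q : Ideal B) (hq : q.comap (algebraMap A B) ≤ m) :
    Disjoint (Algebra.algebraMapSubmonoid B m.primeCompl : Set B) (q : Set B) := by
  rw [Set.disjoint_left]
  rintro x ⟨a, ha, rfl⟩ hx
  exact ha (hq hx)

theorem isMaximal_map (n : Ideal B) [hn : n.IsMaximal] (hnm : n.comap (algebraMap A B) = m) :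
    (n.map (algebraMap B Sm)).IsMaximal ∧ (n.map (algebraMap B Sm)).comap (algebraMap B Sm) = n := by
  have hd := disjoint_of_comap_le m n hnm.le
  have hcomap : (n.map (algebraMap B Sm)).comap (algebraMap B Sm) = n :=
    IsLocalization.under_map_of_isPrime_disjoint _ Sm hn.isPrime hd
  have hprime : (n.map (algebraMap B Sm)).IsPrime :=
    IsLocalization.isPrime_of_isPrime_disjoint _ Sm n hn.isPrime hd
  refine ⟨?_, hcomap⟩
  obtain ⟨N', hN', hle⟩ := Ideal.exists_le_maximal _ hprime.ne_top
  have h1 : n ≤ N'.comap (algebraMap B Sm) := by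
    rw [← hcomap]; exact Ideal.comap_mono hle
  have h2 : n = N'.comap (algebraMap B Sm) :=
    hn.eq_of_le (Ideal.comap_ne_top _ hN'.ne_top) h1
  have h3 : N' = n.map (algebraMap B Sm) := by
    rw [h2]
    exact (IsLocalization.map_under (Algebra.algebraMapSubmonoid B m.primeCompl) Sm N').symm
  rw [← h3]; exact hN'

theorem eq_of_le_of_le_of_comap_eq [HenselianLocalRing (Localization.AtPrime m)]
    (q : Ideal B) [q.IsPrime] (n₁ n₂ : Ideal B) [n₁.IsMaximal] [n₂.IsMaximal]
    (h₁ : n₁.comap (algebraMap A B) = m) (h₂ : n₂.comap (algebraMap A B) = m)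
    (hq₁ : q ≤ n₁) (hq₂ : q ≤ n₂) : n₁ = n₂ := by
  obtain ⟨hN₁, hc₁⟩ := isMaximal_map m n₁ h₁
  obtain ⟨hN₂, hc₂⟩ := isMaximal_map m n₂ h₂
  have hd : Disjoint (Algebra.algebraMapSubmonoid B m.primeCompl : Set B) (q : Set B) :=
    disjoint_of_comap_le m q (h₁ ▸ Ideal.comap_mono hq₁)
  haveI : (q.map (algebraMap B Sm)).IsPrime :=
    IsLocalization.isPrime_of_isPrime_disjoint _ Sm q inferInstance hd
  have := eq_of_le_of_le (Localization.AtPrime m) Sm (q.map (algebraMap B Sm))
    (n₁.map (algebraMap B Sm)) (n₂.map (algebraMap B Sm)) (Ideal.map_mono hq₁) (Ideal.map_mono hq₂)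
  rw [← hc₁, ← hc₂, this]

theorem isStrictlyHenselian_localization_aux
    (hm : EtCoh.IsStrictlyHenselianLocalRing (Localization.AtPrime m))
    (N : Ideal Sm) [N.IsMaximal] (n : Ideal B) [n.IsPrime] (hn : N.comap (algebraMap B Sm) = n) :
    EtCoh.IsStrictlyHenselianLocalRing (Localization.AtPrime n) := by
  subst hn
  haveI : HenselianLocalRing (Localization.AtPrime m) := hm.1
  obtain ⟨T, _, _, _, hfin, ⟨e⟩⟩ := exists_local_factor (Localization.AtPrime m) Sm N
  have hT := isStrictlyHenselian_of_finite (Localization.AtPrime m) hm T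
  have h1 := isStrictlyHenselianLocalRing_of_ringEquiv e.symm hT
  exact isStrictlyHenselianLocalRing_of_ringEquiv
    (IsLocalization.localizationLocalizationAtPrimeIsoLocalization
      (Algebra.algebraMapSubmonoid B m.primeCompl) N).symm.toRingEquiv h1

theorem isStrictlyHenselian_localization
    (hm : EtCoh.IsStrictlyHenselianLocalRing (Localization.AtPrime m))
    (n : Ideal B) [n.IsMaximal] (hnm : n.comap (algebraMap A B) = m) :
    EtCoh.IsStrictlyHenselianLocalRing (Localization.AtPrime n) := by
  obtain ⟨hN, hc⟩ := isMaximal_map m n hnm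
  exact isStrictlyHenselian_localization_aux m hm (n.map (algebraMap B Sm)) n hc

end AB

end Groth.Agent.Lib.Helper4.FinHensel
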