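import Mathlib
import Groth.Prelude.Def_ProEtW
import Groth.Agent.Lib.Helper4.LocSec

/-!
# Helper library (helper4): locally-fraction sections of a family of local rings

For a compact index space `Λ` with a clopen basis and a map `p : Λ → Spec A` which is continuous
for the constructible topology, the ring `LS (primeFamily p)` is ind-Zariski over `A`, its spectrum
is w-local with closed points in bijection with `Λ` (the closed point over `l` lying over `p l`), and
its space of connected components is homeomorphic to `Λ`.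
-/

set_option autoImplicit false
set_option linter.unusedSectionVars false

universe u

namespace Groth.Agent.Lib.Helper4.LocSec

variable {A : Type u} [CommRing A] {Λ : Type u} [TopologicalSpace Λ] (p : Λ → PrimeSpectrum A)

/-- the family of complements of the primes `p l` -/
abbrev primeFamily : Λ → Submonoid A := fun l => (p l).asIdeal.primeCompl

/-- `p` is continuous for the constructible topology -/
def IsConsContinuous : Prop := ∀ g : A, IsClopen {l | g ∈ (p l).asIdeal}

variable {p}

theorem isOpenFamily_primeFamily (hp : IsConsContinuous p) : IsOpenFamily (primeFamily p) :=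
  fun d => (hp d).compl.isOpen

theorem ev_frac_one {S : Λ → Submonoid A} {W : Set Λ} (hW : IsClopen W) (a : A) {m : Λ}
    (hm : m ∈ W) :
    ev S m (frac W hW a 1 (fun m _ => (S m).one_mem)) = algebraMap A _ a := by
  rw [ev_frac_of_mem hW _ _ _ hm, Localization.mk_eq_mk']
  have := IsLocalization.mk'_spec'_mk (Localization (S m)) a 1 (S m).one_mem
  rwa [map_one, one_mul] at this

variable [CompactSpace Λ] (hp : IsConsContinuous p) (hΛ : ClopenBasis Λ)

variable (p) in
/-- the closed point over `l` -/
noncomputable def cl (l : Λ) : PrimeSpectrum (LS (primeFamily p)) :=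
  PrimeSpectrum.comap (ev (primeFamily p) l).toRingHom
    (IsLocalRing.closedPoint (Localization (primeFamily p l)))

theorem mem_cl_iff (l : Λ) (s : LS (primeFamily p)) :
    s ∈ (cl p l).asIdeal ↔
      ev (primeFamily p) l s ∈ IsLocalRing.maximalIdeal (Localization (primeFamily p l)) :=
  Iff.rfl

include hp hΛ

theorem cl_isMaximal (l : Λ) : (cl p l).asIdeal.IsMaximal := by
  haveI : (IsLocalRing.maximalIdeal (Localization (primeFamily p l))).IsMaximal :=
    IsLocalRing.maximalIdeal.isMaximal _
  exact Ideal.comap_isMaximal_of_surjective (ev (primeFamily p) l)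
    (ev_surjective (isOpenFamily_primeFamily hp) hΛ l)
      (K := IsLocalRing.maximalIdeal (Localization (primeFamily p l)))

omit hp hΛ in
theorem comap_algebraMap_cl (l : Λ) :
    PrimeSpectrum.comap (algebraMap A (LS (primeFamily p))) (cl p l) = p l := by
  refine PrimeSpectrum.ext (Ideal.ext fun a => ?_)
  change ev (primeFamily p) l (algebraMap A _ a) ∈
    IsLocalRing.maximalIdeal (Localization (primeFamily p l)) ↔ a ∈ (p l).asIdeal
  rw [AlgHom.commutes]
  exact IsLocalization.AtPrime.to_map_mem_maximal_iff (Localization.AtPrime (p l).asIdeal)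
    (p l).asIdeal a

theorem pt_cl (l : Λ) : pt (isOpenFamily_primeFamily hp) hΛ (cl p l) = l :=
  pt_comap (isOpenFamily_primeFamily hp) hΛ l _

theorem cl_injective : Function.Injective (cl p) := fun l l' h => by
  rw [← pt_cl hp hΛ l, h, pt_cl hp hΛ l']

theorem le_cl (Q : PrimeSpectrum (LS (primeFamily p))) :
    Q ≤ cl p (pt (isOpenFamily_primeFamily hp) hΛ Q) := by
  obtain ⟨q, hq⟩ := exists_comap_eq (isOpenFamily_primeFamily hp) hΛ Q
  have : q.asIdeal ≤ IsLocalRing.maximalIdeal _ := IsLocalRing.le_maximalIdeal q.2.ne_top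
  intro s hs
  rw [← hq] at hs
  exact this hs

theorem eq_cl_of_isMaximal (Q : PrimeSpectrum (LS (primeFamily p))) (hQ : Q.asIdeal.IsMaximal) :
    Q = cl p (pt (isOpenFamily_primeFamily hp) hΛ Q) :=
  PrimeSpectrum.ext (hQ.eq_of_le (cl p _).2.ne_top (le_cl hp hΛ Q))

theorem isClosed_singleton_iff (Q : PrimeSpectrum (LS (primeFamily p))) :
    IsClosed ({Q} : Set _) ↔ ∃ l, Q = cl p l := by
  rw [PrimeSpectrum.isClosed_singleton_iff_isMaximal]
  constructor
  · exact fun h => ⟨_, eq_cl_of_isMaximal hp hΛ Q h⟩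
  · rintro ⟨l, rfl⟩
    exact cl_isMaximal hp hΛ l

theorem closedPoints_eq_range :
    ProEtW.closedPoints (PrimeSpectrum (LS (primeFamily p))) = Set.range (cl p) := by
  ext Q
  change IsClosed ({Q} : Set _) ↔ _
  rw [isClosed_singleton_iff hp hΛ]
  exact ⟨fun ⟨l, h⟩ => ⟨l, h.symm⟩, fun ⟨l, h⟩ => ⟨l, h.symm⟩⟩

theorem closedPoints_eq_zeroLocus :
    {Q : PrimeSpectrum (LS (primeFamily p)) | IsClosed ({Q} : Set _)} =
      PrimeSpectrum.zeroLocus ((⨅ l, (cl p l).asIdeal : Ideal (LS (primeFamily p))) : Set _) := by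
  ext Q
  simp only [Set.mem_ofPred_eq, PrimeSpectrum.mem_zeroLocus, SetLike.coe_subset_coe]
  constructor
  · intro h
    obtain ⟨l, rfl⟩ := (isClosed_singleton_iff hp hΛ Q).1 h
    exact iInf_le _ l
  · intro hJ
    rw [isClosed_singleton_iff hp hΛ]
    set l := pt (isOpenFamily_primeFamily hp) hΛ Q with hl
    refine ⟨l, ?_⟩
    obtain ⟨q, hq⟩ := exists_comap_eq (isOpenFamily_primeFamily hp) hΛ Q
    suffices hqm : q = IsLocalRing.closedPoint _ by rw [← hq, hqm]; rfl
    by_contra hne
    have hne' : q.asIdeal ≠ IsLocalRing.maximalIdeal _ := fun h => hne (PrimeSpectrum.ext h)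
    have hlt : q.asIdeal < IsLocalRing.maximalIdeal _ :=
      lt_of_le_of_ne (IsLocalRing.le_maximalIdeal q.2.ne_top) hne'
    obtain ⟨y, hym, hyq⟩ := SetLike.exists_of_lt hlt
    obtain ⟨⟨a, s⟩, hy⟩ := IsLocalization.surj (primeFamily p l) y
    have ham : algebraMap A (Localization (primeFamily p l)) a ∈ IsLocalRing.maximalIdeal _ := by
      rw [← hy]; exact Ideal.mul_mem_right _ _ hym
    have hap : a ∈ (p l).asIdeal :=
      (IsLocalization.AtPrime.to_map_mem_maximal_iff (Localization.AtPrime (p l).asIdeal)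
        (p l).asIdeal a).1 ham
    have haq : algebraMap A (Localization (primeFamily p l)) a ∉ q.asIdeal := by
      intro h
      rw [← hy] at h
      rcases q.2.mem_or_mem h with h | h
      · exact hyq h
      · exact q.2.ne_top (Ideal.eq_top_of_isUnit_mem _ h
          (IsLocalization.map_units (Localization (primeFamily p l)) s))
    let t : LS (primeFamily p) := frac {m | a ∈ (p m).asIdeal} (hp a) a 1
      (fun m _ => (primeFamily p m).one_mem)
    have htJ : t ∈ (⨅ l, (cl p l).asIdeal : Ideal (LS (primeFamily p))) := by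
      rw [Ideal.mem_iInf]
      intro m
      rw [mem_cl_iff]
      by_cases hm : m ∈ {m | a ∈ (p m).asIdeal}
      · rw [ev_frac_one (hp a) a hm]
        exact (IsLocalization.AtPrime.to_map_mem_maximal_iff (Localization.AtPrime (p m).asIdeal)
          (p m).asIdeal a).2 hm
      · rw [ev_frac_of_notMem (hp a) _ _ _ hm]
        exact Ideal.zero_mem _
    have htQ : t ∈ Q.asIdeal := hJ htJ
    rw [← hq] at htQ
    have : ev (primeFamily p) l t ∈ q.asIdeal := htQ
    rw [ev_frac_one (hp a) a (show l ∈ {m | a ∈ (p m).asIdeal} from hap)] at this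
    exact haq this

theorem isWLocal : ProEtW.IsWLocal (PrimeSpectrum (LS (primeFamily p))) := by
  refine ⟨inferInstance, ?_, fun Q => ?_⟩
  · rw [closedPoints_eq_zeroLocus hp hΛ]
    exact PrimeSpectrum.isClosed_zeroLocus _
  · refine ⟨cl p (pt (isOpenFamily_primeFamily hp) hΛ Q), ⟨?_, ?_⟩, ?_⟩
    · exact (isClosed_singleton_iff hp hΛ _).2 ⟨_, rfl⟩
    · exact (PrimeSpectrum.le_iff_specializes _ _).1 (le_cl hp hΛ Q)
    · rintro Y ⟨hY, hQY⟩
      obtain ⟨l', rfl⟩ := (isClosed_singleton_iff hp hΛ Y).1 hY
      have hle : Q ≤ cl p l' := (PrimeSpectrum.le_iff_specializes _ _).2 hQY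
      have h1 : RingHom.ker (ev (primeFamily p) l') ≤ Q.asIdeal ⊔ (cl p l').asIdeal :=
        le_sup_of_le_right (Ideal.comap_mono bot_le)
      have h2 : pt (isOpenFamily_primeFamily hp) hΛ Q = l' := by
        refine eq_of_ker_ev_le hΛ (cl p l').2.ne_top ?_ (Ideal.comap_mono bot_le)
        exact (ker_ev_pt_le (isOpenFamily_primeFamily hp) hΛ Q).trans hle
      rw [h2]

theorem faithfullyFlat_of_surjective (hsurj : Function.Surjective p) :
    Module.FaithfullyFlat A (LS (primeFamily p)) := by
  have : Module.Flat A (LS (primeFamily p)) := flat (isOpenFamily_primeFamily hp) hΛ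
  refine Module.FaithfullyFlat.of_comap_surjective fun q => ?_
  obtain ⟨l, rfl⟩ := hsurj q
  exact ⟨cl p l, comap_algebraMap_cl l⟩

omit hp [CompactSpace Λ] in
theorem t2Space_of_clopenBasis : T2Space Λ :=
  ⟨fun x y hxy => by
    obtain ⟨W, hW, hx, hy⟩ := hΛ.sep x y hxy
    exact ⟨W, Wᶜ, hW.isOpen, hW.compl.isOpen, hx, hy, disjoint_compl_right⟩⟩

omit hp [CompactSpace Λ] in
theorem totallySeparatedSpace_of_clopenBasis : TotallySeparatedSpace Λ :=
  ⟨fun x _ y _ hxy => by
    obtain ⟨W, hW, hx, hy⟩ := hΛ.sep x y hxy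
    exact ⟨W, Wᶜ, hW.isOpen, hW.compl.isOpen, hx, hy, by simp, disjoint_compl_right⟩⟩

theorem mk_eq_mk_cl (Q : PrimeSpectrum (LS (primeFamily p))) :
    (ConnectedComponents.mk Q : ConnectedComponents (PrimeSpectrum (LS (primeFamily p)))) =
      ConnectedComponents.mk (cl p (pt (isOpenFamily_primeFamily hp) hΛ Q)) := by
  symm
  apply ConnectedComponents.coe_eq_coe'.mpr
  have hpre : IsPreconnected (closure ({Q} : Set (PrimeSpectrum (LS (primeFamily p))))) :=
    isPreconnected_singleton.closure
  have hspec := (PrimeSpectrum.le_iff_specializes _ _).1 (le_cl hp hΛ Q)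
  exact hpre.subset_connectedComponent (subset_closure rfl) (specializes_iff_mem_closure.mp hspec)

/-- the space of connected components of `Spec (LS (primeFamily p))` is `Λ` -/
noncomputable def pi0Homeo :
    ConnectedComponents (PrimeSpectrum (LS (primeFamily p))) ≃ₜ Λ := by
  haveI := t2Space_of_clopenBasis hΛ
  haveI := totallySeparatedSpace_of_clopenBasis hΛ
  have hcont := continuous_pt (isOpenFamily_primeFamily hp) hΛ
  refine Continuous.homeoOfEquivCompactToT2
    (f := Equiv.ofBijective hcont.connectedComponentsLift ⟨?_, ?_⟩)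
    hcont.connectedComponentsLift_continuous
  · intro c c' h
    obtain ⟨Q, rfl⟩ := ConnectedComponents.surjective_coe c
    obtain ⟨Q', rfl⟩ := ConnectedComponents.surjective_coe c'
    rw [hcont.connectedComponentsLift_apply_coe, hcont.connectedComponentsLift_apply_coe] at h
    rw [mk_eq_mk_cl hp hΛ Q, mk_eq_mk_cl hp hΛ Q', h]
  · intro l
    refine ⟨ConnectedComponents.mk (cl p l), ?_⟩
    rw [hcont.connectedComponentsLift_apply_coe]
    exact pt_cl hp hΛ l

end Groth.Agent.Lib.Helper4.LocSec
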