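import Mathlib
import Groth.Prelude.Def_ProEtW
import Groth.Agent.Lib.Helper4.LocSecLocal

/-!
# Helper library (helper4): localization along a profinite closed subset

For an ideal `I` of `A` with `V(I)` profinite, `BI I = LS (primeFamily (V(I) → Spec A))` is an
ind-Zariski `A`-algebra with w-local spectrum whose closed points are exactly `V(I · BI)`, and
`A/I → BI/I·BI` is bijective.
-/

set_option autoImplicit false
set_option linter.unusedSectionVars false

universe u

namespace Groth.Agent.Lib.Helper4.LocSec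

variable {A : Type u} [CommRing A] (I : Ideal A)

/-- the closed subset `V(I)` as a type -/
abbrev VI : Type u := ↥(PrimeSpectrum.zeroLocus (R := A) I)

/-- the inclusion of `V(I)` -/
abbrev pI : VI I → PrimeSpectrum A := Subtype.val

/-- the localization of `A` along `V(I)` -/
abbrev BI : Type u := LS (primeFamily (pI I))

theorem clopenBasis_of_profinite (Λ : Type u) [TopologicalSpace Λ] [CompactSpace Λ] [T2Space Λ]
    [TotallyDisconnectedSpace Λ] : ClopenBasis Λ where
  basis _ _ hU hl := compact_exists_isClopen_in_isOpen hU hl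
  sep _ _ hne := exists_isClopen_of_totally_separated hne

variable {I} (hI : ProEtW.IsProfinite (PrimeSpectrum.zeroLocus (R := A) I))

include hI

theorem clopenBasis_VI : ClopenBasis (VI I) := by
  obtain ⟨h1, h2, h3⟩ := hI
  exact clopenBasis_of_profinite _

theorem isConsContinuous_pI : IsConsContinuous (pI I) := by
  obtain ⟨hc, ht2, htd⟩ := hI
  intro g
  have heq : {l : VI I | g ∈ (pI I l).asIdeal} = Subtype.val ⁻¹' (PrimeSpectrum.zeroLocus {g}) := by
    ext l
    simp
  constructor
  · rw [heq]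
    exact (PrimeSpectrum.isClosed_zeroLocus {g}).preimage continuous_subtype_val
  · rw [← isClosed_compl_iff]
    have h1 : IsCompact ((PrimeSpectrum.basicOpen g : Set (PrimeSpectrum A)) ∩
        PrimeSpectrum.zeroLocus (R := A) I) :=
      (PrimeSpectrum.isCompact_basicOpen g).inter_right (PrimeSpectrum.isClosed_zeroLocus _)
    have hind : Topology.IsInducing (Subtype.val : VI I → PrimeSpectrum A) :=
      Topology.IsInducing.subtypeVal
    have hsub : (PrimeSpectrum.basicOpen g : Set (PrimeSpectrum A)) ∩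
        PrimeSpectrum.zeroLocus (R := A) I ⊆ Set.range (Subtype.val : VI I → PrimeSpectrum A) := by
      rw [Subtype.range_val]
      exact Set.inter_subset_right
    have h2 := (hind.isCompact_preimage_iff hsub).2 h1
    have h3 : {l : VI I | g ∈ (pI I l).asIdeal}ᶜ =
        Subtype.val ⁻¹' ((PrimeSpectrum.basicOpen g : Set (PrimeSpectrum A)) ∩
          PrimeSpectrum.zeroLocus (R := A) I) := by
      ext l
      simp only [Set.mem_compl_iff, Set.mem_ofPred_eq, Set.mem_preimage, Set.mem_inter_iff,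
        SetLike.mem_coe, PrimeSpectrum.mem_basicOpen]
      exact ⟨fun h => ⟨h, l.2⟩, fun h => h.1⟩
    rw [h3]
    exact h2.isClosed

theorem BI_isIndZariski : EtPBC.IsIndZariski A (BI I) :=
  haveI : CompactSpace (VI I) := hI.1
  isIndZariski (isOpenFamily_primeFamily (isConsContinuous_pI hI)) (clopenBasis_VI hI)

theorem BI_isWLocal : ProEtW.IsWLocal (PrimeSpectrum (BI I)) :=
  haveI : CompactSpace (VI I) := hI.1
  isWLocal (isConsContinuous_pI hI) (clopenBasis_VI hI)

theorem BI_closedPoints : ProEtW.closedPoints (PrimeSpectrum (BI I)) =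
    PrimeSpectrum.zeroLocus (I.map (algebraMap A (BI I))) := by
  haveI : CompactSpace (VI I) := hI.1
  haveI : T2Space (VI I) := hI.2.1
  have hp := isConsContinuous_pI hI
  have hΛ := clopenBasis_VI hI
  rw [closedPoints_eq_range hp hΛ]
  ext Q
  constructor
  · rintro ⟨l, rfl⟩
    rw [PrimeSpectrum.mem_zeroLocus, SetLike.coe_subset_coe, Ideal.map_le_iff_le_comap]
    have h1 := comap_algebraMap_cl (p := pI I) l
    have h2 : Ideal.comap (algebraMap A (BI I)) (cl (pI I) l).asIdeal = (pI I l).asIdeal :=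
      congrArg PrimeSpectrum.asIdeal h1
    rw [h2]
    exact l.2
  · intro hQ
    rw [PrimeSpectrum.mem_zeroLocus, SetLike.coe_subset_coe, Ideal.map_le_iff_le_comap] at hQ
    set l := pt (isOpenFamily_primeFamily hp) hΛ Q with hl
    refine ⟨l, ?_⟩
    let q₀ : PrimeSpectrum A := PrimeSpectrum.comap (algebraMap A (BI I)) Q
    have hq₀ : q₀ ∈ PrimeSpectrum.zeroLocus (R := A) I := hQ
    have hle : q₀ ≤ pI I l := by
      rw [← comap_algebraMap_cl (p := pI I) l]
      exact Ideal.comap_mono (le_cl hp hΛ Q)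
    have hspec : (⟨q₀, hq₀⟩ : VI I) ⤳ l :=
      (Topology.IsInducing.subtypeVal.specializes_iff).1
        ((PrimeSpectrum.le_iff_specializes _ _).1 hle)
    have heq : (⟨q₀, hq₀⟩ : VI I) = l := hspec.eq
    obtain ⟨q, hq⟩ := exists_comap_eq (isOpenFamily_primeFamily hp) hΛ Q
    have hmem : ∀ s : BI I, s ∈ Q.asIdeal ↔ ev (primeFamily (pI I)) l s ∈ q.asIdeal := fun s =>
      (iff_of_eq (congrArg (fun Z : PrimeSpectrum (BI I) => s ∈ Z.asIdeal) hq)).symm
    have hq1 : PrimeSpectrum.comap (algebraMap A (Localization (primeFamily (pI I) l))) q =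
        PrimeSpectrum.comap (algebraMap A (Localization (primeFamily (pI I) l)))
          (IsLocalRing.closedPoint _) := by
      have h1 : PrimeSpectrum.comap (algebraMap A (Localization (primeFamily (pI I) l))) q =
          q₀ := by
        refine PrimeSpectrum.ext (Ideal.ext fun a => ?_)
        change algebraMap A _ a ∈ q.asIdeal ↔ algebraMap A (BI I) a ∈ Q.asIdeal
        rw [hmem, AlgHom.commutes]
      have h2 : PrimeSpectrum.comap (algebraMap A (Localization (primeFamily (pI I) l)))
          (IsLocalRing.closedPoint _) = pI I l := by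
        refine PrimeSpectrum.ext ?_
        exact IsLocalization.AtPrime.under_maximalIdeal
          (Localization.AtPrime (pI I l).asIdeal) (pI I l).asIdeal
      rw [h1, h2]
      exact congrArg Subtype.val heq
    have hq2 : q = IsLocalRing.closedPoint _ :=
      PrimeSpectrum.localization_comap_injective (Localization (primeFamily (pI I) l))
        (primeFamily (pI I) l) hq1
    refine PrimeSpectrum.ext (Ideal.ext fun s => ?_)
    rw [hmem, hq2]
    rfl

omit hI in
/-- local-global principle via colon ideals -/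
theorem mem_of_forall_maximal {R : Type*} [CommRing R] (J : Ideal R) (t : R)
    (h : ∀ M : Ideal R, M.IsMaximal → ∃ x, x * t ∈ J ∧ x ∉ M) : t ∈ J := by
  by_contra hcon
  let 𝔠 : Ideal R :=
    { carrier := {x | x * t ∈ J}
      add_mem' := by
        intro a b ha hb
        simp only [Set.mem_ofPred_eq] at ha hb ⊢
        rw [add_mul]
        exact Ideal.add_mem _ ha hb
      zero_mem' := by simp
      smul_mem' := by
        intro c x hx
        simp only [Set.mem_ofPred_eq, smul_eq_mul] at hx ⊢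
        rw [mul_assoc]
        exact Ideal.mul_mem_left _ _ hx }
  have hmem : ∀ x, x ∈ 𝔠 ↔ x * t ∈ J := fun x => Iff.rfl
  have hne : 𝔠 ≠ ⊤ := fun h => hcon (by
    have : (1 : R) ∈ 𝔠 := h ▸ Submodule.mem_top
    rw [hmem, one_mul] at this
    exact this)
  obtain ⟨M, hM, hle⟩ := Ideal.exists_le_maximal 𝔠 hne
  obtain ⟨x, hx, hxM⟩ := h M hM
  exact hxM (hle ((hmem x).2 hx))

/-- a section all of whose values lie in `I A_p` lies in `I · BI` -/
theorem mem_map_of_forall_ev {t : BI I}
    (h : ∀ l, ev (primeFamily (pI I)) l t ∈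
      I.map (algebraMap A (Localization (primeFamily (pI I) l)))) :
    t ∈ I.map (algebraMap A (BI I)) := by
  haveI : CompactSpace (VI I) := hI.1
  have hp := isConsContinuous_pI hI
  have hΛ := clopenBasis_VI hI
  have hS := isOpenFamily_primeFamily hp
  refine mem_of_forall_maximal _ t fun M hM => ?_
  have hMcl := eq_cl_of_isMaximal hp hΛ ⟨M, hM.isPrime⟩ hM
  set l := pt hS hΛ ⟨M, hM.isPrime⟩ with hl
  obtain ⟨⟨i, s⟩, his⟩ := (IsLocalization.mem_map_algebraMap_iff (primeFamily (pI I) l) _).1 (h l)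
  have h0 : ev (primeFamily (pI I)) l (t * algebraMap A _ s.1 - algebraMap A _ i.1) = 0 := by
    rw [map_sub, map_mul, AlgHom.commutes, AlgHom.commutes, his, sub_self]
  obtain ⟨W₁, hW₁, hlW₁, hW₁0⟩ := exists_isClopen_ev_eq_zero hS hΛ h0
  obtain ⟨W, hW, hlW, hWsub⟩ := hΛ.basis l (W₁ ∩ {m | s.1 ∈ primeFamily (pI I) m})
    (hW₁.isOpen.inter (hS s.1)) ⟨hlW₁, s.2⟩
  have hx : idem _ W hW * t ∈ I.map (algebraMap A (BI I)) := by
    have : idem _ W hW * t =
        frac W hW 1 s.1 (fun m hm => (hWsub hm).2) * algebraMap A _ i.1 := by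
      refine ext_ev fun m => ?_
      rw [map_mul, map_mul, AlgHom.commutes]
      by_cases hm : m ∈ W
      · rw [ev_idem_of_mem hW hm, one_mul, ev_frac_of_mem hW _ _ _ hm]
        have h1 := hW₁0 m (hWsub hm).1
        rw [map_sub, map_mul, AlgHom.commutes, AlgHom.commutes, sub_eq_zero] at h1
        rw [← h1, Localization.mk_eq_mk', mul_comm (ev _ m t), ← mul_assoc]
        have h2 := IsLocalization.mk'_spec (Localization (primeFamily (pI I) m)) (1 : A)
          (⟨s.1, (hWsub hm).2⟩ : primeFamily (pI I) m)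
        rw [h2, map_one, one_mul]
      · rw [ev_idem_of_notMem hW hm, zero_mul, ev_frac_of_notMem hW _ _ _ hm, zero_mul]
    rw [this]
    exact Ideal.mul_mem_left _ _ (Ideal.mem_map_of_mem _ i.2)
  refine ⟨idem _ W hW, hx, fun h3 => ?_⟩
  have h4 : M = (cl (pI I) l).asIdeal := congrArg PrimeSpectrum.asIdeal hMcl
  rw [h4, mem_cl_iff, ev_idem_of_mem hW hlW] at h3
  exact (IsLocalRing.maximalIdeal.isMaximal _).ne_top ((Ideal.eq_top_iff_one _).2 h3)

theorem BI_quotientMap_injective :
    Function.Injective (Ideal.quotientMap (I.map (algebraMap A (BI I))) (algebraMap A (BI I))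
      Ideal.le_comap_map) := by
  refine Ideal.quotientMap_injective' ?_
  intro a ha
  rw [Ideal.mem_comap] at ha
  refine mem_of_forall_maximal _ a fun m hm => ?_
  by_cases hIm : I ≤ m
  swap
  · obtain ⟨x, hx, hxm⟩ := SetLike.not_le_iff_exists.1 hIm
    exact ⟨x, Ideal.mul_mem_right _ _ hx, hxm⟩
  let l : VI I := ⟨⟨m, hm.isPrime⟩, hIm⟩
  have h1 : algebraMap A (Localization (primeFamily (pI I) l)) a ∈
      I.map (algebraMap A (Localization (primeFamily (pI I) l))) := by
    have h2 : ev (primeFamily (pI I)) l (algebraMap A (BI I) a) ∈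
        (I.map (algebraMap A (BI I))).map (ev (primeFamily (pI I)) l) := Ideal.mem_map_of_mem _ ha
    rw [AlgHom.commutes] at h2
    have h3 : (I.map (algebraMap A (BI I))).map (ev (primeFamily (pI I)) l) ≤
        I.map (algebraMap A (Localization (primeFamily (pI I) l))) := by
      rw [Ideal.map_le_iff_le_comap, Ideal.map_le_iff_le_comap]
      intro x hx
      rw [Ideal.mem_comap, Ideal.mem_comap, AlgHom.commutes]
      exact Ideal.mem_map_of_mem _ hx
    exact h3 h2
  obtain ⟨⟨i, s⟩, his⟩ := (IsLocalization.mem_map_algebraMap_iff (primeFamily (pI I) l) _).1 h1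
  rw [← map_mul, IsLocalization.eq_iff_exists (primeFamily (pI I) l)] at his
  obtain ⟨c, hc⟩ := his
  refine ⟨c.1 * s.1, ?_, fun hmem => ?_⟩
  · have : c.1 * s.1 * a = c.1 * i.1 := by rw [← hc]; ring
    rw [this]
    exact Ideal.mul_mem_left _ _ i.2
  · rcases hm.isPrime.mem_or_mem hmem with h | h
    · exact c.2 h
    · exact s.2 h

omit hI in
/-- local-global principle for membership in a submodule -/
theorem mem_of_forall_maximal' {R M : Type*} [CommRing R] [AddCommGroup M] [Module R M]
    (N : Submodule R M) (t : M) (h : ∀ m : Ideal R, m.IsMaximal → ∃ x : R, x • t ∈ N ∧ x ∉ m) :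
    t ∈ N := by
  by_contra hcon
  let 𝔠 : Ideal R :=
    { carrier := {x | x • t ∈ N}
      add_mem' := by
        intro a b ha hb
        simp only [Set.mem_ofPred_eq] at ha hb ⊢
        rw [add_smul]
        exact N.add_mem ha hb
      zero_mem' := by simp
      smul_mem' := by
        intro c x hx
        simp only [Set.mem_ofPred_eq, smul_eq_mul] at hx ⊢
        rw [mul_smul]
        exact N.smul_mem _ hx }
  have hmem : ∀ x, x ∈ 𝔠 ↔ x • t ∈ N := fun x => Iff.rfl
  have hne : 𝔠 ≠ ⊤ := fun h => hcon (by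
    have : (1 : R) ∈ 𝔠 := h ▸ Submodule.mem_top
    rw [hmem, one_smul] at this
    exact this)
  obtain ⟨m, hm, hle⟩ := Ideal.exists_le_maximal 𝔠 hne
  obtain ⟨x, hx, hxm⟩ := h m hm
  exact hxm (hle ((hmem x).2 hx))

omit hI in
/-- clopen subsets of `V(I)` are cut out by idempotents modulo `I` -/
theorem exists_idem_lift (W : Set (VI I)) (hW : IsClopen W) :
    ∃ e : A, e * (1 - e) ∈ I ∧ ∀ l : VI I, (l ∈ W ↔ e ∉ l.1.asIdeal) := by
  have hzl : ∀ x : PrimeSpectrum (A ⧸ I), PrimeSpectrum.comap (Ideal.Quotient.mk I) x ∈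
      PrimeSpectrum.zeroLocus (R := A) I := by
    intro x i hi
    change Ideal.Quotient.mk I i ∈ x.asIdeal
    rw [Ideal.Quotient.eq_zero_iff_mem.2 hi]
    exact x.asIdeal.zero_mem
  let φ : PrimeSpectrum (A ⧸ I) → VI I := fun x =>
    ⟨PrimeSpectrum.comap (Ideal.Quotient.mk I) x, hzl x⟩
  have hφ : Continuous φ := (PrimeSpectrum.continuous_comap _).subtype_mk _
  obtain ⟨ē, hē, hs⟩ := PrimeSpectrum.isClopen_iff.1 (hW.preimage hφ)
  obtain ⟨e, rfl⟩ := Ideal.Quotient.mk_surjective ē
  refine ⟨e, ?_, fun l => ?_⟩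
  · rw [← Ideal.Quotient.eq_zero_iff_mem, map_mul, map_sub, map_one, mul_sub, mul_one,
      hē.eq, sub_self]
  · have hl : l.1 ∈ Set.range (PrimeSpectrum.comap (Ideal.Quotient.mk I)) := by
      rw [range_comap_of_surjective _ _ Ideal.Quotient.mk_surjective, Ideal.mk_ker]
      exact l.2
    obtain ⟨x, hx⟩ := hl
    have hφx : φ x = l := Subtype.ext hx
    rw [← hφx]
    change x ∈ φ ⁻¹' W ↔ _
    rw [hs]
    rfl

theorem BI_exists_sub_mem (b : BI I) :
    ∃ a : A, b - algebraMap A (BI I) a ∈ I.map (algebraMap A (BI I)) := by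
  haveI : CompactSpace (VI I) := hI.1
  have hp := isConsContinuous_pI hI
  have hΛ := clopenBasis_VI hI
  have hS := isOpenFamily_primeFamily hp
  let N : Submodule A (BI I) := LinearMap.range (Algebra.linearMap A (BI I)) ⊔
    (I.map (algebraMap A (BI I))).restrictScalars A
  suffices hb : b ∈ N by
    obtain ⟨y, ⟨a, rfl⟩, k, hk, rfl⟩ := Submodule.mem_sup.1 hb
    refine ⟨a, ?_⟩
    rw [Algebra.linearMap_apply, add_sub_cancel_left]
    exact hk
  refine mem_of_forall_maximal' N b fun m hm => ?_
  by_cases hIm : I ≤ m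
  swap
  · obtain ⟨x, hx, hxm⟩ := SetLike.not_le_iff_exists.1 hIm
    refine ⟨x, Submodule.mem_sup_right ?_, hxm⟩
    rw [Algebra.smul_def]
    exact Ideal.mul_mem_right _ _ (Ideal.mem_map_of_mem _ hx)
  let l : VI I := ⟨⟨m, hm.isPrime⟩, hIm⟩
  obtain ⟨W₀, hW₀, hl₀, a₀, d₀, h₀⟩ := b.2 l
  obtain ⟨W, hW, hlW, hWsub⟩ := hΛ.basis l W₀ hW₀ hl₀
  obtain ⟨e, he, heW⟩ := exists_idem_lift W hW
  refine ⟨e * d₀, ?_, fun hmem => ?_⟩
  · have hdecomp : (e * d₀) • b = algebraMap A (BI I) (e * a₀) +
        (algebraMap A (BI I) (e * d₀) * b - algebraMap A (BI I) (e * a₀)) := by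
      rw [Algebra.smul_def]; ring
    rw [hdecomp]
    refine N.add_mem (Submodule.mem_sup_left ⟨e * a₀, rfl⟩) (Submodule.mem_sup_right ?_)
    refine mem_map_of_forall_ev hI fun m' => ?_
    rw [map_sub, map_mul, AlgHom.commutes, AlgHom.commutes, map_mul, map_mul, mul_assoc, ← mul_sub]
    by_cases hm' : m' ∈ W
    · have := (h₀ m' (hWsub hm')).2
      change _ * ev (primeFamily (pI I)) m' b = _ at this
      rw [this, sub_self, mul_zero]
      exact Ideal.zero_mem _
    · refine Ideal.mul_mem_right _ _ ?_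
      have hem' : e ∈ m'.1.asIdeal := by
        by_contra h
        exact hm' ((heW m').2 h)
      have h1e : (1 - e) ∉ m'.1.asIdeal := fun h => by
        have := m'.1.asIdeal.add_mem h hem'
        rw [sub_add_cancel] at this
        exact m'.1.2.ne_top ((Ideal.eq_top_iff_one _).2 this)
      exact (IsLocalization.mem_map_algebraMap_iff (primeFamily (pI I) m') _).2
        ⟨(⟨e * (1 - e), he⟩, ⟨1 - e, h1e⟩), by rw [← map_mul]⟩
  · rcases hm.isPrime.mem_or_mem hmem with h | h
    · exact (heW l).1 hlW h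
    · exact (h₀ l hl₀).1 h

theorem BI_quotientMap_bijective :
    Function.Bijective (Ideal.quotientMap (I.map (algebraMap A (BI I))) (algebraMap A (BI I))
      Ideal.le_comap_map) := by
  refine ⟨BI_quotientMap_injective hI, fun y => ?_⟩
  obtain ⟨b, rfl⟩ := Ideal.Quotient.mk_surjective y
  obtain ⟨a, ha⟩ := BI_exists_sub_mem hI b
  refine ⟨Ideal.Quotient.mk I a, ?_⟩
  rw [Ideal.quotientMap_mk]
  exact (Ideal.Quotient.eq.2 ha).symm

end Groth.Agent.Lib.Helper4.LocSec
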