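import Mathlib
import Groth.Prelude.Def_ProEtW

/-!
# w-local spaces: closed points and connected components (helper4)

* `nonempty_iInter_of_constructible`: finite intersection property for families of closed /
  quasi-compact open subsets of a spectral space (compactness of the constructible topology).
* `isClosed_of_iInter_of_stableUnderSpecialization`: a pro-constructible subset stable under
  specialization is closed (Stacks 0903).
* `IsWLocal.eq_of_mk_eq`: in a w-local space, two closed points in the same connected component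
  are equal.
-/

open Set Topology TopologicalSpace

namespace Groth.Agent.Lib.Helper4.WLocal

universe u
variable {X : Type u} [TopologicalSpace X]

section Constructible

theorem isOpen_constructible_of_isOpen [PrespectralSpace X] {U : Set X} (hU : IsOpen U) :
    IsOpen[constructibleTopology X] U := by
  obtain ⟨S, hS, rfl⟩ := PrespectralSpace.isTopologicalBasis.open_eq_sUnion hU
  apply @isOpen_sUnion X (constructibleTopology X)
  intro t ht
  exact (hS ht).2.isOpen_constructibleTopology_of_isOpen (hS ht).1

theorem isClosed_constructible_of_isClosed [PrespectralSpace X] {Z : Set X} (hZ : IsClosed Z) :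
    IsClosed[constructibleTopology X] Z := by
  rw [← @isOpen_compl_iff X Z (constructibleTopology X)]
  exact isOpen_constructible_of_isOpen hZ.isOpen_compl

theorem isClosed_constructible_of_isCompact_isOpen {U : Set X} (hUo : IsOpen U)
    (hUc : IsCompact U) : IsClosed[constructibleTopology X] U := by
  rw [← @isOpen_compl_iff X U (constructibleTopology X)]
  exact IsCompact.isOpen_constructibleTopology_of_isClosed (by rwa [compl_compl])
    hUo.isClosed_compl

theorem compactSpace_constructible [SpectralSpace X] : @CompactSpace X (constructibleTopology X) :=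
  @Function.Surjective.compactSpace (WithConstructibleTopology X) X _ (constructibleTopology X)
      WithTopology.ofTopology (WithTopology.continuous_ofTopology (constructibleTopology X))
      inferInstance (WithTopology.ofTopology_surjective _)

/-- finite intersection property for closed / quasi-compact open subsets of a spectral space -/
theorem nonempty_iInter_of_constructible [SpectralSpace X] {ι : Type*} (F : ι → Set X)
    (hF : ∀ i, IsClosed (F i) ∨ (IsOpen (F i) ∧ IsCompact (F i)))
    (hfin : ∀ s : Finset ι, (⋂ i ∈ s, F i).Nonempty) : (⋂ i, F i).Nonempty := by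
  have hc : @CompactSpace X (constructibleTopology X) := compactSpace_constructible
  have hcl : ∀ i, IsClosed[constructibleTopology X] (F i) := by
    intro i
    rcases hF i with h | h
    · exact isClosed_constructible_of_isClosed h
    · exact isClosed_constructible_of_isCompact_isOpen h.1 h.2
  have := @IsCompact.inter_iInter_nonempty X (constructibleTopology X) univ ι
    (@isCompact_univ X (constructibleTopology X) hc) F hcl (fun u => by
      rw [univ_inter]; exact hfin u)
  rwa [univ_inter] at this

/-- **Stacks 0903**: an intersection of closed / quasi-compact open subsets of a spectral space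
which is stable under specialization is closed. -/
theorem isClosed_of_iInter_of_stableUnderSpecialization [SpectralSpace X] {ι : Type*}
    (F : ι → Set X) (hF : ∀ i, IsClosed (F i) ∨ (IsOpen (F i) ∧ IsCompact (F i)))
    (hstable : StableUnderSpecialization (⋂ i, F i)) : IsClosed (⋂ i, F i) := by
  rw [← closure_subset_iff_isClosed]
  intro y hy
  -- the family `F` together with all quasi-compact open neighbourhoods of `y`
  let G : ι ⊕ {U : Set X // IsOpen U ∧ IsCompact U ∧ y ∈ U} → Set X :=
    Sum.elim F (fun U => U.1)
  have hG : ∀ k, IsClosed (G k) ∨ (IsOpen (G k) ∧ IsCompact (G k)) := by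
    rintro (i | U)
    · exact hF i
    · exact Or.inr ⟨U.2.1, U.2.2.1⟩
  have hfin : ∀ s : Finset (ι ⊕ {U : Set X // IsOpen U ∧ IsCompact U ∧ y ∈ U}),
      (⋂ k ∈ s, G k).Nonempty := by
    intro s
    -- the intersection of the neighbourhoods in `s`
    have hO : IsOpen (⋂ k ∈ s, (Sum.elim (fun _ : ι => (univ : Set X))
        (fun U : {U : Set X // IsOpen U ∧ IsCompact U ∧ y ∈ U} => U.1)) k) := by
      apply isOpen_biInter_finset
      rintro (i | U) _
      · exact isOpen_univ
      · exact U.2.1
    have hyO : y ∈ ⋂ k ∈ s, (Sum.elim (fun _ : ι => (univ : Set X))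
        (fun U : {U : Set X // IsOpen U ∧ IsCompact U ∧ y ∈ U} => U.1)) k := by
      simp only [mem_iInter]
      rintro (i | U) _
      · trivial
      · exact U.2.2.2
    obtain ⟨z, hzO, hzF⟩ := mem_closure_iff.mp hy _ hO hyO
    refine ⟨z, ?_⟩
    simp only [mem_iInter] at hzO hzF ⊢
    rintro (i | U) hk
    · exact hzF i
    · exact hzO (Sum.inr U) hk
  obtain ⟨z, hz⟩ := nonempty_iInter_of_constructible G hG hfin
  simp only [mem_iInter] at hz
  have hzF : z ∈ ⋂ i, F i := mem_iInter.mpr fun i => hz (Sum.inl i)
  have hzy : z ⤳ y := by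
    rw [specializes_iff_forall_open]
    intro s hs hys
    obtain ⟨V, hV, hyV, hVs⟩ :=
      PrespectralSpace.isTopologicalBasis.exists_subset_of_mem_open hys hs
    exact hVs (hz (Sum.inr ⟨V, hV.1, hV.2, hyV⟩))
  exact hstable hzy hzF

/-- the generalizations of a quasi-compact set in a prespectral space form the intersection of the
quasi-compact opens containing it -/
theorem generalizations_eq_iInter [PrespectralSpace X] {V : Set X} (hV : IsCompact V) :
    {y | ∃ v ∈ V, y ⤳ v} = ⋂ U : {U : Set X // IsOpen U ∧ IsCompact U ∧ V ⊆ U}, (U : Set X) := by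
  ext y
  simp only [mem_ofPred_eq, mem_iInter]
  constructor
  · rintro ⟨v, hv, hyv⟩ U
    exact hyv.mem_open U.2.1 (U.2.2.2 hv)
  · intro h
    by_contra hcon
    push Not at hcon
    have hsub : V ⊆ (closure {y})ᶜ := by
      intro v hv hvy
      exact hcon v hv (specializes_iff_mem_closure.mpr hvy)
    obtain ⟨W, hWc, hWo, hVW, hWy⟩ := PrespectralSpace.exists_isCompact_and_isOpen_between hV
      isClosed_closure.isOpen_compl hsub
    exact hWy (h ⟨W, hWo, hWc, hVW⟩) (subset_closure rfl)

end Constructible

section WLocal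

variable (hX : ProEtW.IsWLocal X)
include hX

/-- for a closed set `V` of closed points, the set of points specializing into `V` is closed -/
theorem isClosed_generalizations {V : Set X} (hV : IsClosed V)
    (hVc : ∀ v ∈ V, IsClosed ({v} : Set X)) : IsClosed {y | ∃ v ∈ V, y ⤳ v} := by
  have : SpectralSpace X := hX.1
  have hcomp : IsCompact V := hV.isCompact
  rw [generalizations_eq_iInter hcomp]
  apply isClosed_of_iInter_of_stableUnderSpecialization
  · intro U
    exact Or.inr ⟨U.2.1, U.2.2.1⟩
  · rw [← generalizations_eq_iInter hcomp]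
    rintro y y' hyy' ⟨v, hv, hyv⟩
    -- the closed specialization of `y'`
    obtain ⟨z, ⟨hzc, hy'z⟩, -⟩ := hX.2.2 y'
    obtain ⟨w, -, hw⟩ := hX.2.2 y
    have h1 : v = w := hw v ⟨hVc v hv, hyv⟩
    have h2 : z = w := hw z ⟨hzc, hyy'.trans hy'z⟩
    exact ⟨v, hv, by rw [h1, ← h2]; exact hy'z⟩

/-- in a w-local space the trace of a quasi-compact open on the closed points is closed -/
theorem isClosed_inter_closedPoints {U : Set X} (hUo : IsOpen U) (hUc : IsCompact U) :
    IsClosed (U ∩ {x : X | IsClosed ({x} : Set X)}) := by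
  have : SpectralSpace X := hX.1
  have hst : StableUnderSpecialization (U ∩ {x : X | IsClosed ({x} : Set X)}) := by
    rintro x x' hxx' ⟨hxU, hxc⟩
    have : x' ∈ ({x} : Set X) := hxx'.mem_closed hxc rfl
    rw [mem_singleton_iff] at this
    rw [this]; exact ⟨hxU, hxc⟩
  have heq : U ∩ {x : X | IsClosed ({x} : Set X)} =
      ⋂ b : Bool, (if b then U else {x : X | IsClosed ({x} : Set X)}) := by
    ext x; simp [and_comm]
  rw [heq] at hst ⊢
  apply isClosed_of_iInter_of_stableUnderSpecialization _ _ hst
  intro b
  cases b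
  · exact Or.inl (by simpa using hX.2.1)
  · exact Or.inr (by simpa using ⟨hUo, hUc⟩)

/-- **two closed points of a w-local space in the same connected component are equal** -/
theorem eq_of_mk_eq {x x' : X} (hx : IsClosed ({x} : Set X)) (hx' : IsClosed ({x'} : Set X))
    (h : ConnectedComponents.mk x = ConnectedComponents.mk x') : x = x' := by
  have : SpectralSpace X := hX.1
  by_contra hne
  -- a quasi-compact open containing `x` but not `x'`
  obtain ⟨U, hU, hxU, hUx'⟩ := PrespectralSpace.isTopologicalBasis.exists_subset_of_mem_open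
    (show x ∈ ({x'} : Set X)ᶜ from hne) hx'.isOpen_compl
  set Xc : Set X := {x : X | IsClosed ({x} : Set X)} with hXc
  set V : Set X := U ∩ Xc with hVdef
  set V' : Set X := Uᶜ ∩ Xc with hV'def
  have hV : IsClosed V := isClosed_inter_closedPoints hX hU.1 hU.2
  have hV' : IsClosed V' := hU.1.isClosed_compl.inter hX.2.1
  have hZ : IsClosed {y | ∃ v ∈ V, y ⤳ v} := isClosed_generalizations hX hV (fun v hv => hv.2)
  have hZ' : IsClosed {y | ∃ v ∈ V', y ⤳ v} :=
    isClosed_generalizations hX hV' (fun v hv => hv.2)
  have hcompl : {y | ∃ v ∈ V, y ⤳ v}ᶜ = {y | ∃ v ∈ V', y ⤳ v} := by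
    ext y
    obtain ⟨w, ⟨hwc, hyw⟩, hw⟩ := hX.2.2 y
    simp only [mem_compl_iff, mem_ofPred_eq]
    constructor
    · intro hy
      refine ⟨w, ⟨fun hwU => hy ⟨w, ⟨hwU, hwc⟩, hyw⟩, hwc⟩, hyw⟩
    · rintro ⟨v', ⟨hv'U, hv'c⟩, hyv'⟩ ⟨v, ⟨hvU, hvc⟩, hyv⟩
      have h1 : v = w := hw v ⟨hvc, hyv⟩
      have h2 : v' = w := hw v' ⟨hv'c, hyv'⟩
      exact hv'U (by rw [h2, ← h1]; exact hvU)
  have hclopen : IsClopen {y | ∃ v ∈ V, y ⤳ v} :=
    ⟨hZ, by rw [← isClosed_compl_iff, hcompl]; exact hZ'⟩
  have hxZ : x ∈ {y | ∃ v ∈ V, y ⤳ v} := ⟨x, ⟨hxU, hx⟩, specializes_rfl⟩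
  have hx'Z : x' ∉ {y | ∃ v ∈ V, y ⤳ v} := by
    rintro ⟨v, ⟨hvU, hvc⟩, hx'v⟩
    have : v ∈ ({x'} : Set X) := hx'v.mem_closed hx' rfl
    rw [mem_singleton_iff] at this
    exact hUx' (this ▸ hvU) rfl
  have hsub := hclopen.connectedComponent_subset hxZ
  have hx'comp : x' ∈ connectedComponent x := ConnectedComponents.coe_eq_coe'.mp h.symm
  exact hx'Z (hsub hx'comp)

/-- every connected component of a w-local space contains a closed point -/
theorem exists_closed_mk_eq (y : X) :
    ∃ x : X, IsClosed ({x} : Set X) ∧ y ⤳ x ∧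
      ConnectedComponents.mk x = ConnectedComponents.mk y := by
  obtain ⟨x, ⟨hxc, hyx⟩, -⟩ := hX.2.2 y
  refine ⟨x, hxc, hyx, ?_⟩
  apply ConnectedComponents.coe_eq_coe'.mpr
  have hpre : IsPreconnected (closure ({y} : Set X)) := isPreconnected_singleton.closure
  exact hpre.subset_connectedComponent (subset_closure rfl) (specializes_iff_mem_closure.mp hyx)

end WLocal

end Groth.Agent.Lib.Helper4.WLocal
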