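import Mathlib
import Groth.Prelude.Def_ProEtW
import Groth.Agent.Lib.Helper4.LocSecLocal
import Groth.Agent.Lib.Helper4.WLocal

/-!
# Helper library (helper4): the w-localization `A_w`

`Cons A` is `Spec A` with the constructible topology; `Aw A = LS (primeFamily id)` is the ring of
families `(s_p) ∈ ∏_p A_p` which are locally, in the constructible topology, a single fraction.
-/

set_option autoImplicit false
set_option linter.unusedSectionVars false

universe u

namespace Groth.Agent.Lib.Helper4.LocSec

variable (A : Type u) [CommRing A]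

/-- `Spec A` with the constructible topology -/
def Cons : Type u := PrimeSpectrum A

instance : TopologicalSpace (Cons A) := constructibleTopology (PrimeSpectrum A)

instance : CompactSpace (Cons A) := by
  change @CompactSpace (PrimeSpectrum A) (constructibleTopology (PrimeSpectrum A))
  exact WLocal.compactSpace_constructible

variable {A}

/-- the identity map to `Spec A` -/
def Cons.toSpec : Cons A → PrimeSpectrum A := id

theorem isClopen_of_mem_subbasis {s : Set (Cons A)}
    (hs : s ∈ constructibleTopologySubbasis (PrimeSpectrum A)) : IsClopen s := by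
  have h1 : IsOpen s := TopologicalSpace.isOpen_generateFrom_of_mem hs
  have h2 : IsOpen sᶜ := TopologicalSpace.isOpen_generateFrom_of_mem
    (compl_mem_constructibleTopologySubbasis_iff.2 hs)
  exact ⟨isOpen_compl_iff.1 h2, h1⟩

theorem isClopen_cons_of_isCompact_isOpen {U : Set (PrimeSpectrum A)} (hU : IsOpen U)
    (hUc : IsCompact U) : IsClopen (X := Cons A) U :=
  isClopen_of_mem_subbasis (Or.inl ⟨hU, hUc⟩)

theorem continuous_toSpec : Continuous (Cons.toSpec (A := A)) := by
  rw [PrespectralSpace.isTopologicalBasis.continuous_iff]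
  intro U hU
  exact (isClopen_cons_of_isCompact_isOpen hU.1 hU.2).isOpen

theorem isConsContinuous_toSpec : IsConsContinuous (Cons.toSpec (A := A)) := by
  intro g
  have : IsClopen (X := Cons A) ((PrimeSpectrum.basicOpen g : Set (PrimeSpectrum A))) :=
    isClopen_cons_of_isCompact_isOpen (PrimeSpectrum.basicOpen g).2
      (PrimeSpectrum.isCompact_basicOpen g)
  have heq : {l : Cons A | g ∈ (Cons.toSpec l).asIdeal} =
      ((PrimeSpectrum.basicOpen g : Set (PrimeSpectrum A)))ᶜ := by
    ext x
    exact not_not.symm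
  rw [heq]
  exact this.compl

theorem clopenBasis_cons : ClopenBasis (Cons A) where
  basis l U hU hl := by
    have hb := TopologicalSpace.isTopologicalBasis_of_subbasis
      (t := (inferInstance : TopologicalSpace (Cons A)))
      (s := constructibleTopologySubbasis (PrimeSpectrum A)) rfl
    obtain ⟨W, ⟨f, ⟨hf, hfs⟩, rfl⟩, hlW, hWU⟩ := hb.exists_subset_of_mem_open hl hU
    refine ⟨⋂₀ f, ?_, hlW, hWU⟩
    rw [Set.sInter_eq_biInter]
    exact hf.isClopen_biInter fun s hs => isClopen_of_mem_subbasis (hfs hs)
  sep l l' hne := by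
    have hne' : (Cons.toSpec l).asIdeal ≠ (Cons.toSpec l').asIdeal := fun h =>
      hne (PrimeSpectrum.ext h)
    by_cases hle : (Cons.toSpec l).asIdeal ≤ (Cons.toSpec l').asIdeal
    · have : ¬ (Cons.toSpec l').asIdeal ≤ (Cons.toSpec l).asIdeal := fun h =>
        hne' (le_antisymm hle h)
      obtain ⟨g, hg, hg'⟩ := SetLike.not_le_iff_exists.1 this
      exact ⟨_, (isConsContinuous_toSpec g).compl, hg', fun h => h hg⟩
    · obtain ⟨g, hg, hg'⟩ := SetLike.not_le_iff_exists.1 hle
      exact ⟨_, isConsContinuous_toSpec g, hg, hg'⟩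

variable (A) in
/-- the w-localization of `A` -/
abbrev Aw : Type u := LS (primeFamily (Cons.toSpec (A := A)))

theorem Aw_isIndZariski : EtPBC.IsIndZariski A (Aw A) :=
  isIndZariski (isOpenFamily_primeFamily isConsContinuous_toSpec) clopenBasis_cons

theorem Aw_isWLocal : ProEtW.IsWLocal (PrimeSpectrum (Aw A)) :=
  isWLocal isConsContinuous_toSpec clopenBasis_cons

theorem Aw_bijOn : Set.BijOn (PrimeSpectrum.comap (algebraMap A (Aw A)))
    (ProEtW.closedPoints (PrimeSpectrum (Aw A))) Set.univ := by
  rw [closedPoints_eq_range isConsContinuous_toSpec clopenBasis_cons]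
  refine ⟨fun _ _ => Set.mem_univ _, ?_, ?_⟩
  · rintro _ ⟨l, rfl⟩ _ ⟨l', rfl⟩ h
    rw [comap_algebraMap_cl, comap_algebraMap_cl] at h
    exact congrArg _ h
  · intro q _
    exact ⟨cl Cons.toSpec q, ⟨q, rfl⟩, comap_algebraMap_cl q⟩

theorem Aw_faithfullyFlat : Module.FaithfullyFlat A (Aw A) := by
  have : Module.Flat A (Aw A) :=
    flat (isOpenFamily_primeFamily isConsContinuous_toSpec) clopenBasis_cons
  refine Module.FaithfullyFlat.of_comap_surjective fun q => ?_
  obtain ⟨Q, -, hQ⟩ := Aw_bijOn.surjOn (Set.mem_univ q)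
  exact ⟨Q, hQ⟩

end Groth.Agent.Lib.Helper4.LocSec
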