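import Mathlib
import Groth.Agent.Lib.Helper4.LocSecCons
import Groth.Agent.Lib.Helper4.LocSecClosed

/-!
# Helper library (helper4): the extremally disconnected w-local ind-Zariski cover
-/

set_option autoImplicit false
set_option linter.unusedSectionVars false

universe u

namespace Groth.Agent.Lib.Helper4.LocSec

/-- `Spec A` with the discrete topology -/
def Disc (A : Type u) [CommRing A] : Type u := PrimeSpectrum A

instance (A : Type u) [CommRing A] : TopologicalSpace (Disc A) := ⊥

instance (A : Type u) [CommRing A] : DiscreteTopology (Disc A) := ⟨rfl⟩

variable (A : Type u) [CommRing A]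

instance : T2Space (Cons A) := t2Space_of_clopenBasis clopenBasis_cons

/-- the Stone-Čech compactification of the discrete set `Spec A` -/
abbrev ΛS : Type u := StoneCech (Disc A)

instance : ExtremallyDisconnected (ΛS A) :=
  CompactT2.Projective.extremallyDisconnected StoneCech.projective

/-- the identity map from the discrete to the constructible topology -/
def discToCons : Disc A → Cons A := fun x => x

theorem continuous_discId : Continuous (discToCons A) := continuous_of_discreteTopology

/-- the canonical map to `Spec A` -/
noncomputable def pS : ΛS A → PrimeSpectrum A := fun l =>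
  Cons.toSpec (stoneCechExtend (continuous_discId A) l)

theorem isConsContinuous_pS : IsConsContinuous (pS A) := fun a =>
  (isConsContinuous_toSpec a).preimage (continuous_stoneCechExtend (continuous_discId A))

theorem clopenBasis_ΛS : ClopenBasis (ΛS A) := clopenBasis_of_profinite _

theorem pS_surjective : Function.Surjective (pS A) := fun q =>
  ⟨stoneCechUnit (show Disc A from q),
    congrArg Cons.toSpec (stoneCechExtend_stoneCechUnit (continuous_discId A) _)⟩

/-- the cover -/
abbrev BS : Type u := LS (primeFamily (pS A))

theorem BS_faithfullyFlat : Module.FaithfullyFlat A (BS A) :=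
  faithfullyFlat_of_surjective (isConsContinuous_pS A) (clopenBasis_ΛS A) (pS_surjective A)

theorem BS_isIndZariski : EtPBC.IsIndZariski A (BS A) :=
  isIndZariski (isOpenFamily_primeFamily (isConsContinuous_pS A)) (clopenBasis_ΛS A)

theorem BS_isWLocal : ProEtW.IsWLocal (PrimeSpectrum (BS A)) :=
  isWLocal (isConsContinuous_pS A) (clopenBasis_ΛS A)

theorem BS_extremallyDisconnected :
    ExtremallyDisconnected (ConnectedComponents (PrimeSpectrum (BS A))) :=
  extremallyDisconnected_of_homeo (pi0Homeo (isConsContinuous_pS A) (clopenBasis_ΛS A)).symm

end Groth.Agent.Lib.Helper4.LocSec
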