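import Mathlib
import Groth.Prelude.Def_ProEtW
import Groth.Agent.Lib.Helper4.LocSecClosed
import Groth.Agent.Lib.Helper4.WLocal

/-!
# Helper library (helper4): closed subsets of closed points are profinite; spectral maps
-/

set_option autoImplicit false
set_option linter.unusedSectionVars false

universe u

namespace Groth.Agent.Lib.Helper4.LocSec

theorem isSpectralMap_comap {R S : Type*} [CommRing R] [CommRing S] (f : R →+* S) :
    IsSpectralMap (PrimeSpectrum.comap f) :=
  ⟨PrimeSpectrum.continuous_comap f, fun s hs hc => by
    classical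
    obtain ⟨t, rfl⟩ := PrimeSpectrum.isCompact_isOpen_iff.1 ⟨hc, hs⟩
    rw [Set.preimage_compl, PrimeSpectrum.preimage_comap_zeroLocus]
    exact (PrimeSpectrum.isCompact_isOpen_iff.2 ⟨t.image f, by simp⟩).1⟩

/-- a closed subset of `Spec R` consisting of closed points is profinite -/
theorem isProfinite_of_subset_closedPoints {R : Type u} [CommRing R]
    (Z : Set (PrimeSpectrum R)) (hZ : IsClosed Z)
    (hcl : ∀ z ∈ Z, IsClosed ({z} : Set (PrimeSpectrum R))) : ProEtW.IsProfinite Z := by
  have hcomp : CompactSpace Z := isCompact_iff_compactSpace.1 hZ.isCompact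
  have hbasis : TopologicalSpace.IsTopologicalBasis {s : Set Z | IsClopen s} := by
    refine TopologicalSpace.isTopologicalBasis_of_isOpen_of_nhds (fun u hu => hu.2) ?_
    intro z U hzU hU
    obtain ⟨U', hU', rfl⟩ := isOpen_induced_iff.1 hU
    obtain ⟨V, ⟨f, rfl⟩, hzV, hVU⟩ :=
      PrimeSpectrum.isTopologicalBasis_basic_opens.exists_subset_of_mem_open hzU hU'
    refine ⟨Subtype.val ⁻¹' (PrimeSpectrum.basicOpen f : Set (PrimeSpectrum R)), ⟨?_, ?_⟩, hzV,
      Set.preimage_mono hVU⟩
    · -- closed
      have hcl' : IsClosed ((PrimeSpectrum.basicOpen f : Set (PrimeSpectrum R)) ∩ Z) := by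
        have := WLocal.isClosed_of_iInter_of_stableUnderSpecialization
          (fun b : Bool => cond b (PrimeSpectrum.basicOpen f : Set (PrimeSpectrum R)) Z)
          (fun b => by
            cases b
            · exact Or.inl hZ
            · exact Or.inr ⟨(PrimeSpectrum.basicOpen f).2, PrimeSpectrum.isCompact_basicOpen f⟩)
          (by
            intro x y hxy hx
            have hxZ : x ∈ Z := Set.mem_iInter.1 hx false
            have : y ∈ ({x} : Set (PrimeSpectrum R)) := hxy.mem_closed (hcl x hxZ) rfl
            rw [Set.mem_singleton_iff] at this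
            rw [this]
            exact hx)
        have heq : (⋂ b : Bool, cond b (PrimeSpectrum.basicOpen f : Set (PrimeSpectrum R)) Z) =
            (PrimeSpectrum.basicOpen f : Set (PrimeSpectrum R)) ∩ Z := by
          ext x
          rw [Set.mem_iInter, Bool.forall_bool]
          exact and_comm
        rwa [heq] at this
      have : Subtype.val ⁻¹' (PrimeSpectrum.basicOpen f : Set (PrimeSpectrum R)) =
          (Subtype.val : Z → PrimeSpectrum R) ⁻¹'
            ((PrimeSpectrum.basicOpen f : Set (PrimeSpectrum R)) ∩ Z) := by
        ext x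
        simp
      rw [this]
      exact hcl'.preimage continuous_subtype_val
    · exact (PrimeSpectrum.basicOpen f).2.preimage continuous_subtype_val
  have hts : TotallySeparatedSpace Z := totallySeparatedSpace_of_t0_of_basis_clopen hbasis
  exact ⟨hcomp, inferInstance, inferInstance⟩

/-- if `A → B` induces algebraic residue field extensions, the points of `Spec B` over closed points
of `Spec A` are closed -/
theorem isClosed_singleton_of_algebraicResidueExtensions {A B : Type u} [CommRing A] [CommRing B]
    [Algebra A B] (h : ProEtW.AlgebraicResidueExtensions A B) (q : PrimeSpectrum B)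
    (hq : IsClosed ({PrimeSpectrum.comap (algebraMap A B) q} : Set (PrimeSpectrum A))) :
    IsClosed ({q} : Set (PrimeSpectrum B)) := by
  rw [PrimeSpectrum.isClosed_singleton_iff_isMaximal] at hq ⊢
  have halg := h q.asIdeal
  have hmax : (q.asIdeal.comap (algebraMap A B)).IsMaximal := hq
  have hfield : IsField (A ⧸ q.asIdeal.comap (algebraMap A B)) :=
    (Ideal.Quotient.maximal_ideal_iff_isField_quotient _).1 hmax
  have hint : Algebra.IsIntegral (A ⧸ q.asIdeal.comap (algebraMap A B)) (B ⧸ q.asIdeal) := by
    letI := hfield.toField
    exact Algebra.IsAlgebraic.isIntegral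
  have : IsField (B ⧸ q.asIdeal) := isField_of_isIntegral_of_isField' hfield
  exact (Ideal.Quotient.maximal_ideal_iff_isField_quotient _).2 this

end Groth.Agent.Lib.Helper4.LocSec
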