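import Mathlib
import Groth.Agent.Lib.Helper4.LocSecCons

/-!
# Helper library (helper4): functoriality of rings of locally-fraction sections
-/

set_option autoImplicit false
set_option linter.unusedSectionVars false

universe u

namespace Groth.Agent.Lib.Helper4.LocSec

section Pull

variable {A B : Type u} [CommRing A] [CommRing B] (f : A →+* B)
  {Λ Λ' : Type u} [TopologicalSpace Λ] [TopologicalSpace Λ']
  (S : Λ → Submonoid A) (S' : Λ' → Submonoid B) (ρ : Λ' → Λ) (hρ : Continuous ρ)
  (h : ∀ l', S (ρ l') ≤ (S' l').comap f)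

/-- the induced map on localizations -/
noncomputable def locMap (l' : Λ') : Localization (S (ρ l')) →+* Localization (S' l') :=
  IsLocalization.map (Localization (S' l')) f (h l')

theorem locMap_algebraMap (l' : Λ') (a : A) :
    locMap f S S' ρ h l' (algebraMap A _ a) = algebraMap B _ (f a) :=
  IsLocalization.map_eq _ _

include hρ in
theorem pull_isLocFrac (s : LS S) :
    IsLocFrac S' (fun l' => locMap f S S' ρ h l' (s.1 (ρ l'))) := by
  intro l'
  obtain ⟨W, hW, hl, a, d, hWd⟩ := s.2 (ρ l')
  refine ⟨ρ ⁻¹' W, hW.preimage hρ, hl, f a, f d, fun m' hm' => ⟨h m' (hWd _ hm').1, ?_⟩⟩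
  have := congrArg (locMap f S S' ρ h m') (hWd (ρ m') hm').2
  rw [map_mul, locMap_algebraMap, locMap_algebraMap] at this
  exact this

/-- pull back sections along a continuous map of index spaces and a ring map -/
noncomputable def pull : LS S →+* LS S' where
  toFun s := ⟨fun l' => locMap f S S' ρ h l' (s.1 (ρ l')), pull_isLocFrac f S S' ρ hρ h s⟩
  map_one' := Subtype.ext (funext fun l' => by
    change locMap f S S' ρ h l' 1 = 1
    rw [map_one])
  map_mul' x y := Subtype.ext (funext fun l' => by
    change locMap f S S' ρ h l' (x.1 (ρ l') * y.1 (ρ l')) = _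
    rw [map_mul]; rfl)
  map_zero' := Subtype.ext (funext fun l' => by
    change locMap f S S' ρ h l' 0 = 0
    rw [map_zero])
  map_add' x y := Subtype.ext (funext fun l' => by
    change locMap f S S' ρ h l' (x.1 (ρ l') + y.1 (ρ l')) = _
    rw [map_add]; rfl)

@[simp] theorem ev_pull [Algebra A B] (s : LS S) (l' : Λ')
    (h : ∀ l', S (ρ l') ≤ (S' l').comap (algebraMap A B)) :
    (pull (algebraMap A B) S S' ρ hρ h s).1 l' =
      locMap (algebraMap A B) S S' ρ h l' (s.1 (ρ l')) := rfl

theorem pull_apply (s : LS S) (l' : Λ') :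
    (pull f S S' ρ hρ h s).1 l' = locMap f S S' ρ h l' (s.1 (ρ l')) := rfl

theorem pull_algebraMap (a : A) :
    pull f S S' ρ hρ h (algebraMap A (LS S) a) = algebraMap B (LS S') (f a) :=
  Subtype.ext (funext fun l' => locMap_algebraMap f S S' ρ h l' a)

end Pull

section Transport

variable {A : Type u} [CommRing A]

theorem hasFactorization_of_algEquiv {ℰ : AlgClass A} {B₁ B₂ : Type u} [CommRing B₁] [CommRing B₂]
    [Algebra A B₁] [Algebra A B₂] (e : B₁ ≃ₐ[A] B₂) (h : HasFactorization ℰ B₁) :
    HasFactorization ℰ B₂ := by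
  intro P _ _ _ φ
  obtain ⟨E, _, _, hE, α, β, hαβ⟩ := h P (e.symm.toAlgHom.comp φ)
  refine ⟨E, inferInstance, inferInstance, hE, α, e.toAlgHom.comp β, ?_⟩
  ext x
  have := AlgHom.congr_fun hαβ x
  simp only [AlgHom.comp_apply] at this ⊢
  rw [this]
  exact e.apply_symm_apply _

theorem isIndZariski_of_algEquiv {B₁ B₂ : Type u} [CommRing B₁] [CommRing B₂]
    [Algebra A B₁] [Algebra A B₂] (e : B₁ ≃ₐ[A] B₂) (h : EtPBC.IsIndZariski A B₁) :
    EtPBC.IsIndZariski A B₂ :=
  (isIndZariski_iff_hasFactorization _).2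
    (hasFactorization_of_algEquiv e ((isIndZariski_iff_hasFactorization _).1 h))

end Transport

end Groth.Agent.Lib.Helper4.LocSec
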