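import Mathlib
import Groth.Agent.Lib.Helper4.LocSecPull
import Groth.Agent.Lib.Helper4.LocSecAlgRes

/-!
# Helper library (helper4): a ring with w-local spectrum is its localization along closed points

For a ring `B` with w-local spectrum and `J` the ideal of its closed points, the canonical map
`B → BI J` is bijective.  As a consequence `Aw A → B` exists (uniquely) for every `A`-algebra `B`
with w-local spectrum.
-/

set_option autoImplicit false
set_option linter.unusedSectionVars false

universe u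

namespace Groth.Agent.Lib.Helper4.LocSec

section WLocalRing

variable {B : Type u} [CommRing B] (hB : ProEtW.IsWLocal (PrimeSpectrum B))

variable (B) in
/-- the ideal of the closed points -/
noncomputable def JB : Ideal B :=
  PrimeSpectrum.vanishingIdeal {x : PrimeSpectrum B | IsClosed ({x} : Set (PrimeSpectrum B))}

include hB

theorem zeroLocus_JB : PrimeSpectrum.zeroLocus (R := B) (JB B) =
    {x : PrimeSpectrum B | IsClosed ({x} : Set (PrimeSpectrum B))} := by
  rw [JB, PrimeSpectrum.zeroLocus_vanishingIdeal_eq_closure]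
  exact hB.2.1.closure_eq

theorem isProfinite_JB : ProEtW.IsProfinite (PrimeSpectrum.zeroLocus (R := B) (JB B)) := by
  refine isProfinite_of_subset_closedPoints _ (PrimeSpectrum.isClosed_zeroLocus _) ?_
  intro z hz
  rw [zeroLocus_JB hB] at hz
  exact hz

theorem isClosed_of_mem_zeroLocus_JB (z : PrimeSpectrum B)
    (hz : z ∈ PrimeSpectrum.zeroLocus (R := B) (JB B)) : IsClosed ({z} : Set (PrimeSpectrum B)) := by
  rw [zeroLocus_JB hB] at hz
  exact hz

/-- the point of `V(J)` given by a maximal ideal -/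
noncomputable def ptOfMax (M : Ideal B) (hM : M.IsMaximal) : VI (JB B) :=
  ⟨⟨M, hM.isPrime⟩, by
    rw [zeroLocus_JB hB]
    exact (PrimeSpectrum.isClosed_singleton_iff_isMaximal _).2 hM⟩

theorem algebraMap_BI_injective : Function.Injective (algebraMap B (BI (JB B))) := by
  rw [injective_iff_map_eq_zero]
  intro b hb
  refine mem_of_forall_maximal (⊥ : Ideal B) b fun M hM => ?_
  have h1 : ev (primeFamily (pI (JB B))) (ptOfMax hB M hM) (algebraMap B (BI (JB B)) b) = 0 := by
    rw [hb, map_zero]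
  rw [AlgHom.commutes] at h1
  obtain ⟨u, hu⟩ := (IsLocalization.map_eq_zero_iff
    (primeFamily (pI (JB B)) (ptOfMax hB M hM)) _ b).1 h1
  exact ⟨u.1, by rw [hu]; exact Ideal.zero_mem _, u.2⟩

/-- clopen subsets of the closed points of a w-local spectrum are cut out by idempotents -/
theorem exists_idempotent_of_isClopen (W : Set (VI (JB B))) (hW : IsClopen W) :
    ∃ e : B, IsIdempotentElem e ∧ ∀ z : VI (JB B), (z ∈ W ↔ e ∉ z.1.asIdeal) := by
  have hcl : IsClosedMap (Subtype.val : VI (JB B) → PrimeSpectrum B) :=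
    (PrimeSpectrum.isClosed_zeroLocus _).isClosedEmbedding_subtypeVal.isClosedMap
  have hclosedpt : ∀ (V : Set (VI (JB B))), ∀ v ∈ Subtype.val '' V,
      IsClosed ({v} : Set (PrimeSpectrum B)) := by
    rintro V _ ⟨z, -, rfl⟩
    exact isClosed_of_mem_zeroLocus_JB hB z.1 z.2
  let U : Set (PrimeSpectrum B) := {y | ∃ v ∈ Subtype.val '' W, y ⤳ v}
  let U' : Set (PrimeSpectrum B) := {y | ∃ v ∈ Subtype.val '' Wᶜ, y ⤳ v}
  have hU : IsClosed U := WLocal.isClosed_generalizations hB (hcl _ hW.1) (hclosedpt W)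
  have hU' : IsClosed U' :=
    WLocal.isClosed_generalizations hB (hcl _ hW.compl.1) (hclosedpt Wᶜ)
  have hcompl : Uᶜ = U' := by
    ext y
    obtain ⟨w, ⟨hwc, hyw⟩, hw⟩ := hB.2.2 y
    have hwz : w ∈ PrimeSpectrum.zeroLocus (R := B) (JB B) := by rw [zeroLocus_JB hB]; exact hwc
    constructor
    · intro hy
      refine ⟨w, ⟨⟨w, hwz⟩, ?_, rfl⟩, hyw⟩
      intro hwW
      exact hy ⟨w, ⟨⟨w, hwz⟩, hwW, rfl⟩, hyw⟩
    · rintro ⟨_, ⟨z', hz', rfl⟩, hyv'⟩ ⟨_, ⟨z, hz, rfl⟩, hyv⟩
      have h1 : z.1 = w := hw z.1 ⟨hclosedpt W _ ⟨z, hz, rfl⟩, hyv⟩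
      have h2 : z'.1 = w := hw z'.1 ⟨hclosedpt Wᶜ _ ⟨z', hz', rfl⟩, hyv'⟩
      exact hz' (by rw [Subtype.ext (h2.trans h1.symm)]; exact hz)
  have hclopen : IsClopen U := ⟨hU, by rw [← isClosed_compl_iff, hcompl]; exact hU'⟩
  obtain ⟨e, he, hUe⟩ := PrimeSpectrum.isClopen_iff.1 hclopen
  refine ⟨e, he, fun z => ?_⟩
  have hz : (z.1 ∈ U) ↔ e ∉ z.1.asIdeal := by rw [hUe]; rfl
  rw [← hz]
  constructor
  · intro hzW
    exact ⟨z.1, ⟨z, hzW, rfl⟩, specializes_rfl⟩
  · rintro ⟨_, ⟨z', hz', rfl⟩, hzv⟩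
    have hzc : IsClosed ({z.1} : Set (PrimeSpectrum B)) :=
      isClosed_of_mem_zeroLocus_JB hB z.1 z.2
    have : z'.1 ∈ ({z.1} : Set (PrimeSpectrum B)) := hzv.mem_closed hzc rfl
    rw [Set.mem_singleton_iff] at this
    rw [← Subtype.ext this]
    exact hz'

theorem algebraMap_BI_surjective : Function.Surjective (algebraMap B (BI (JB B))) := by
  haveI : CompactSpace (VI (JB B)) := (isProfinite_JB hB).1
  have hΛ := clopenBasis_VI (isProfinite_JB hB)
  intro t
  suffices ht : t ∈ LinearMap.range (Algebra.linearMap B (BI (JB B))) by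
    obtain ⟨b, hb⟩ := ht
    exact ⟨b, hb⟩
  refine mem_of_forall_maximal' _ t fun M hM => ?_
  obtain ⟨W, hW, a, d, hlW, h⟩ := exists_clopen_frac hΛ t (ptOfMax hB M hM)
  obtain ⟨e, he, heW⟩ := exists_idempotent_of_isClopen hB W hW
  refine ⟨e * d, ⟨e * a, ?_⟩, fun hmem => ?_⟩
  · rw [Algebra.linearMap_apply, Algebra.smul_def]
    refine ext_ev fun z => ?_
    simp only [map_mul, AlgHom.commutes]
    by_cases hz : z ∈ W
    · rw [mul_assoc, (h z hz).2]
    · have hez : e ∈ z.1.asIdeal := by
        by_contra hcon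
        exact hz ((heW z).2 hcon)
      have h1e : (1 - e) ∉ z.1.asIdeal := fun h1 => by
        have := z.1.asIdeal.add_mem h1 hez
        rw [sub_add_cancel] at this
        exact z.1.2.ne_top ((Ideal.eq_top_iff_one _).2 this)
      have h0 : algebraMap B (Localization (primeFamily (pI (JB B)) z)) e = 0 :=
        (IsLocalization.map_eq_zero_iff (primeFamily (pI (JB B)) z) _ e).2
          ⟨⟨1 - e, h1e⟩, by
            change (1 - e) * e = 0
            rw [sub_mul, one_mul, he.eq, sub_self]⟩
      rw [h0, zero_mul, zero_mul, zero_mul]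
  · rcases hM.isPrime.mem_or_mem hmem with h1 | h1
    · exact (heW (ptOfMax hB M hM)).1 hlW h1
    · exact (h _ hlW).1 h1

theorem algebraMap_BI_bijective : Function.Bijective (algebraMap B (BI (JB B))) :=
  ⟨algebraMap_BI_injective hB, algebraMap_BI_surjective hB⟩

end WLocalRing

section Univ

theorem isClopen_preimage_val {R : Type u} [CommRing R] {I : Ideal R}
    (hI : ProEtW.IsProfinite (PrimeSpectrum.zeroLocus (R := R) I)) {K : Set (PrimeSpectrum R)}
    (hKo : IsOpen K) (hKc : IsCompact K) : IsClopen ((Subtype.val : VI I → PrimeSpectrum R) ⁻¹' K) := by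
  obtain ⟨hc, ht2, htd⟩ := hI
  refine ⟨?_, hKo.preimage continuous_subtype_val⟩
  have h1 : IsCompact (K ∩ PrimeSpectrum.zeroLocus (R := R) I) :=
    hKc.inter_right (PrimeSpectrum.isClosed_zeroLocus _)
  have hind : Topology.IsInducing (Subtype.val : VI I → PrimeSpectrum R) :=
    Topology.IsInducing.subtypeVal
  have hsub : K ∩ PrimeSpectrum.zeroLocus (R := R) I ⊆
      Set.range (Subtype.val : VI I → PrimeSpectrum R) := by
    rw [Subtype.range_val]
    exact Set.inter_subset_right
  have h2 := (hind.isCompact_preimage_iff hsub).2 h1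
  have h3 : (Subtype.val : VI I → PrimeSpectrum R) ⁻¹' K =
      Subtype.val ⁻¹' (K ∩ PrimeSpectrum.zeroLocus (R := R) I) := by
    ext l
    simp only [Set.mem_preimage, Set.mem_inter_iff]
    exact ⟨fun h => ⟨h, l.2⟩, fun h => h.1⟩
  rw [h3]
  exact h2.isClosed

variable {A B : Type u} [CommRing A] [CommRing B] [Algebra A B]
  (hB : ProEtW.IsWLocal (PrimeSpectrum B))

/-- the contraction of a closed point of `Spec B` -/
def ρB : VI (JB B) → Cons A := fun z => PrimeSpectrum.comap (algebraMap A B) z.1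

include hB in
theorem continuous_ρB : Continuous (ρB (A := A) (B := B)) := by
  refine (continuous_generateFrom_iff (α := VI (JB B)) (β := Cons A)
    (b := constructibleTopologySubbasis (PrimeSpectrum A)) (f := ρB)).2 ?_
  rintro s (⟨hso, hsc⟩ | ⟨hsc, hscc⟩)
  · exact (hso.preimage (PrimeSpectrum.continuous_comap (algebraMap A B))).preimage
      continuous_subtype_val
  · have hK := isClopen_preimage_val (isProfinite_JB hB)
      (hsc.isOpen_compl.preimage (PrimeSpectrum.continuous_comap (algebraMap A B)))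
      ((isSpectralMap_comap (algebraMap A B)).isCompact_preimage_of_isOpen hsc.isOpen_compl hscc)
    have : ρB (A := A) (B := B) ⁻¹' s =
        ((Subtype.val : VI (JB B) → PrimeSpectrum B) ⁻¹'
          (PrimeSpectrum.comap (algebraMap A B) ⁻¹' sᶜ))ᶜ := by
      ext z
      exact (not_not (a := ρB (A := A) z ∈ s)).symm
    rw [this]
    exact hK.compl.isOpen

theorem hcompat (z : VI (JB B)) : primeFamily (Cons.toSpec (A := A)) (ρB (A := A) z) ≤
    (primeFamily (pI (JB B)) z).comap (algebraMap A B) := fun _ ha => ha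

/-- the canonical map `A_w → BI J` -/
noncomputable def pullB : Aw A →+* BI (JB B) :=
  pull (algebraMap A B) (primeFamily (Cons.toSpec (A := A))) (primeFamily (pI (JB B)))
    (ρB (A := A) (B := B)) (continuous_ρB hB) hcompat

/-- the map on local rings -/
noncomputable def θB (z : VI (JB B)) :
    Localization (primeFamily (Cons.toSpec (A := A)) (ρB (A := A) z)) →+*
      Localization (primeFamily (pI (JB B)) z) :=
  locMap (algebraMap A B) (primeFamily (Cons.toSpec (A := A))) (primeFamily (pI (JB B)))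
    (ρB (A := A) (B := B)) hcompat z

theorem θB_algebraMap (z : VI (JB B)) (a : A) :
    θB z (algebraMap A (Localization (primeFamily (Cons.toSpec (A := A)) (ρB (A := A) z))) a) =
      algebraMap B _ (algebraMap A B a) :=
  locMap_algebraMap _ _ _ _ _ _ _

theorem pullB_apply (s : Aw A) (z : VI (JB B)) :
    ev (primeFamily (pI (JB B))) z (pullB hB s) = θB z (s.1 (ρB (A := A) z)) := rfl

theorem θB_mem_maximalIdeal_iff (z : VI (JB B))
    (x : Localization (primeFamily (Cons.toSpec (A := A)) (ρB (A := A) z))) :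
    θB z x ∈ IsLocalRing.maximalIdeal (Localization (primeFamily (pI (JB B)) z)) ↔
      x ∈ IsLocalRing.maximalIdeal _ := by
  haveI hp : (Cons.toSpec (ρB (A := A) z)).asIdeal.IsPrime := (Cons.toSpec (ρB (A := A) z)).2
  have hloc : IsLocalHom (θB (A := A) z) :=
    Localization.isLocalHom_localRingHom (I := (Cons.toSpec (ρB (A := A) z)).asIdeal)
      z.1.asIdeal (algebraMap A B) rfl
  rw [IsLocalRing.mem_maximalIdeal, IsLocalRing.mem_maximalIdeal, mem_nonunits_iff,
    mem_nonunits_iff, isUnit_map_iff]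

/-- the canonical `A`-algebra map `A_w → B` for a ring `B` with w-local spectrum -/
noncomputable def φB : Aw A →ₐ[A] B where
  toRingHom := (RingEquiv.ofBijective (algebraMap B (BI (JB B)))
    (algebraMap_BI_bijective hB)).symm.toRingHom.comp (pullB hB)
  commutes' a := by
    change (RingEquiv.ofBijective (algebraMap B (BI (JB B))) (algebraMap_BI_bijective hB)).symm
      (pullB hB (algebraMap A (Aw A) a)) = algebraMap A B a
    rw [RingEquiv.symm_apply_eq]
    exact pull_algebraMap _ _ _ _ _ _ a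

theorem algebraMap_φB (s : Aw A) : algebraMap B (BI (JB B)) (φB hB s) = pullB hB s :=
  (RingEquiv.ofBijective (algebraMap B (BI (JB B))) (algebraMap_BI_bijective hB)).apply_symm_apply _

theorem comap_φB (z : VI (JB B)) :
    PrimeSpectrum.comap (φB (A := A) hB).toRingHom z.1 = cl Cons.toSpec (ρB (A := A) z) := by
  haveI : CompactSpace (VI (JB B)) := (isProfinite_JB hB).1
  refine PrimeSpectrum.ext (Ideal.ext fun s => ?_)
  have h1 : PrimeSpectrum.comap (algebraMap B (BI (JB B))) (cl (pI (JB B)) z) = z.1 :=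
    comap_algebraMap_cl (p := pI (JB B)) z
  change φB hB s ∈ z.1.asIdeal ↔ _
  rw [← h1]
  change algebraMap B (BI (JB B)) (φB hB s) ∈ (cl (pI (JB B)) z).asIdeal ↔ _
  rw [algebraMap_φB, mem_cl_iff, pullB_apply, θB_mem_maximalIdeal_iff]
  rfl

theorem isWLocalMap_φB :
    ProEtW.IsWLocalMap (PrimeSpectrum.comap (φB (A := A) hB).toRingHom) := by
  refine ⟨isSpectralMap_comap _, fun x hx => ?_⟩
  have hxz : x ∈ PrimeSpectrum.zeroLocus (R := B) (JB B) := by rw [zeroLocus_JB hB]; exact hx
  have := comap_φB (A := A) hB ⟨x, hxz⟩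
  rw [this]
  exact (isClosed_singleton_iff isConsContinuous_toSpec clopenBasis_cons _).2 ⟨_, rfl⟩

theorem φB_unique (φ' : Aw A →ₐ[A] B)
    (hφ' : ProEtW.IsWLocalMap (PrimeSpectrum.comap φ'.toRingHom)) : φ' = φB hB := by
  haveI : CompactSpace (VI (JB B)) := (isProfinite_JB hB).1
  refine AlgHom.ext fun s => ?_
  apply algebraMap_BI_injective hB
  rw [algebraMap_φB]
  refine ext_ev fun z => ?_
  rw [AlgHom.commutes, pullB_apply]
  obtain ⟨W, hW, a, d, hpW, h⟩ := exists_clopen_frac clopenBasis_cons s (ρB (A := A) z)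
  have h0 : idem _ W hW * (algebraMap A (Aw A) d * s - algebraMap A (Aw A) a) = 0 := by
    refine ext_ev fun m => ?_
    rw [map_mul, map_zero]
    by_cases hm : m ∈ W
    · rw [map_sub, map_mul, AlgHom.commutes, AlgHom.commutes, (h m hm).2, sub_self, mul_zero]
    · rw [ev_idem_of_notMem hW hm, zero_mul]
  have h1 := congrArg φ' h0
  rw [map_mul, map_zero, map_sub, map_mul, AlgHom.commutes, AlgHom.commutes] at h1
  have hcl : PrimeSpectrum.comap φ'.toRingHom z.1 = cl Cons.toSpec (ρB (A := A) z) := by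
    have hz : IsClosed ({z.1} : Set (PrimeSpectrum B)) := isClosed_of_mem_zeroLocus_JB hB z.1 z.2
    obtain ⟨p', hp'⟩ := (isClosed_singleton_iff isConsContinuous_toSpec clopenBasis_cons _).1
      (hφ'.2 z.1 hz)
    have hpp : p' = ρB (A := A) z := by
      have h2 := congrArg (PrimeSpectrum.comap (algebraMap A (Aw A))) hp'
      rw [comap_algebraMap_cl] at h2
      change p' = PrimeSpectrum.comap (algebraMap A B) z.1
      change _ = p' at h2
      rw [← h2]
      refine PrimeSpectrum.ext (Ideal.ext fun a => ?_)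
      change φ' (algebraMap A _ a) ∈ z.1.asIdeal ↔ algebraMap A B a ∈ z.1.asIdeal
      rw [AlgHom.commutes]
    rw [hp', hpp]
  have hidem : φ' (idem _ W hW) ∉ z.1.asIdeal := by
    intro hmem
    have hmem' : idem _ W hW ∈ (PrimeSpectrum.comap φ'.toRingHom z.1).asIdeal := hmem
    rw [hcl, mem_cl_iff, ev_idem_of_mem hW hpW] at hmem'
    exact (IsLocalRing.maximalIdeal.isMaximal _).ne_top ((Ideal.eq_top_iff_one _).2 hmem')
  have h2 := congrArg (algebraMap B (Localization (primeFamily (pI (JB B)) z))) h1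
  rw [map_mul, map_zero, map_sub, map_mul] at h2
  have hunit : IsUnit (algebraMap B (Localization (primeFamily (pI (JB B)) z))
      (φ' (idem _ W hW))) :=
    isUnit_algebraMap_of_mem (S := primeFamily (pI (JB B))) hidem
  have h3 := hunit.mul_right_eq_zero.1 h2
  have h4 := congrArg (θB z) (h (ρB (A := A) z) hpW).2
  rw [map_mul, θB_algebraMap, θB_algebraMap] at h4
  have hd : algebraMap A B d ∈ primeFamily (pI (JB B)) z := hcompat z (h _ hpW).1
  refine (isUnit_algebraMap_of_mem (S := primeFamily (pI (JB B))) hd).mul_left_cancel ?_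
  rw [sub_eq_zero] at h3
  rw [h3]
  exact h4.symm

end Univ

end Groth.Agent.Lib.Helper4.LocSec
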