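import Mathlib
import Groth.Prelude
import Groth.Agent.Lib.Helper4.LocSecAlgRes

/-!
# Quasi-finite finitely presented algebras over extremally disconnected bases (helper4)
-/

set_option autoImplicit false
set_option linter.style.haveILetI false
universe u
open TensorProduct Topology

namespace Groth.Agent.Lib.Helper4.QFED

section Top

variable {X : Type*} [TopologicalSpace X]

theorem isClopen_of_isConstructible [CompactSpace X] [T2Space X] {s : Set X}
    (hs : IsConstructible s) : IsClopen s := by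
  induction hs using IsConstructible.empty_union_induction with
  | open_retrocompact U hU hUc =>
    have : IsCompact U := by
      have := hUc isCompact_univ isOpen_univ
      rwa [Set.inter_univ] at this
    exact ⟨this.isClosed, hU⟩
  | union s _ t _ hs ht => exact hs.union ht
  | compl s _ hs => exact hs.compl

theorem extremallyDisconnected_of_isClopen [ExtremallyDisconnected X] {Z : Set X}
    (hZ : IsClopen Z) : ExtremallyDisconnected Z := by
  refine ⟨fun U hU => ?_⟩
  have hemb : IsClosedEmbedding (Subtype.val : Z → X) := hZ.1.isClosedEmbedding_subtypeVal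
  have hopen : IsOpenEmbedding (Subtype.val : Z → X) := hZ.2.isOpenEmbedding_subtypeVal
  have h1 : IsOpen (Subtype.val '' U) := hopen.isOpenMap U hU
  have h2 : IsOpen (closure (Subtype.val '' U)) := ExtremallyDisconnected.open_closure _ h1
  have h3 : closure U = Subtype.val ⁻¹' (closure (Subtype.val '' U)) :=
    hemb.isEmbedding.closure_eq_preimage_closure_image U
  rw [h3]
  exact h2.preimage continuous_subtype_val

theorem extremallyDisconnected_of_cover
    (h : ∀ x : X, ∃ W : Set X, IsClopen W ∧ x ∈ W ∧ ExtremallyDisconnected W) :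
    ExtremallyDisconnected X := by
  refine ⟨fun U hU => ?_⟩
  rw [isOpen_iff_forall_mem_open]
  intro x hx
  obtain ⟨W, hW, hxW, hWed⟩ := h x
  have hemb : IsClosedEmbedding (Subtype.val : W → X) := hW.1.isClosedEmbedding_subtypeVal
  have hopen : IsOpenEmbedding (Subtype.val : W → X) := hW.2.isOpenEmbedding_subtypeVal
  -- `closure U ∩ W` is open
  have h1 : IsOpen (closure (Subtype.val ⁻¹' U : Set W)) :=
    hWed.open_closure _ (hU.preimage continuous_subtype_val)
  have h2 : IsOpen (Subtype.val '' (closure (Subtype.val ⁻¹' U : Set W))) :=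
    hopen.isOpenMap _ h1
  have h3 : Subtype.val '' (closure (Subtype.val ⁻¹' U : Set W)) = closure (U ∩ W) := by
    rw [← hemb.closure_image_eq, Subtype.image_preimage_coe, Set.inter_comm]
  rw [h3] at h2
  refine ⟨closure (U ∩ W), closure_mono Set.inter_subset_left, h2, ?_⟩
  have := hW.2.inter_closure (t := U)
  exact closure_mono (by rw [Set.inter_comm]) (this ⟨hxW, hx⟩)

end Top

section ZeroDim

theorem t2Space_of_forall_isMaximal {C : Type u} [CommRing C]
    (h : ∀ P : Ideal C, P.IsPrime → P.IsMaximal) : T2Space (PrimeSpectrum C) := by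
  have hprof := Groth.Agent.Lib.Helper4.LocSec.isProfinite_of_subset_closedPoints
    (R := C) Set.univ isClosed_univ
    (fun z _ => (PrimeSpectrum.isClosed_singleton_iff_isMaximal z).2 (h _ z.2))
  haveI : T2Space (Set.univ : Set (PrimeSpectrum C)) := hprof.2.1
  exact (Homeomorph.Set.univ (PrimeSpectrum C)).symm.isEmbedding.t2Space

theorem forall_isMaximal_of_t2 {A : Type*} [CommRing A] [T2Space (PrimeSpectrum A)] :
    ∀ p : Ideal A, p.IsPrime → p.IsMaximal := fun p hp =>
  (PrimeSpectrum.isClosed_singleton_iff_isMaximal ⟨p, hp⟩).1 isClosed_singleton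

theorem forall_isMaximal_of_quasiFinite {A C : Type*} [CommRing A] [CommRing C] [Algebra A C]
    [Algebra.QuasiFinite A C] (hA : ∀ p : Ideal A, p.IsPrime → p.IsMaximal) :
    ∀ P : Ideal C, P.IsPrime → P.IsMaximal := by
  intro P hP
  obtain ⟨M, hM, hPM⟩ := Ideal.exists_le_maximal P hP.ne_top
  haveI := hM.isPrime
  have hp : (P.under A).IsMaximal := hA _ (Ideal.IsPrime.under A P)
  have hle : P.under A ≤ M.under A := Ideal.comap_mono hPM
  have heq : P.under A = M.under A := hp.eq_of_le (Ideal.IsPrime.under A M).ne_top hle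
  rw [Algebra.QuasiFinite.eq_of_le_of_under_eq (R := A) P M hPM heq]
  exact hM

end ZeroDim

section FibreProduct

variable {R S T : Type u} [CommRing R] [CommRing S] [CommRing T] [Algebra R S] [Algebra R T]

/-- `Spec (S ⊗[R] T) → Spec S ×_{Spec R} Spec T` is surjective. -/
theorem exists_prime_tensorProduct (q₁ : Ideal S) [q₁.IsPrime] (q₂ : Ideal T) [q₂.IsPrime]
    (h : q₁.comap (algebraMap R S) = q₂.comap (algebraMap R T)) :
    ∃ P : Ideal (S ⊗[R] T), P.IsPrime ∧
      P.comap (Algebra.TensorProduct.includeLeft : S →ₐ[R] S ⊗[R] T).toRingHom = q₁ ∧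
      P.comap (Algebra.TensorProduct.includeRight : T →ₐ[R] S ⊗[R] T).toRingHom = q₂ := by
  set p : Ideal R := q₁.comap (algebraMap R S) with hp
  letI a₁ : Algebra p.ResidueField q₁.ResidueField :=
    (Ideal.ResidueField.map p q₁ (algebraMap R S) rfl).toAlgebra
  letI a₂ : Algebra p.ResidueField q₂.ResidueField :=
    (Ideal.ResidueField.map p q₂ (algebraMap R T) h).toAlgebra
  let K := q₁.ResidueField ⊗[p.ResidueField] q₂.ResidueField
  haveI : Nontrivial K :=
    Algebra.TensorProduct.nontrivial_of_algebraMap_injective_of_flat_left _ _ _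
      (algebraMap p.ResidueField q₂.ResidueField).injective
  obtain ⟨𝔪, h𝔪⟩ := Ideal.exists_maximal K
  let f₁ : S →+* K := (Algebra.TensorProduct.includeLeft :
    q₁.ResidueField →ₐ[p.ResidueField] K).toRingHom.comp (algebraMap S q₁.ResidueField)
  let f₂ : T →+* K := (Algebra.TensorProduct.includeRight :
    q₂.ResidueField →ₐ[p.ResidueField] K).toRingHom.comp (algebraMap T q₂.ResidueField)
  have hf : ∀ r : R, f₁ (algebraMap R S r) = f₂ (algebraMap R T r) := by
    intro r
    have h1 : algebraMap S q₁.ResidueField (algebraMap R S r) =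
        algebraMap p.ResidueField q₁.ResidueField (algebraMap R p.ResidueField r) := by
      rw [RingHom.algebraMap_toAlgebra, Ideal.ResidueField.map_algebraMap]
    have h2 : algebraMap T q₂.ResidueField (algebraMap R T r) =
        algebraMap p.ResidueField q₂.ResidueField (algebraMap R p.ResidueField r) := by
      rw [RingHom.algebraMap_toAlgebra, Ideal.ResidueField.map_algebraMap]
    simp only [f₁, f₂, RingHom.comp_apply, h1, h2]
    simp only [AlgHom.toRingHom_eq_coe, RingHom.coe_coe, AlgHom.commutes]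
  have hg₁ : ∀ r : R, f₁ (algebraMap R S r) = algebraMap R K r := by
    intro r
    simp only [f₁, RingHom.comp_apply, AlgHom.toRingHom_eq_coe, RingHom.coe_coe,
      Algebra.TensorProduct.includeLeft_apply]
    rw [← IsScalarTower.algebraMap_apply R S q₁.ResidueField]
    exact (Algebra.TensorProduct.algebraMap_apply (R := p.ResidueField) (S := R)
      (A := q₁.ResidueField) (B := q₂.ResidueField) r).symm
  let g₁ : S →ₐ[R] K := { f₁ with commutes' := hg₁ }
  let g₂ : T →ₐ[R] K := { f₂ with commutes' := fun r => (hf r).symm.trans (hg₁ r) }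
  let φ : S ⊗[R] T →ₐ[R] K := Algebra.TensorProduct.lift g₁ g₂ (fun _ _ => Commute.all _ _)
  haveI := h𝔪.isPrime
  refine ⟨𝔪.comap φ.toRingHom, Ideal.IsPrime.comap _, ?_, ?_⟩
  · rw [Ideal.comap_comap]
    have h1 : φ.toRingHom.comp (Algebra.TensorProduct.includeLeft : S →ₐ[R] S ⊗[R] T).toRingHom
        = f₁ := by
      ext s
      simp [φ, g₁]
    rw [h1, ← Ideal.comap_comap]
    have h2 : 𝔪.comap (Algebra.TensorProduct.includeLeft :
        q₁.ResidueField →ₐ[p.ResidueField] K).toRingHom = ⊥ :=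
      Ideal.eq_bot_of_prime _
    rw [h2, ← RingHom.ker_eq_comap_bot, Ideal.ker_algebraMap_residueField]
  · rw [Ideal.comap_comap]
    have h1 : φ.toRingHom.comp (Algebra.TensorProduct.includeRight : T →ₐ[R] S ⊗[R] T).toRingHom
        = f₂ := by
      ext s
      simp [φ, g₂]
    rw [h1, ← Ideal.comap_comap]
    have h2 : 𝔪.comap (Algebra.TensorProduct.includeRight :
        q₂.ResidueField →ₐ[p.ResidueField] K).toRingHom = ⊥ :=
      Ideal.eq_bot_of_prime _
    rw [h2, ← RingHom.ker_eq_comap_bot, Ideal.ker_algebraMap_residueField]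

end FibreProduct

section Insep

variable {A B : Type u} [CommRing A] [CommRing B] [Algebra A B] [Algebra.QuasiFinite A B]

/-- If all residue fields of `A` are separably closed and `B` is quasi-finite over `A`, any prime of
`B ⊗[A] B` lying over `(q, q)` contains the diagonal ideal. -/
theorem tmul_sub_tmul_mem_of_comap_eq
    (hres : ∀ p : PrimeSpectrum A, IsSepClosed p.asIdeal.ResidueField)
    (P : Ideal (B ⊗[A] B)) [P.IsPrime] (q : Ideal B) [q.IsPrime]
    (h1 : P.comap (Algebra.TensorProduct.includeLeft : B →ₐ[A] B ⊗[A] B).toRingHom = q)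
    (h2 : P.comap (Algebra.TensorProduct.includeRight : B →ₐ[A] B ⊗[A] B).toRingHom = q)
    (b : B) : b ⊗ₜ[A] (1 : B) - (1 : B) ⊗ₜ[A] b ∈ P := by
  let L := P.ResidueField
  let ι : B ⊗[A] B →+* L := algebraMap (B ⊗[A] B) L
  have hι : RingHom.ker ι = P := Ideal.ker_algebraMap_residueField P
  let φ₁ : B →+* L := ι.comp (Algebra.TensorProduct.includeLeft : B →ₐ[A] B ⊗[A] B).toRingHom
  let φ₂ : B →+* L := ι.comp (Algebra.TensorProduct.includeRight : B →ₐ[A] B ⊗[A] B).toRingHom
  have hk₁ : RingHom.ker φ₁ = q := by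
    have : RingHom.ker φ₁ = (RingHom.ker ι).comap
        (Algebra.TensorProduct.includeLeft : B →ₐ[A] B ⊗[A] B).toRingHom :=
      (RingHom.comap_ker _ _).symm
    rw [this, hι, h1]
  have hk₂ : RingHom.ker φ₂ = q := by
    have : RingHom.ker φ₂ = (RingHom.ker ι).comap
        (Algebra.TensorProduct.includeRight : B →ₐ[A] B ⊗[A] B).toRingHom :=
      (RingHom.comap_ker _ _).symm
    rw [this, hι, h2]
  set p : Ideal A := q.comap (algebraMap A B) with hp
  haveI : q.LiesOver p := ⟨rfl⟩
  letI := Localization.AtPrime.algebraOfLiesOver p q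
  haveI : IsSepClosed p.ResidueField := hres ⟨p, inferInstance⟩
  haveI : Module.Finite p.ResidueField q.ResidueField := inferInstance
  haveI : Algebra.IsAlgebraic p.ResidueField q.ResidueField := inferInstance
  haveI : IsPurelyInseparable p.ResidueField q.ResidueField := inferInstance
  have hu : ∀ (φ : B →+* L), RingHom.ker φ = q →
      q.primeCompl ≤ (IsUnit.submonoid L).comap φ := by
    intro φ hφ x hx
    rw [Submonoid.mem_comap, IsUnit.mem_submonoid_iff, isUnit_iff_ne_zero]
    intro h0
    exact hx (hφ ▸ (RingHom.mem_ker.2 h0))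
  let ψ₁ : q.ResidueField →+* L := Ideal.ResidueField.lift q φ₁ hk₁.ge (hu φ₁ hk₁)
  let ψ₂ : q.ResidueField →+* L := Ideal.ResidueField.lift q φ₂ hk₂.ge (hu φ₂ hk₂)
  have hψ : ψ₁.comp (algebraMap p.ResidueField q.ResidueField) =
      ψ₂.comp (algebraMap p.ResidueField q.ResidueField) := by
    apply Ideal.ResidueField.ringHom_ext
    ext a
    simp only [RingHom.comp_apply]
    rw [← IsScalarTower.algebraMap_apply A p.ResidueField q.ResidueField,
      IsScalarTower.algebraMap_apply A B q.ResidueField]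
    simp only [ψ₁, ψ₂, Ideal.ResidueField.lift_algebraMap, φ₁, φ₂, RingHom.comp_apply,
      AlgHom.toRingHom_eq_coe, RingHom.coe_coe, Algebra.TensorProduct.includeLeft_apply,
      Algebra.TensorProduct.includeRight_apply]
    congr 1
    rw [Algebra.algebraMap_eq_smul_one, TensorProduct.smul_tmul]
  have hψeq : ψ₁ = ψ₂ :=
    IsPurelyInseparable.injective_comp_algebraMap p.ResidueField q.ResidueField L hψ
  have hφ : φ₁ b = φ₂ b := by
    have e1 : ψ₁ (algebraMap B q.ResidueField b) = φ₁ b := Ideal.ResidueField.lift_algebraMap _ _ _ _ _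
    have e2 : ψ₂ (algebraMap B q.ResidueField b) = φ₂ b := Ideal.ResidueField.lift_algebraMap _ _ _ _ _
    rw [← e1, ← e2, hψeq]
  rw [← hι, RingHom.mem_ker, map_sub, sub_eq_zero]
  exact hφ

end Insep

section Main

variable (A B : Type u) [CommRing A] [CommRing B] [Algebra A B] [Algebra.QuasiFinite A B]
  [Algebra.FinitePresentation A B]

theorem extremallyDisconnected_of_quasiFinite
    (hres : ∀ p : PrimeSpectrum A, IsSepClosed p.asIdeal.ResidueField)
    [T2Space (PrimeSpectrum A)] [ExtremallyDisconnected (PrimeSpectrum A)] :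
    ExtremallyDisconnected (PrimeSpectrum B) := by
  have hA := forall_isMaximal_of_t2 (A := A)
  haveI : T2Space (PrimeSpectrum B) :=
    t2Space_of_forall_isMaximal (forall_isMaximal_of_quasiFinite (A := A) hA)
  haveI : Algebra.QuasiFinite A (B ⊗[A] B) := Algebra.QuasiFinite.trans A B (B ⊗[A] B)
  haveI : T2Space (PrimeSpectrum (B ⊗[A] B)) :=
    t2Space_of_forall_isMaximal (forall_isMaximal_of_quasiFinite (A := A) hA)
  -- the diagonal is clopen
  set I : Ideal (B ⊗[A] B) := KaehlerDifferential.ideal A B with hI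
  have hIfg : I.FG := KaehlerDifferential.ideal_fg A B
  have hOopen : IsOpen (PrimeSpectrum.zeroLocus (I : Set (B ⊗[A] B))) := by
    have h1 : IsCompact (PrimeSpectrum.zeroLocus (I : Set (B ⊗[A] B)))ᶜ :=
      (PrimeSpectrum.isCompact_isOpen_iff_ideal.2 ⟨I, hIfg, rfl⟩).1
    have := h1.isClosed.isOpen_compl
    rwa [compl_compl] at this
  have hImem : ∀ b : B, b ⊗ₜ[A] (1 : B) - (1 : B) ⊗ₜ[A] b ∈ I := by
    intro b
    have h0 : (1 : B) ⊗ₜ[A] b - b ⊗ₜ[A] (1 : B) ∈ I :=
      KaehlerDifferential.one_smul_sub_smul_one_mem_ideal A b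
    rw [← neg_sub]
    exact I.neg_mem h0
  let iL : B →+* B ⊗[A] B := (Algebra.TensorProduct.includeLeft : B →ₐ[A] B ⊗[A] B).toRingHom
  let iR : B →+* B ⊗[A] B := (Algebra.TensorProduct.includeRight : B →ₐ[A] B ⊗[A] B).toRingHom
  let g : PrimeSpectrum (B ⊗[A] B) → PrimeSpectrum B × PrimeSpectrum B := fun P =>
    (PrimeSpectrum.comap iL P, PrimeSpectrum.comap iR P)
  have hg : Continuous g :=
    (PrimeSpectrum.continuous_comap iL).prodMk (PrimeSpectrum.continuous_comap iR)
  have hgclosed : IsClosedMap g := hg.isClosedMap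
  apply extremallyDisconnected_of_cover
  intro q
  -- the open neighbourhood `N` of `(q, q)`
  set O : Set (PrimeSpectrum (B ⊗[A] B)) := PrimeSpectrum.zeroLocus (I : Set (B ⊗[A] B)) with hO
  have hN : IsOpen (g '' Oᶜ)ᶜ := (hgclosed _ hOopen.isClosed_compl).isOpen_compl
  have hqN : (q, q) ∈ (g '' Oᶜ)ᶜ := by
    rintro ⟨P, hP, hPq⟩
    apply hP
    rw [hO, PrimeSpectrum.mem_zeroLocus]
    have h1 : P.asIdeal.comap iL = q.asIdeal := congrArg (fun z => (z.1).asIdeal) hPq
    have h2 : P.asIdeal.comap iR = q.asIdeal := congrArg (fun z => (z.2).asIdeal) hPq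
    rw [SetLike.coe_subset_coe, hI, ← KaehlerDifferential.span_range_eq_ideal, Ideal.span_le]
    rintro _ ⟨b, rfl⟩
    have := tmul_sub_tmul_mem_of_comap_eq hres P.asIdeal q.asIdeal h1 h2 b
    show (1 : B) ⊗ₜ[A] b - b ⊗ₜ[A] (1 : B) ∈ P.asIdeal
    rw [← neg_sub]
    exact P.asIdeal.neg_mem this
  obtain ⟨W₁, W₂, hW₁, hW₂, hq₁, hq₂, hWN⟩ := isOpen_prod_iff.1 hN q q hqN
  obtain ⟨_, ⟨f, rfl⟩, hqf, hfW⟩ :=
    PrimeSpectrum.isTopologicalBasis_basic_opens.exists_subset_of_mem_open
      (show q ∈ W₁ ∩ W₂ from ⟨hq₁, hq₂⟩) (hW₁.inter hW₂)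
  set W : Set (PrimeSpectrum B) := (PrimeSpectrum.basicOpen f : Set (PrimeSpectrum B)) with hW
  have hWclopen : IsClopen W :=
    ⟨(PrimeSpectrum.isCompact_basicOpen f).isClosed, (PrimeSpectrum.basicOpen f).2⟩
  let π : PrimeSpectrum B → PrimeSpectrum A := PrimeSpectrum.comap (algebraMap A B)
  have hπ : Continuous π := PrimeSpectrum.continuous_comap _
  -- injectivity on `W`
  have hinj : Set.InjOn π W := by
    intro q₁ h₁ q₂ h₂ h12
    have h12' : q₁.asIdeal.comap (algebraMap A B) = q₂.asIdeal.comap (algebraMap A B) :=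
      congrArg PrimeSpectrum.asIdeal h12
    obtain ⟨P, hP, hP1, hP2⟩ := exists_prime_tensorProduct q₁.asIdeal q₂.asIdeal h12'
    have hgP : g ⟨P, hP⟩ = (q₁, q₂) :=
      Prod.ext (PrimeSpectrum.ext hP1) (PrimeSpectrum.ext hP2)
    have hPO : (⟨P, hP⟩ : PrimeSpectrum (B ⊗[A] B)) ∈ O := by
      by_contra hcon
      have : (q₁, q₂) ∈ (g '' Oᶜ)ᶜ := hWN ⟨(hfW h₁).1, (hfW h₂).2⟩
      exact this ⟨⟨P, hP⟩, hcon, hgP⟩
    rw [hO, PrimeSpectrum.mem_zeroLocus] at hPO
    refine PrimeSpectrum.ext (Ideal.ext fun b => ?_)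
    have hb := hPO (hImem b)
    rw [← hP1, ← hP2, Ideal.mem_comap, Ideal.mem_comap]
    change b ⊗ₜ[A] (1 : B) ∈ P ↔ (1 : B) ⊗ₜ[A] b ∈ P
    constructor
    · intro h
      have := P.sub_mem h hb
      rwa [sub_sub_cancel] at this
    · intro h
      have := P.add_mem hb h
      rwa [sub_add_cancel] at this
  -- the image is clopen
  have hcons : IsConstructible (π '' W) :=
    PrimeSpectrum.isConstructible_comap_image
      (RingHom.finitePresentation_algebraMap.mpr inferInstance)
      PrimeSpectrum.isConstructible_basicOpen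
  have himclopen : IsClopen (π '' W) := isClopen_of_isConstructible hcons
  haveI : ExtremallyDisconnected (π '' W) := extremallyDisconnected_of_isClopen himclopen
  haveI : CompactSpace W := isCompact_iff_compactSpace.1 (PrimeSpectrum.isCompact_basicOpen f)
  -- the homeomorphism
  let e : W ≃ (π '' W) := Equiv.ofBijective (fun w => ⟨π w.1, ⟨w.1, w.2, rfl⟩⟩) ⟨by
      intro w w' h
      exact Subtype.ext (hinj w.2 w'.2 (congrArg Subtype.val h)), by
      rintro ⟨_, ⟨w, hw, rfl⟩⟩
      exact ⟨⟨w, hw⟩, rfl⟩⟩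
  have he : Continuous e := (hπ.comp continuous_subtype_val).subtype_mk _
  let eh : W ≃ₜ (π '' W) := he.homeoOfEquivCompactToT2
  exact ⟨W, hWclopen, hqf, extremallyDisconnected_of_homeo eh.symm⟩

end Main

end Groth.Agent.Lib.Helper4.QFED
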