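import Mathlib

/-!
# Connected components of spectral spaces (helper4)

* `connectedComponent_eq_iInter_isClopen_of_spectral`: in a quasi-compact quasi-separated space with
  a basis of quasi-compact opens, connected components are intersections of clopen sets
  (Stacks 04PL).
* `t2Space_connectedComponents`: `π₀` of such a space is Hausdorff (hence profinite).
* `exists_isClopen_of_isClosed_connectedComponents`: preimages of closed subsets of `π₀` are
  intersections of clopens.
-/

open Set Topology TopologicalSpace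

namespace Groth.Agent.Lib.Helper4.SpectralPi0

variable {X : Type*} [TopologicalSpace X]

/-- a clopen `s ⊆ u ∪ v` with `s ∩ u ∩ v = ∅` (with `u`, `v` open) has `s ∩ u` clopen -/
theorem isClopen_inter_of_cover {s u v : Set X} (hs : IsClopen s) (hu : IsOpen u) (hv : IsOpen v)
    (hcov : s ⊆ u ∪ v) (hdis : s ∩ (u ∩ v) = ∅) : IsClopen (s ∩ u) := by
  refine ⟨?_, hs.2.inter hu⟩
  have : s ∩ u = s ∩ vᶜ := by
    ext p
    constructor
    · rintro ⟨hp, hpu⟩
      refine ⟨hp, fun hpv => ?_⟩
      have : p ∈ s ∩ (u ∩ v) := ⟨hp, hpu, hpv⟩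
      rw [hdis] at this
      exact this
    · rintro ⟨hp, hpv⟩
      exact ⟨hp, (hcov hp).resolve_right hpv⟩
  rw [this]
  exact hs.1.inter hv.isClosed_compl

/-- **Stacks 04PL**: in a quasi-compact, quasi-separated space with a basis of quasi-compact opens,
the connected component of a point is the intersection of its clopen neighbourhoods. -/
theorem connectedComponent_eq_iInter_isClopen_of_spectral [CompactSpace X] [QuasiSeparatedSpace X]
    [PrespectralSpace X] (x : X) :
    connectedComponent x = ⋂ s : { s : Set X // IsClopen s ∧ x ∈ s }, s := by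
  apply Subset.antisymm connectedComponent_subset_iInter_isClopen
  refine IsPreconnected.subset_connectedComponent ?_ (mem_iInter.2 fun s => s.2.2)
  have hs : IsClosed (⋂ s : { s : Set X // IsClopen s ∧ x ∈ s }, (s : Set X)) :=
    isClosed_iInter fun s => s.2.1.1
  rw [isPreconnected_iff_subset_of_fully_disjoint_closed hs]
  intro a b ha hb hab ab_disj
  -- quasi-compact opens `u ⊇ a`, `v ⊇ b` with `u ∩ b = ∅`, `v ∩ a = ∅`
  obtain ⟨u, huc, huo, hau, hub⟩ := PrespectralSpace.exists_isCompact_and_isOpen_between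
    ha.isCompact hb.isOpen_compl (fun p hp hpb => ab_disj.le_bot ⟨hp, hpb⟩)
  obtain ⟨v, hvc, hvo, hbv, hva⟩ := PrespectralSpace.exists_isCompact_and_isOpen_between
    hb.isCompact ha.isOpen_compl (fun p hp hpa => ab_disj.le_bot ⟨hpa, hp⟩)
  have huvc : IsCompact (u ∩ v) := huc.inter_of_isOpen hvc huo hvo
  -- a clopen neighbourhood of `x` missing `u ∩ v`
  obtain ⟨s₁, hs₁, hxs₁, hs₁uv⟩ : ∃ s : Set X, IsClopen s ∧ x ∈ s ∧ (u ∩ v) ∩ s = ∅ := by
    have H1 := huvc.inter_iInter_nonempty
      (fun s : { s : Set X // IsClopen s ∧ x ∈ s } => (s : Set X)) fun s => s.2.1.1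
    rw [← not_disjoint_iff_nonempty_inter, imp_not_comm, not_forall] at H1
    obtain ⟨si, H2⟩ := H1 (by
      rw [Set.disjoint_left]
      rintro p ⟨hpu, hpv⟩ hpS
      rcases hab hpS with hpa | hpb
      · exact hva hpv hpa
      · exact hub hpu hpb)
    refine ⟨⋂ U ∈ si, Subtype.val U, isClopen_biInter_finset fun s _ => s.2.1,
      mem_iInter₂.2 fun s _ => s.2.2, ?_⟩
    rwa [← not_nonempty_iff_eq_empty]
  -- a clopen neighbourhood of `x` inside `u ∪ v`
  obtain ⟨s₂, hs₂, hxs₂, hs₂uv⟩ : ∃ s : Set X, IsClopen s ∧ x ∈ s ∧ s ⊆ u ∪ v := by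
    have H1 := (huo.union hvo).isClosed_compl.isCompact.inter_iInter_nonempty
      (fun s : { s : Set X // IsClopen s ∧ x ∈ s } => (s : Set X)) fun s => s.2.1.1
    rw [← not_disjoint_iff_nonempty_inter, imp_not_comm, not_forall] at H1
    obtain ⟨si, H2⟩ :=
      H1 (disjoint_compl_left_iff_subset.2 <| hab.trans <| union_subset_union hau hbv)
    refine ⟨⋂ U ∈ si, Subtype.val U, isClopen_biInter_finset fun s _ => s.2.1,
      mem_iInter₂.2 fun s _ => s.2.2, ?_⟩
    rwa [← disjoint_compl_left_iff_subset, disjoint_iff_inter_eq_empty,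
      ← not_nonempty_iff_eq_empty]
  set s := s₁ ∩ s₂ with hsdef
  have hsclopen : IsClopen s := hs₁.inter hs₂
  have hxs : x ∈ s := ⟨hxs₁, hxs₂⟩
  have hscov : s ⊆ u ∪ v := inter_subset_right.trans hs₂uv
  have hsdis : s ∩ (u ∩ v) = ∅ := by
    rw [← subset_empty_iff, ← hs₁uv]
    rintro p ⟨⟨hp1, -⟩, hp2⟩
    exact ⟨hp2, hp1⟩
  have hsdis' : s ∩ (v ∩ u) = ∅ := by rw [inter_comm v u]; exact hsdis
  have H1 : IsClopen (s ∩ u) := isClopen_inter_of_cover hsclopen huo hvo hscov hsdis
  have H2 : IsClopen (s ∩ v) :=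
    isClopen_inter_of_cover hsclopen hvo huo (by rw [union_comm]; exact hscov) hsdis'
  by_cases hxu : x ∈ u
  · left
    have hSu : (⋂ s : { s : Set X // IsClopen s ∧ x ∈ s }, (s : Set X)) ⊆ u :=
      (iInter_subset (fun s : { s : Set X // IsClopen s ∧ x ∈ s } => s.1)
        ⟨s ∩ u, H1, hxs, hxu⟩).trans inter_subset_right
    intro p hp
    rcases hab hp with hpa | hpb
    · exact hpa
    · exact absurd hpb (hub (hSu hp))
  · right
    have hxv : x ∈ v := (hscov hxs).resolve_left hxu
    have hSv : (⋂ s : { s : Set X // IsClopen s ∧ x ∈ s }, (s : Set X)) ⊆ v :=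
      (iInter_subset (fun s : { s : Set X // IsClopen s ∧ x ∈ s } => s.1)
        ⟨s ∩ v, H2, hxs, hxv⟩).trans inter_subset_right
    intro p hp
    rcases hab hp with hpa | hpb
    · exact absurd hpa (hva (hSv hp))
    · exact hpb

/-- `π₀` of a quasi-compact quasi-separated prespectral space is Hausdorff. -/
theorem t2Space_connectedComponents [CompactSpace X] [QuasiSeparatedSpace X]
    [PrespectralSpace X] : T2Space (ConnectedComponents X) := by
  refine ⟨ConnectedComponents.surjective_coe.forall₂.2 fun a b ne => ?_⟩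
  rw [ConnectedComponents.coe_ne_coe] at ne
  have h := connectedComponent_disjoint ne
  rw [connectedComponent_eq_iInter_isClopen_of_spectral b, disjoint_iff_inter_eq_empty] at h
  obtain ⟨U, V, hU, ha, hb, rfl⟩ : ∃ (U : Set X) (V : Set (ConnectedComponents X)),
      IsClopen U ∧ connectedComponent a ∩ U = ∅ ∧ connectedComponent b ⊆ U ∧ (↑) ⁻¹' V = U := by
    have h :=
      (isClosed_connectedComponent (α := X)).isCompact.elim_finite_subfamily_closed
        _ (fun s : { s : Set X // IsClopen s ∧ b ∈ s } => s.2.1.1) h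
    obtain ⟨fin_a, ha⟩ := h
    set U : Set X := ⋂ (i : { s // IsClopen s ∧ b ∈ s }) (_ : i ∈ fin_a), i
    have hU : IsClopen U := isClopen_biInter_finset fun i _ => i.2.1
    exact ⟨U, (↑) '' U, hU, ha, subset_iInter₂ fun s _ => s.2.1.connectedComponent_subset s.2.2,
      (connectedComponents_preimage_image U).symm ▸ hU.biUnion_connectedComponent_eq⟩
  rw [ConnectedComponents.isQuotientMap_coe.isClopen_preimage] at hU
  refine ⟨Vᶜ, V, hU.compl.isOpen, hU.isOpen, ?_, hb mem_connectedComponent, disjoint_compl_left⟩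
  exact fun h => flip Set.Nonempty.ne_empty ha ⟨a, mem_connectedComponent, h⟩

/-- the preimage in `X` of a closed subset of `π₀ X` is an intersection of clopens -/
theorem exists_isClopen_of_notMem_preimage [CompactSpace X] [QuasiSeparatedSpace X]
    [PrespectralSpace X] {T : Set (ConnectedComponents X)} (hT : IsClosed T) {p : X}
    (hp : ConnectedComponents.mk p ∉ T) :
    ∃ s : Set X, IsClopen s ∧ ConnectedComponents.mk ⁻¹' T ⊆ s ∧ p ∉ s := by
  have : T2Space (ConnectedComponents X) := t2Space_connectedComponents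
  obtain ⟨U, hU, hpU, hUT⟩ := (isTopologicalBasis_isClopen
    (X := ConnectedComponents X)).exists_subset_of_mem_open (show ConnectedComponents.mk p ∈ Tᶜ
      from hp) hT.isOpen_compl
  refine ⟨ConnectedComponents.mk ⁻¹' Uᶜ, (hU.compl).preimage ConnectedComponents.continuous_coe,
    ?_, ?_⟩
  · intro q hq hqU
    exact hUT hqU hq
  · intro h
    exact h hpU

end Groth.Agent.Lib.Helper4.SpectralPi0
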