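import Mathlib
import Groth.Prelude.Def_EtBase
import Groth.Prelude.Def_ProEtW
import Groth.Agent.Lib.Helper4.FinHensel
import Groth.Agent.Lib.Helper4.QFExtrDisc
import Groth.Agent.Lib.Helper4.LocSecStone
import Groth.Agent.Lib.Helper4.LocSecUniv
import Groth.Agent.Lib.Helper4.SpectralPi0
import Groth.Agent.Lib.Helper4.WLocal

/-!
# Finite finitely presented algebras over w-contractible rings

Ingredients for Bhatt–Scholze 2.4.10: if `A` is w-local with extremally disconnected `π₀` and
strictly henselian local rings at closed points, the same holds for every finite, finitely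
presented `A`-algebra `B`.
-/

set_option autoImplicit false
set_option linter.style.haveILetI false

universe u

namespace Groth.Agent.Lib.Helper4.FinWContr

open Groth.Agent.Lib.Helper4 Groth.Agent.Lib.Helper4.LocSec Groth.Agent.Lib.Helper4.FinHensel
open Groth.Agent.Lib.Helper4.QFED TensorProduct Groth.Agent.Lib.Helper4.AlgRes

section Pi0

variable {A : Type u} [CommRing A]

/-- the closed points of a w-local spectrum are homeomorphic to `π₀` -/
theorem nonempty_homeo_pi0 (hw : ProEtW.IsWLocal (PrimeSpectrum A)) :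
    Nonempty (VI (JB A) ≃ₜ _root_.ConnectedComponents (PrimeSpectrum A)) := by
  have hprof := isProfinite_JB hw
  haveI : CompactSpace (VI (JB A)) := hprof.1
  haveI : T2Space (_root_.ConnectedComponents (PrimeSpectrum A)) :=
    SpectralPi0.t2Space_connectedComponents
  let f₀ : VI (JB A) → _root_.ConnectedComponents (PrimeSpectrum A) := fun z =>
    ConnectedComponents.mk z.1
  have hf₀ : Continuous f₀ := ConnectedComponents.continuous_coe.comp continuous_subtype_val
  have hf₀bij : Function.Bijective f₀ := by
    constructor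
    · intro z z' h
      exact Subtype.ext (WLocal.eq_of_mk_eq hw (isClosed_of_mem_zeroLocus_JB hw z.1 z.2)
        (isClosed_of_mem_zeroLocus_JB hw z'.1 z'.2) h)
    · intro c
      obtain ⟨y, rfl⟩ := ConnectedComponents.surjective_coe c
      obtain ⟨x, hx, -, hxy⟩ := WLocal.exists_closed_mk_eq hw y
      exact ⟨⟨x, by rw [zeroLocus_JB hw]; exact hx⟩, hxy⟩
  exact ⟨Continuous.homeoOfEquivCompactToT2 (f := Equiv.ofBijective f₀ hf₀bij) hf₀⟩

/-- `Spec (A/J) ≃ₜ V(J)` -/
theorem nonempty_homeo_quot (J : Ideal A) : Nonempty (PrimeSpectrum (A ⧸ J) ≃ₜ VI J) := by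
  have hemb := PrimeSpectrum.isClosedEmbedding_comap_of_surjective (A ⧸ J) (Ideal.Quotient.mk J)
    Ideal.Quotient.mk_surjective
  have hrange : Set.range (PrimeSpectrum.comap (Ideal.Quotient.mk J)) =
      PrimeSpectrum.zeroLocus (R := A) J := by
    rw [_root_.range_comap_of_surjective _ _ Ideal.Quotient.mk_surjective, Ideal.mk_ker]
  exact ⟨hemb.isEmbedding.toHomeomorph.trans (Homeomorph.setCongr hrange)⟩

end Pi0

section Fin

variable {A B : Type u} [CommRing A] [CommRing B] [Algebra A B] [Module.Finite A B]

theorem isClosed_singleton_iff_comap (q : PrimeSpectrum B) :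
    IsClosed ({q} : Set (PrimeSpectrum B)) ↔
      IsClosed ({PrimeSpectrum.comap (algebraMap A B) q} : Set (PrimeSpectrum A)) := by
  haveI : Algebra.IsIntegral A B := Algebra.IsIntegral.of_finite A B
  rw [PrimeSpectrum.isClosed_singleton_iff_isMaximal, PrimeSpectrum.isClosed_singleton_iff_isMaximal]
  constructor
  · intro h
    exact Ideal.isMaximal_comap_of_isIntegral_of_isMaximal (R := A) q.asIdeal
  · intro h
    exact Ideal.isMaximal_of_isIntegral_of_isMaximal_comap (R := A) q.asIdeal h

theorem isWLocal_of_finite (hwA : ProEtW.IsWLocal (PrimeSpectrum A))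
    (hhA : ∀ (m : Ideal A) [m.IsMaximal], HenselianLocalRing (Localization.AtPrime m)) :
    ProEtW.IsWLocal (PrimeSpectrum B) := by
  refine ⟨inferInstance, ?_, ?_⟩
  · have : {x : PrimeSpectrum B | IsClosed ({x} : Set (PrimeSpectrum B))} =
        PrimeSpectrum.comap (algebraMap A B) ⁻¹'
          {x : PrimeSpectrum A | IsClosed ({x} : Set (PrimeSpectrum A))} := by
      ext q
      exact isClosed_singleton_iff_comap q
    rw [this]
    exact hwA.2.1.preimage (PrimeSpectrum.continuous_comap _)
  · intro q
    obtain ⟨n, hn, hqn⟩ := Ideal.exists_le_maximal q.asIdeal q.2.ne_top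
    haveI := hn.isPrime
    refine ⟨⟨n, inferInstance⟩, ⟨(PrimeSpectrum.isClosed_singleton_iff_isMaximal _).2 hn,
      (PrimeSpectrum.le_iff_specializes _ _).1 hqn⟩, ?_⟩
    rintro n' ⟨hn'c, hqn'⟩
    have hn' : n'.asIdeal.IsMaximal := (PrimeSpectrum.isClosed_singleton_iff_isMaximal _).1 hn'c
    have hqn'' : q.asIdeal ≤ n'.asIdeal := (PrimeSpectrum.le_iff_specializes _ _).2 hqn'
    -- the images in `Spec A`
    set π := PrimeSpectrum.comap (algebraMap A B) with hπ
    have hπcont : Continuous π := PrimeSpectrum.continuous_comap _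
    have h1 : IsClosed ({π ⟨n, inferInstance⟩} : Set (PrimeSpectrum A)) :=
      (isClosed_singleton_iff_comap _).1 ((PrimeSpectrum.isClosed_singleton_iff_isMaximal _).2 hn)
    have h2 : IsClosed ({π n'} : Set (PrimeSpectrum A)) := (isClosed_singleton_iff_comap _).1 hn'c
    have hs1 : π q ⤳ π ⟨n, inferInstance⟩ :=
      ((PrimeSpectrum.le_iff_specializes _ _).1 hqn).map hπcont
    have hs2 : π q ⤳ π n' := hqn'.map hπcont
    have heq : π n' = π ⟨n, inferInstance⟩ :=
      (hwA.2.2 (π q)).unique ⟨h2, hs2⟩ ⟨h1, hs1⟩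
    set m : Ideal A := (π ⟨n, inferInstance⟩).asIdeal with hm
    haveI hmmax : m.IsMaximal := (PrimeSpectrum.isClosed_singleton_iff_isMaximal _).1 h1
    haveI := hhA m
    have e1 : n.comap (algebraMap A B) = m := rfl
    have e2 : n'.asIdeal.comap (algebraMap A B) = m := by
      have := congrArg PrimeSpectrum.asIdeal heq
      exact this
    haveI := q.2
    have := eq_of_le_of_le_of_comap_eq m q.asIdeal n'.asIdeal n e2 e1 hqn'' hqn
    exact PrimeSpectrum.ext this

/-- residue fields of `A/J` at primes are separably closed when those of `A` at maximal ideals are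
and all primes of `A/J` are maximal -/
theorem isSepClosed_residueField_quot (J : Ideal A)
    (hsc : ∀ (m : Ideal A) [m.IsMaximal], IsSepClosed m.ResidueField)
    (hmax : ∀ p : Ideal (A ⧸ J), p.IsPrime → p.IsMaximal) (p : PrimeSpectrum (A ⧸ J)) :
    IsSepClosed p.asIdeal.ResidueField := by
  haveI : p.asIdeal.IsMaximal := hmax _ p.2
  haveI hm : (p.asIdeal.comap (Ideal.Quotient.mk J)).IsMaximal :=
    Ideal.comap_isMaximal_of_surjective _ Ideal.Quotient.mk_surjective
  haveI := hsc (p.asIdeal.comap (Ideal.Quotient.mk J))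
  have hbij := (RingHom.surjectiveOnStalks_of_surjective
    (Ideal.Quotient.mk_surjective (I := J))).residueFieldMap_bijective
    (p.asIdeal.comap (Ideal.Quotient.mk J)) p.asIdeal rfl
  exact isSepClosed_of_ringEquiv (RingEquiv.ofBijective _ hbij)

end Fin

section Main

variable (A B : Type u) [CommRing A] [CommRing B] [Algebra A B] [Module.Finite A B]
  [Algebra.FinitePresentation A B]

theorem extremallyDisconnected_pi0_of_finite (hwA : ProEtW.IsWLocal (PrimeSpectrum A))
    (hedA : ExtremallyDisconnected (_root_.ConnectedComponents (PrimeSpectrum A)))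
    (hsc : ∀ (m : Ideal A) [m.IsMaximal], IsSepClosed m.ResidueField)
    (hwB : ProEtW.IsWLocal (PrimeSpectrum B)) :
    ExtremallyDisconnected (_root_.ConnectedComponents (PrimeSpectrum B)) := by
  haveI : Algebra.IsIntegral A B := Algebra.IsIntegral.of_finite A B
  obtain ⟨eA⟩ := nonempty_homeo_pi0 hwA
  obtain ⟨eB⟩ := nonempty_homeo_pi0 hwB
  obtain ⟨eQ⟩ := nonempty_homeo_quot (JB A)
  haveI : T2Space (_root_.ConnectedComponents (PrimeSpectrum A)) :=
    SpectralPi0.t2Space_connectedComponents
  let A' := A ⧸ JB A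
  haveI : T2Space (PrimeSpectrum A') := (eQ.trans eA).symm.t2Space
  haveI : ExtremallyDisconnected (PrimeSpectrum A') :=
    extremallyDisconnected_of_homeo (eQ.trans eA).symm
  have hmax : ∀ p : Ideal A', p.IsPrime → p.IsMaximal := forall_isMaximal_of_t2
  have hres : ∀ p : PrimeSpectrum A', IsSepClosed p.asIdeal.ResidueField :=
    isSepClosed_residueField_quot (JB A) hsc hmax
  let B' := A' ⊗[A] B
  haveI : ExtremallyDisconnected (PrimeSpectrum B') :=
    extremallyDisconnected_of_quasiFinite A' B' hres
  -- `Spec B' ≃ₜ` closed points of `Spec B`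
  let ιB : B →+* B' := (Algebra.TensorProduct.includeRight : B →ₐ[A] A' ⊗[A] B).toRingHom
  have hιsurj : Function.Surjective ιB := by
    intro x
    induction x using TensorProduct.induction_on with
    | zero => exact ⟨0, map_zero _⟩
    | tmul a b =>
      obtain ⟨a, rfl⟩ := Ideal.Quotient.mk_surjective a
      refine ⟨a • b, ?_⟩
      show (1 : A') ⊗ₜ[A] (a • b) = _
      rw [TensorProduct.tmul_smul, TensorProduct.smul_tmul']
      congr 1
      rw [Algebra.smul_def, mul_one]; rfl
    | add x y hx hy =>
      obtain ⟨x, rfl⟩ := hx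
      obtain ⟨y, rfl⟩ := hy
      exact ⟨x + y, map_add _ _ _⟩
  have hemb := PrimeSpectrum.isClosedEmbedding_comap_of_surjective B' ιB hιsurj
  have hrange : Set.range (PrimeSpectrum.comap ιB) = PrimeSpectrum.zeroLocus (R := B) (JB B) := by
    rw [zeroLocus_JB hwB]
    ext q
    simp only [Set.mem_range, Set.mem_ofPred_eq]
    constructor
    · rintro ⟨P, rfl⟩
      rw [isClosed_singleton_iff_comap (A := A)]
      -- the image in `Spec A` comes from `Spec A'`
      have h1 : PrimeSpectrum.comap (algebraMap A B) (PrimeSpectrum.comap ιB P) =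
          PrimeSpectrum.comap (Ideal.Quotient.mk (JB A)) (PrimeSpectrum.comap
            (Algebra.TensorProduct.includeLeft : A' →ₐ[A] A' ⊗[A] B).toRingHom P) := by
        ext a
        simp only [PrimeSpectrum.comap_asIdeal, Ideal.mem_comap]
        have : ιB (algebraMap A B a) = (Algebra.TensorProduct.includeLeft : A' →ₐ[A] A' ⊗[A] B)
            (Ideal.Quotient.mk (JB A) a) := by
          show (1 : A') ⊗ₜ[A] (algebraMap A B a) = (Ideal.Quotient.mk (JB A) a) ⊗ₜ[A] (1 : B)
          rw [Algebra.algebraMap_eq_smul_one, TensorProduct.tmul_smul, TensorProduct.smul_tmul']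
          congr 1
          rw [Algebra.smul_def, mul_one]; rfl
        rw [this]; rfl
      rw [h1]
      exact PrimeSpectrum.comap_singleton_isClosed_of_surjective _ _ Ideal.Quotient.mk_surjective _
        isClosed_singleton
    · intro hq
      have hq' := (isClosed_singleton_iff_comap (A := A) q).1 hq
      have hmem : PrimeSpectrum.comap (algebraMap A B) q ∈
          PrimeSpectrum.zeroLocus (R := A) (JB A) := by
        rw [zeroLocus_JB hwA]; exact hq'
      -- the prime of `A'`
      obtain ⟨p', hp'⟩ : ∃ p' : PrimeSpectrum A', PrimeSpectrum.comap (Ideal.Quotient.mk (JB A)) p' =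
          PrimeSpectrum.comap (algebraMap A B) q := by
        have : PrimeSpectrum.comap (algebraMap A B) q ∈
            Set.range (PrimeSpectrum.comap (Ideal.Quotient.mk (JB A))) := by
          rw [_root_.range_comap_of_surjective _ _ Ideal.Quotient.mk_surjective, Ideal.mk_ker]
          exact hmem
        exact this
      haveI := p'.2
      haveI := q.2
      obtain ⟨P, hP, -, hP2⟩ := exists_prime_tensorProduct (R := A) (S := A') (T := B)
        p'.asIdeal q.asIdeal (congrArg PrimeSpectrum.asIdeal hp')
      exact ⟨⟨P, hP⟩, PrimeSpectrum.ext hP2⟩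
  let eB' : PrimeSpectrum B' ≃ₜ VI (JB B) :=
    hemb.isEmbedding.toHomeomorph.trans (Homeomorph.setCongr hrange)
  exact extremallyDisconnected_of_homeo (eB'.trans eB)

end Main

end Groth.Agent.Lib.Helper4.FinWContr
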