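import Mathlib
import Groth.Prelude.Def_EtBase
import Groth.Prelude.Def_EtCore
import Groth.Agent.Lib.Helper3.Hensel
import Groth.Agent.Lib.Helper61.SpreadOutFP
import Groth.Agent.Lib.Helper89.HensZMT4
import Groth.Agent.Lib.Helper4.SepClosedSite
import Groth.Agent.Lib.Helper4.QFExtrDisc
import Groth.Agent.Lib.Helper4.LocSec

/-!
# Étale sheaves on zero-dimensional affine schemes with separably closed residue fields (helper4)

* `henselianLocalRing_of_nil`: local rings with nil maximal ideal are henselian.
* `exists_stalk_section`, `exists_open_section`, `exists_local_section`: étale maps to such a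
  scheme have Zariski-local sections through any point.
* `clopenBasis`: such a scheme is profinite.
* `surjective_gsec`: global sections are exact (given local sections + profinite).
-/

set_option autoImplicit false
open CategoryTheory CategoryTheory.Limits AlgebraicGeometry Opposite

universe u

namespace Groth.Agent.Lib.Helper4.ZeroDimEt


/-- a local ring with nil maximal ideal is henselian -/
theorem henselianLocalRing_of_nil (R : Type*) [CommRing R] [IsLocalRing R]
    (h : ∀ x ∈ IsLocalRing.maximalIdeal R, IsNilpotent x) : HenselianLocalRing R where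
  is_henselian f hf a₀ h₁ h₂ := by
    have := Groth.Agent.Lib.Helper3.henselianRing_of_forall_isNilpotent (IsLocalRing.maximalIdeal R) h
    exact this.is_henselian f hf a₀ h₁ (h₂.map (Ideal.Quotient.mk _))

theorem isNilpotent_of_mem_maximalIdeal {X : Scheme.{u}} (h1 : ∀ s : X, IsClosed ({s} : Set X))
    (x : X) (r : X.presheaf.stalk x)
    (hr : r ∈ IsLocalRing.maximalIdeal (X.presheaf.stalk x)) : IsNilpotent r := by
  rw [nilpotent_iff_mem_prime]
  intro p hp
  let P : Spec (X.presheaf.stalk x) := ⟨p, hp⟩
  have hP : P = IsLocalRing.closedPoint (X.presheaf.stalk x) := by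
    apply (X.fromSpecStalk x).isEmbedding.injective
    have hmem : (X.fromSpecStalk x) P ∈ {y | y ⤳ x} := by
      rw [← Scheme.range_fromSpecStalk]
      exact ⟨P, rfl⟩
    have hsp : (X.fromSpecStalk x) P ⤳ x := hmem
    have hx : x ∈ closure {(X.fromSpecStalk x) P} := specializes_iff_mem_closure.1 hsp
    rw [(h1 _).closure_eq] at hx
    rw [Scheme.fromSpecStalk_closedPoint]
    exact hx.symm
  have : p = IsLocalRing.maximalIdeal (X.presheaf.stalk x) :=
    congrArg PrimeSpectrum.asIdeal hP
  rw [this]
  exact hr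

/-- a morphism from the spectrum of the local ring at `x` to an `X`-scheme, over `X` -/
theorem exists_stalk_section {X : Scheme.{u}} (h1 : ∀ s : X, IsClosed ({s} : Set X))
    (h2 : ∀ s : X, IsSepClosed (X.residueField s)) {U : Scheme.{u}} (f : U ⟶ X) [Etale f]
    (u : U) : ∃ g : Spec (X.presheaf.stalk (f u)) ⟶ U, g ≫ f = X.fromSpecStalk (f u) := by
  set x := f u with hx
  -- the fibre over `x`
  have := h2 x
  let pt : Spec (X.residueField x) := IsLocalRing.closedPoint (X.residueField x)
  obtain ⟨z, hz1, -⟩ := Scheme.Pullback.exists_preimage_pullback (f := f)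
    (g := X.fromSpecResidueField x) u pt
    (by rw [Scheme.fromSpecResidueField_apply])
  obtain ⟨σ, hσ, -⟩ := Groth.Agent.Lib.Helper4.SepClosedSite.exists_section
    (X.residueField x) (pullback.snd f (X.fromSpecResidueField x)) z
  let t₀ : Spec (X.residueField x) ⟶ U := σ ≫ pullback.fst f (X.fromSpecResidueField x)
  have ht₀ : t₀ ≫ f = X.fromSpecResidueField x := by
    have h := pullback.condition (f := f) (g := X.fromSpecResidueField x)
    calc t₀ ≫ f = σ ≫ (pullback.fst _ _ ≫ f) := Category.assoc _ _ _
      _ = σ ≫ (pullback.snd _ _ ≫ X.fromSpecResidueField x) := by rw [h]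
      _ = (σ ≫ pullback.snd _ _) ≫ X.fromSpecResidueField x := (Category.assoc _ _ _).symm
      _ = X.fromSpecResidueField x := by rw [hσ]; exact Category.id_comp _
  -- the local ring is henselian
  have : HenselianLocalRing (X.presheaf.stalk x) :=
    henselianLocalRing_of_nil _ (isNilpotent_of_mem_maximalIdeal h1 x)
  let t : Spec (CommRingCat.of (IsLocalRing.ResidueField (X.presheaf.stalk x))) ⟶
      pullback f (X.fromSpecStalk x) :=
    pullback.lift t₀ (Spec.map (CommRingCat.ofHom (IsLocalRing.residue (X.presheaf.stalk x))))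
      ht₀
  obtain ⟨s, hs1, -⟩ := @Groth.Agent.Lib.Helper89.HensZMT.exists_section (X.presheaf.stalk x) _ this _
    (pullback.snd f (X.fromSpecStalk x)) _ t (pullback.lift_snd _ _ _)
  refine ⟨s ≫ pullback.fst f (X.fromSpecStalk x), ?_⟩
  rw [Category.assoc, pullback.condition, ← Category.assoc, hs1]
  exact Category.id_comp _



theorem stalkClosedPointTo_eq {X : Scheme.{u}} (x : X) (k : Spec (X.presheaf.stalk x) ⟶ X)
    (hk : k = X.fromSpecStalk x)
    (hsp : x ⤳ k (IsLocalRing.closedPoint (X.presheaf.stalk x))) :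
    Scheme.stalkClosedPointTo k = X.presheaf.stalkSpecializes hsp := by
  subst hk
  rw [Scheme.stalkClosedPointTo_fromSpecStalk]
  rfl

/-- spreading out a morphism from the local scheme at `x` into a scheme locally of finite
presentation over `X` -/
theorem exists_open_section {X U : Scheme.{u}} (f : U ⟶ X) [LocallyOfFinitePresentation f] (x : X)
    (g : Spec (X.presheaf.stalk x) ⟶ U) (hg : g ≫ f = X.fromSpecStalk x) :
    ∃ (W : X.Opens) (_ : x ∈ W) (h : W.toScheme ⟶ U), h ≫ f = W.ι := by
  let y : U := g (IsLocalRing.closedPoint (X.presheaf.stalk x))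
  have e : (𝟙 X : X ⟶ X) x = f y := by
    change x = (g ≫ f) (IsLocalRing.closedPoint (X.presheaf.stalk x))
    rw [hg, Scheme.fromSpecStalk_closedPoint]
  obtain ⟨W, hxW, h, -, h2⟩ := Groth.Agent.Lib.Helper61.SpreadOutFP.spread_out_of_finitePresentation
    (𝟙 X) f e (Scheme.stalkClosedPointTo g) (by
      refine (Scheme.stalkClosedPointTo_comp g f).symm.trans ?_
      refine (stalkClosedPointTo_eq x (g ≫ f) hg (Inseparable.of_eq e).specializes).trans ?_
      have hid : (𝟙 X : X ⟶ X).stalkMap x = 𝟙 _ := Scheme.Hom.stalkMap_id X x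
      exact (Category.comp_id _).symm.trans (congrArg (_ ≫ ·) hid.symm))
  exact ⟨W, hxW, h, by rw [h2, Category.comp_id]⟩


/-- étale maps to a zero-dimensional affine scheme with separably closed residue fields have
Zariski-local sections -/
theorem exists_local_section {X : Scheme.{u}} (h1 : ∀ s : X, IsClosed ({s} : Set X))
    (h2 : ∀ s : X, IsSepClosed (X.residueField s)) (U : Scheme.{u}) (f : U ⟶ X) [Etale f]
    (u : U) : ∃ (W : X.Opens) (_ : f u ∈ W) (h : W.toScheme ⟶ U), h ≫ f = W.ι := by
  obtain ⟨g, hg⟩ := exists_stalk_section h1 h2 f u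
  exact exists_open_section f (f u) g hg


open Groth.Agent.Lib.Helper4.LocSec (ClopenBasis exists_partition)
open Groth.Agent.Lib.Helper4.SepClosedSite (mem_smallEtaleTopology_iff)

/-- the presheaf of sets underlying an abelian étale sheaf is a sheaf -/
theorem isSheaf_forget {X : Scheme.{u}} (F : EtCoh.Ab X) :
    Presieve.IsSheaf X.smallEtaleTopology (F.obj ⋙ forget AddCommGrpCat.{u + 1}) :=
  (isSheaf_iff_isSheaf_of_type _ _).1
    ((sheafCompose X.smallEtaleTopology (forget AddCommGrpCat.{u + 1})).obj F).2

set_option backward.isDefEq.respectTransparency.types false in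
/-- sections over an empty étale scheme are unique -/
theorem subsingleton_of_isEmpty {X : Scheme.{u}} (F : EtCoh.Ab X) (Z : X.Etale)
    [IsEmpty Z.left] : Subsingleton (ToType (F.obj.obj (op Z))) := by
  constructor
  intro a b
  have hS : (⊥ : Sieve Z) ∈ X.smallEtaleTopology Z := by
    rw [mem_smallEtaleTopology_iff]
    intro x
    exact isEmptyElim x
  exact ((isSheaf_forget F).isSeparated ⊥ hS).ext (fun Y f hf => hf.elim)

/-- the étale `X`-scheme of an open subscheme -/
noncomputable abbrev ofOpen {X : Scheme.{u}} (W : X.Opens) : X.Etale := Scheme.Etale.mk W.ι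

/-- the structure map to the terminal object -/
noncomputable abbrev toTop {X : Scheme.{u}} (V : X.Etale) : V ⟶ EtCoh.top X :=
  MorphismProperty.Over.homMk V.hom (Category.comp_id _) trivial

theorem hom_top_ext {X : Scheme.{u}} {V : X.Etale} (a b : V ⟶ EtCoh.top X) : a = b :=
  (EtCore.topIsTerminal X).hom_ext a b

set_option backward.isDefEq.respectTransparency.types false in
/-- If étale maps to `X` have Zariski-local sections and `X` is profinite, then global sections
are exact on abelian étale sheaves. -/
theorem surjective_gsec {X : Scheme.{u}} [CompactSpace X] (hcb : ClopenBasis X)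
    (hL : ∀ (U : Scheme.{u}) (f : U ⟶ X) [Etale f] (u : U),
      ∃ (W : X.Opens) (_ : f u ∈ W) (h : W.toScheme ⟶ U), h ≫ f = W.ι)
    {F G : EtCoh.Ab X} (e : F ⟶ G) [Epi e] :
    Function.Surjective (e.hom.app (op (EtCoh.top X))) := by
  intro s
  have hls : Presheaf.IsLocallySurjective X.smallEtaleTopology e.hom :=
    (Sheaf.isLocallySurjective_iff_epi' _ e).2 inferInstance
  have hmem := hls.imageSieve_mem s
  rw [mem_smallEtaleTopology_iff] at hmem
  -- local lifts on Zariski opens
  have hloc : ∀ x : X, ∃ (W : X.Opens), x ∈ W ∧ ∃ t : ToType (F.obj.obj (op (ofOpen W))),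
      e.hom.app _ t = G.obj.map (toTop (ofOpen W)).op s := by
    intro x
    obtain ⟨Y, f, y, ⟨t, ht⟩, hy⟩ := hmem x
    have : Etale Y.hom := Y.prop
    obtain ⟨W, hxW, h, hh⟩ := hL Y.left Y.hom y
    have hYx : Y.hom y = x := by
      have h1 : f.left ≫ 𝟙 X = Y.hom := MorphismProperty.Over.w f
      have h2 : f.left = Y.hom := (Category.comp_id _).symm.trans h1
      rw [← h2]
      exact hy
    let j : ofOpen W ⟶ Y := MorphismProperty.Over.homMk h hh trivial
    refine ⟨W, hYx ▸ hxW, F.obj.map j.op t, ?_⟩
    have n1 := ConcreteCategory.congr_hom (e.hom.naturality j.op) t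
    rw [ConcreteCategory.comp_apply, ConcreteCategory.comp_apply] at n1
    refine n1.trans ?_
    rw [ht, ← ConcreteCategory.comp_apply, ← G.obj.map_comp, ← op_comp]
    rw [hom_top_ext (j ≫ f) (toTop (ofOpen W))]
  choose W hxW t ht using hloc
  obtain ⟨N, c, κ, hκ, hκW⟩ := exists_partition hcb (fun x => (W x : Set X))
    (fun x => (W x).isOpen) hxW
  -- the clopen pieces
  let C : Fin N → X.Opens := fun k => ⟨κ ⁻¹' {k}, hκ.isOpen_fiber k⟩
  have hCW : ∀ k, C k ≤ W (c k) := by
    intro k m hm
    have h1 : κ m = k := hm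
    have := hκW m
    rw [h1] at this
    exact this
  let r : ∀ k, ofOpen (C k) ⟶ ofOpen (W (c k)) := fun k =>
    MorphismProperty.Over.homMk (X.homOfLE (hCW k)) (X.homOfLE_ι _) trivial
  let t' : ∀ k, ToType (F.obj.obj (op (ofOpen (C k)))) := fun k => F.obj.map (r k).op (t (c k))
  have ht' : ∀ k, e.hom.app _ (t' k) = G.obj.map (toTop (ofOpen (C k))).op s := by
    intro k
    have n1 := ConcreteCategory.congr_hom (e.hom.naturality (r k).op) (t (c k))
    rw [ConcreteCategory.comp_apply, ConcreteCategory.comp_apply] at n1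
    refine n1.trans ?_
    rw [ht, ← ConcreteCategory.comp_apply, ← G.obj.map_comp, ← op_comp]
    rw [hom_top_ext (r k ≫ toTop _) (toTop (ofOpen (C k)))]
  -- the covering family
  have hgen : Sieve.generate (Presieve.ofArrows (fun k => ofOpen (C k)) (fun k => toTop (ofOpen (C k))))
      ∈ X.smallEtaleTopology (EtCoh.top X) := by
    rw [mem_smallEtaleTopology_iff]
    intro x
    refine ⟨ofOpen (C (κ x)), toTop _, ⟨x, rfl⟩, ?_, rfl⟩
    exact ⟨_, 𝟙 _, _, Presieve.ofArrows.mk (κ x), Category.id_comp _⟩
  have hFs := (isSheaf_forget F).isSheafFor _ hgen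
  rw [Presieve.isSheafFor_arrows_iff] at hFs
  have hcompat : Presieve.Arrows.Compatible (F.obj ⋙ forget AddCommGrpCat.{u + 1})
      (fun k => toTop (ofOpen (C k))) t' := by
    intro i j Z gi gj hgg
    by_cases hij : i = j
    · subst hij
      have : gi = gj := by
        apply MorphismProperty.Over.Hom.ext
        have h1 := congrArg (fun k => k.left) hgg
        exact (cancel_mono (C i).ι).1 h1
      rw [this]
    · have : IsEmpty Z.left := by
        constructor
        intro z
        apply hij
        have h1 := congrArg (fun k => k.left) hgg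
        have h2 : (gi.left ≫ (C i).ι) z = (gj.left ≫ (C j).ι) z := by
          have := congrArg (fun k => k.base z) h1
          exact this
        have hi : κ ((gi.left ≫ (C i).ι) z) = i := (gi.left z).2
        have hj : κ ((gj.left ≫ (C j).ι) z) = j := (gj.left z).2
        rw [← hi, ← hj, h2]
      exact (subsingleton_of_isEmpty F Z).elim _ _
  obtain ⟨tt, htt, -⟩ := hFs t' hcompat
  refine ⟨tt, ?_⟩
  refine ((isSheaf_forget G).isSheafFor _ hgen).isSeparatedFor.ext ?_
  rintro Y f ⟨k⟩
  change G.obj.map (toTop _).op (e.hom.app _ tt) = G.obj.map (toTop _).op s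
  have n1 := ConcreteCategory.congr_hom (e.hom.naturality (toTop (ofOpen (C k))).op) tt
  rw [ConcreteCategory.comp_apply, ConcreteCategory.comp_apply] at n1
  rw [← n1, ← ht' k]
  congr 1
  exact htt k




theorem t2Space_of_isClosed_singleton (X : Scheme.{u}) [IsAffine X]
    (h1 : ∀ s : X, IsClosed ({s} : Set X)) : T2Space X := by
  let φ : X ≃ₜ Spec Γ(X, ⊤) := Scheme.homeoOfIso X.isoSpec
  have hmax : ∀ P : Ideal Γ(X, ⊤), P.IsPrime → P.IsMaximal := by
    intro P hP
    let z : PrimeSpectrum Γ(X, ⊤) := ⟨P, hP⟩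
    refine (PrimeSpectrum.isClosed_singleton_iff_isMaximal z).1 ?_
    have h2 : IsClosed ({φ.symm z} : Set X) := h1 _
    have h3 : ({z} : Set (PrimeSpectrum Γ(X, ⊤))) = φ.symm ⁻¹' {φ.symm z} := by
      ext w
      constructor
      · intro h
        have h' : w = z := h
        rw [h']
        exact rfl
      · intro h
        exact φ.symm.injective h
    rw [h3]
    exact h2.preimage φ.symm.continuous
  have : T2Space (Spec Γ(X, ⊤)) :=
    Groth.Agent.Lib.Helper4.QFED.t2Space_of_forall_isMaximal hmax
  exact φ.isEmbedding.t2Space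

theorem clopenBasis (X : Scheme.{u}) [IsAffine X]
    (h1 : ∀ s : X, IsClosed ({s} : Set X)) : ClopenBasis X := by
  have := t2Space_of_isClosed_singleton X h1
  have hb : ∀ (l : X) (U : Set X), IsOpen U → l ∈ U → ∃ W, IsClopen W ∧ l ∈ W ∧ W ⊆ U :=
    fun l U hU hl => compact_exists_isClopen_in_isOpen hU hl
  refine ⟨hb, ?_⟩
  intro l l' hne
  obtain ⟨W, hW, hlW, hWU⟩ := hb l {l'}ᶜ isClosed_singleton.isOpen_compl hne
  exact ⟨W, hW, hlW, fun h => hWU h rfl⟩


end Groth.Agent.Lib.Helper4.ZeroDimEt
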