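import Mathlib
import Groth.Prelude.Def_EtBase
import Groth.Agent.Lib.Helper4.ZeroDimEt

/-!
# Zariski-local sections of étale maps at points with strictly henselian local ring (helper4)
-/

set_option autoImplicit false
open CategoryTheory CategoryTheory.Limits AlgebraicGeometry Opposite

universe u

namespace Groth.Agent.Lib.Helper4.HensSections


open Groth.Agent.Lib.Helper4.ZeroDimEt

/-- over a point with henselian local ring and separably closed residue field, an étale map has a
section on the local scheme through any given point of the fibre -/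
theorem exists_stalk_section_through {X U : Scheme.{u}} (f : U ⟶ X) [Etale f] (u : U)
    (hH : HenselianLocalRing (X.presheaf.stalk (f u)))
    (hS : IsSepClosed (X.residueField (f u))) :
    ∃ g : Spec (X.presheaf.stalk (f u)) ⟶ U, g ≫ f = X.fromSpecStalk (f u) ∧
      g (IsLocalRing.closedPoint (X.presheaf.stalk (f u))) = u := by
  set x := f u with hx
  let pt : Spec (X.residueField x) := IsLocalRing.closedPoint (X.residueField x)
  obtain ⟨z, hz1, -⟩ := Scheme.Pullback.exists_preimage_pullback (f := f)
    (g := X.fromSpecResidueField x) u pt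
    (by rw [Scheme.fromSpecResidueField_apply])
  obtain ⟨σ, hσ, pt', hpt'⟩ := Groth.Agent.Lib.Helper4.SepClosedSite.exists_section
    (X.residueField x) (pullback.snd f (X.fromSpecResidueField x)) z
  let t₀ : Spec (X.residueField x) ⟶ U := σ ≫ pullback.fst f (X.fromSpecResidueField x)
  have ht₀ : t₀ ≫ f = X.fromSpecResidueField x := by
    have h := pullback.condition (f := f) (g := X.fromSpecResidueField x)
    calc t₀ ≫ f = σ ≫ (pullback.fst _ _ ≫ f) := Category.assoc _ _ _
      _ = σ ≫ (pullback.snd _ _ ≫ X.fromSpecResidueField x) := by rw [h]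
      _ = (σ ≫ pullback.snd _ _) ≫ X.fromSpecResidueField x := (Category.assoc _ _ _).symm
      _ = X.fromSpecResidueField x := by rw [hσ]; exact Category.id_comp _
  have ht₀pt : t₀ pt = u := by
    have : pt' = pt := Subsingleton.elim _ _
    rw [this] at hpt'
    change (pullback.fst f (X.fromSpecResidueField x)) (σ pt) = u
    rw [hpt', hz1]
  let t : Spec (CommRingCat.of (IsLocalRing.ResidueField (X.presheaf.stalk x))) ⟶
      pullback f (X.fromSpecStalk x) :=
    pullback.lift t₀ (Spec.map (CommRingCat.ofHom (IsLocalRing.residue (X.presheaf.stalk x))))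
      ht₀
  obtain ⟨s, hs1, hs2⟩ := @Groth.Agent.Lib.Helper89.HensZMT.exists_section (X.presheaf.stalk x) _ hH _
    (pullback.snd f (X.fromSpecStalk x)) _ t (pullback.lift_snd _ _ _)
  refine ⟨s ≫ pullback.fst f (X.fromSpecStalk x), ?_, ?_⟩
  · rw [Category.assoc, pullback.condition, ← Category.assoc, hs1]
    exact Category.id_comp _
  · have hcp : (Spec.map (CommRingCat.ofHom (IsLocalRing.residue (X.presheaf.stalk x)))) pt =
        IsLocalRing.closedPoint (X.presheaf.stalk x) :=
      IsLocalRing.PrimeSpectrum.comap_residue _ pt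
    have h3 : Spec.map (CommRingCat.ofHom (IsLocalRing.residue (X.presheaf.stalk x))) ≫
        (s ≫ pullback.fst f (X.fromSpecStalk x)) = t₀ := by
      rw [← Category.assoc, hs2]
      exact pullback.lift_fst _ _ _
    have h4 := congrArg (fun k : Spec (CommRingCat.of (IsLocalRing.ResidueField
      (X.presheaf.stalk x))) ⟶ U => k.base pt) h3
    rw [← hcp]
    exact h4.trans ht₀pt




/-- spreading out, remembering the image of the point -/
theorem exists_open_section_through {X U : Scheme.{u}} (f : U ⟶ X)
    [LocallyOfFinitePresentation f] (x : X)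
    (g : Spec (X.presheaf.stalk x) ⟶ U) (hg : g ≫ f = X.fromSpecStalk x) :
    ∃ (W : X.Opens) (hxW : x ∈ W) (h : W.toScheme ⟶ U), h ≫ f = W.ι ∧
      h ⟨x, hxW⟩ = g (IsLocalRing.closedPoint (X.presheaf.stalk x)) := by
  let y : U := g (IsLocalRing.closedPoint (X.presheaf.stalk x))
  have e : (𝟙 X : X ⟶ X) x = f y := by
    change x = (g ≫ f) (IsLocalRing.closedPoint (X.presheaf.stalk x))
    rw [hg, Scheme.fromSpecStalk_closedPoint]
  obtain ⟨W, hxW, h, h1, h2⟩ := Groth.Agent.Lib.Helper61.SpreadOutFP.spread_out_of_finitePresentation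
    (𝟙 X) f e (Scheme.stalkClosedPointTo g) (by
      refine (Scheme.stalkClosedPointTo_comp g f).symm.trans ?_
      refine (stalkClosedPointTo_eq x (g ≫ f) hg (Inseparable.of_eq e).specializes).trans ?_
      have hid : (𝟙 X : X ⟶ X).stalkMap x = 𝟙 _ := Scheme.Hom.stalkMap_id X x
      exact (Category.comp_id _).symm.trans (congrArg (_ ≫ ·) hid.symm))
  refine ⟨W, hxW, h, by rw [h2, Category.comp_id], ?_⟩
  rw [Scheme.Spec_stalkClosedPointTo_fromSpecStalk] at h1
  let cp : Spec (X.presheaf.stalk x) := IsLocalRing.closedPoint (X.presheaf.stalk x)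
  have h3 : (W.fromSpecStalkOfMem x hxW) cp = ⟨x, hxW⟩ := by
    apply W.ι.isEmbedding.injective
    have h4 := congrArg (fun k : Spec (X.presheaf.stalk x) ⟶ X => k.base cp)
      (W.fromSpecStalkOfMem_ι x hxW)
    exact h4.trans (Scheme.fromSpecStalk_closedPoint (X := X) (x := x))
  have h5 := congrArg (fun k : Spec (X.presheaf.stalk x) ⟶ U => k.base cp) h1
  rw [← h3]
  exact h5.symm


/-- étale maps have Zariski-local sections through any point whose image has a strictly henselian
local ring -/
theorem exists_section_of_strictlyHenselian {S U : Scheme.{u}} (f : U ⟶ S) [Etale f] (u : U)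
    (hS : EtCoh.IsStrictlyHenselianLocalRing (S.presheaf.stalk (f u))) :
    ∃ (W : S.Opens) (hxW : f u ∈ W) (h : W.toScheme ⟶ U), h ≫ f = W.ι ∧ h ⟨f u, hxW⟩ = u := by
  obtain ⟨hH, hSep⟩ := hS
  obtain ⟨g, hg, hgu⟩ := exists_stalk_section_through f u hH hSep
  obtain ⟨W, hxW, h, hh, hhu⟩ := exists_open_section_through f (f u) g hg
  exact ⟨W, hxW, h, hh, hhu.trans hgu⟩

end Groth.Agent.Lib.Helper4.HensSections
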