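import Groth.Agent.Lib.Helper4.RelMVSES
import Groth.Agent.Lib.Helper4.HensSections
import Groth.Agent.Lib.Helper47.ExtAdjShift

/-!
# Zariski-local triviality of étale cohomology classes on schemes with strictly henselian local
rings (helper4)

All statements are phrased with the groups `Ext^n(j_{W!} ℤ, G)` for opens `W` of `X`.
-/

set_option autoImplicit false
universe u
open CategoryTheory CategoryTheory.Limits Opposite AlgebraicGeometry

namespace Groth.Agent.Lib.Helper4.Gabber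

open Groth.Agent.Lib.Cohomology.EtMV Groth.Agent.Lib.Cohomology.MVAbstract
  Groth.Agent.Lib.Helper4.RelMV Abelian

variable {X : Scheme.{u}}

/-- restriction of Ext classes along `W' ≤ W` -/
noncomputable def res {W' W : X.Opens} (h : W' ≤ W) (G : EtCoh.Ab X) (n : ℕ)
    (y : Ext.{u + 1} (P W.ι) G n) : Ext.{u + 1} (P W'.ι) G n :=
  (Ext.mk₀ (mm h)).comp y (zero_add n)

lemma res_res {W'' W' W : X.Opens} (h' : W'' ≤ W') (h : W' ≤ W) (G : EtCoh.Ab X) (n : ℕ)
    (y : Ext.{u + 1} (P W.ι) G n) : res h' G n (res h G n y) = res (h'.trans h) G n y := by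
  unfold res
  rw [Ext.mk₀_comp_mk₀_assoc, mm_trans]

lemma res_zero {W' W : X.Opens} (h : W' ≤ W) (G : EtCoh.Ab X) (n : ℕ) :
    res h G n (0 : Ext.{u + 1} (P W.ι) G n) = 0 := by
  unfold res
  rw [Ext.comp_zero]

lemma res_refl {W : X.Opens} (G : EtCoh.Ab X) (n : ℕ) (y : Ext.{u + 1} (P W.ι) G n) :
    res (le_refl W) G n y = y := by
  unfold res
  rw [mm_refl, Ext.mk₀_id_comp]

lemma eq_zero_of_res_eq_zero {W' W : X.Opens} (h : W' ≤ W) (h' : W ≤ W') (G : EtCoh.Ab X) (n : ℕ)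
    (y : Ext.{u + 1} (P W.ι) G n) (hy : res h G n y = 0) : y = 0 := by
  have := res_res h' h G n y
  rw [hy, res_zero, res_refl] at this
  exact this.symm

lemma res_mono {W'' W' W : X.Opens} (h' : W'' ≤ W') (h : W' ≤ W) (h'' : W'' ≤ W) (G : EtCoh.Ab X)
    (n : ℕ) (y : Ext.{u + 1} (P W.ι) G n) (hy : res h G n y = 0) : res h'' G n y = 0 := by
  have := res_res h' h G n y
  rw [hy, res_zero] at this
  exact this.symm

section Local

variable (hX : ∀ x : X, EtCoh.IsStrictlyHenselianLocalRing (X.presheaf.stalk x))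

include hX in
set_option backward.isDefEq.respectTransparency.types false in
/-- sections of a quotient lift Zariski-locally -/
theorem exists_lift_zariski {J Q : EtCoh.Ab X} (π : J ⟶ Q) [Epi π] {W : X.Opens}
    (s : P W.ι ⟶ Q) (x : X) (hx : x ∈ W) :
    ∃ (W' : X.Opens) (h : W' ≤ W), x ∈ W' ∧ ∃ t : P W'.ι ⟶ J, t ≫ π = mm h ≫ s := by
  have hls : Sheaf.IsLocallySurjective π := (Sheaf.isLocallySurjective_iff_epi' (φ := π)).2 inferInstance
  have hT : Presheaf.imageSieve π.hom (sec W.ι Q s) ∈ X.smallEtaleTopology (Uo W.ι) :=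
    Presheaf.imageSieve_mem _ π.hom _
  rw [SepClosedSite.mem_smallEtaleTopology_iff] at hT
  obtain ⟨Y, f, y, ⟨τ, hτ⟩, hy⟩ := hT (⟨x, hx⟩ : W)
  have : Etale Y.hom := Y.prop
  let g : Y.left ⟶ X := Y.hom
  let fl : Y.left ⟶ (W : Scheme.{u}) := f.left
  have hfg : fl ≫ W.ι = g := left_comp_ι Y f
  have hgy : g y = x := by
    have e : g y = W.ι (fl y) := by rw [← hfg]; rfl
    have e2 : fl y = (⟨x, hx⟩ : W) := hy
    rw [e, e2]
    rfl
  obtain ⟨W', hxW', h, hh, -⟩ :=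
    HensSections.exists_section_of_strictlyHenselian g y (hX (g y))
  have hle : W' ≤ W := by
    intro z hz
    have h1 : g (h ⟨z, hz⟩) = z := by
      have : (h ≫ g) ⟨z, hz⟩ = W'.ι ⟨z, hz⟩ := by rw [hh]
      exact this
    have h2 : g (h ⟨z, hz⟩) = W.ι (fl (h ⟨z, hz⟩)) := by rw [← hfg]; rfl
    rw [← h1, h2]
    exact (fl (h ⟨z, hz⟩)).2
  refine ⟨W', hle, hgy ▸ hxW', ?_⟩
  let k : Uo W'.ι ⟶ Y := MorphismProperty.Over.homMk h (by
    change h ≫ g = 𝟙 _ ≫ W'.ι
    rw [Category.id_comp, hh])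
  have hk : k ≫ f = ρ hle := hom_Uo_ext _ _
  obtain ⟨t, ht⟩ := (sec_bijective W'.ι J).2 ((J.obj.map k.op).hom τ)
  refine ⟨t, sec_injective W'.ι Q ?_⟩
  rw [sec_comp, ht, sec_mm, ← hk, op_comp, Functor.map_comp]
  have h2 : (π.hom.app (op (Uo W'.ι))).hom ((J.obj.map k.op).hom τ) =
      (Q.obj.map k.op).hom ((π.hom.app (op Y)).hom τ) :=
    congrArg (fun q => q.hom τ) (π.hom.naturality k.op)
  rw [h2]
  have h3 : (π.hom.app (op Y)).hom τ = (Q.obj.map f.op).hom (sec W.ι Q s) := hτ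
  rw [h3]
  rfl

open Groth.Agent.Lib.Helper47.ExtAdjShift in
include hX in
/-- cohomology classes of positive degree are Zariski-locally trivial -/
theorem exists_res_eq_zero : ∀ (n : ℕ) (G : EtCoh.Ab X) {W : X.Opens}
    (y : Ext.{u + 1} (P W.ι) G (n + 1)) (x : X), x ∈ W →
    ∃ (W' : X.Opens) (h : W' ≤ W), x ∈ W' ∧ res h G (n + 1) y = 0 := by
  intro n
  induction n with
  | zero =>
    intro G W y x hx
    have hS := SI_shortExact G
    obtain ⟨x₃, hx₃⟩ := Ext.covariant_sequence_exact₁ _ hS y (Ext.eq_zero_of_injective _)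
      (rfl : 0 + 1 = 1)
    obtain ⟨s, rfl⟩ := (Ext.mk₀_bijective _ _).2 x₃
    have : Epi (SI G).g := hS.epi_g
    obtain ⟨W', h, hxW', t, ht⟩ := exists_lift_zariski hX (SI G).g s x hx
    refine ⟨W', h, hxW', ?_⟩
    unfold res
    rw [← hx₃, ← Ext.comp_assoc_of_second_deg_zero, Ext.mk₀_comp_mk₀, ← ht, ← Ext.mk₀_comp_mk₀,
      Ext.comp_assoc_of_second_deg_zero, hS.comp_extClass, Ext.comp_zero]
  | succ n ih =>
    intro G W y x hx
    have hS := SI_shortExact G
    obtain ⟨x₃, hx₃⟩ := Ext.covariant_sequence_exact₁ _ hS y (Ext.eq_zero_of_injective _)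
      (rfl : n + 1 + 1 = n + 1 + 1)
    obtain ⟨W', h, hxW', hres⟩ := ih (SI G).X₃ x₃ x hx
    refine ⟨W', h, hxW', ?_⟩
    unfold res at hres ⊢
    rw [← hx₃, ← Ext.comp_assoc (Ext.mk₀ (mm h)) x₃ hS.extClass (zero_add (n + 1)) rfl
      (by omega), hres, Ext.zero_comp]

end Local

end Groth.Agent.Lib.Helper4.Gabber
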