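import Groth.Agent.Lib.Helper4.GabberLoc

/-!
# Gabber's criterion in `Ext` form (helper4)
-/

set_option autoImplicit false
universe u
open CategoryTheory CategoryTheory.Limits Opposite AlgebraicGeometry

namespace Groth.Agent.Lib.Helper4.Gabber

open Groth.Agent.Lib.Cohomology.EtMV Groth.Agent.Lib.Cohomology.MVAbstract
  Groth.Agent.Lib.Helper4.RelMV Abelian

variable {X : Scheme.{u}}

section Bot

/-- sections over the empty open are unique -/
lemma sections_bot_eq (G : EtCoh.Ab X) {W : X.Opens} (hW : W = ⊥)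
    (s s' : G.obj.obj (op (Uo W.ι))) : s = s' := by
  subst hW
  have hcov : (⊥ : Sieve (Uo (⊥ : X.Opens).ι)) ∈ X.smallEtaleTopology (Uo (⊥ : X.Opens).ι) := by
    rw [SepClosedSite.mem_smallEtaleTopology_iff]
    intro x
    exact ((show ↥(⊥ : X.Opens) from x).2 : False).elim
  have h1 : Presieve.IsSheaf X.smallEtaleTopology (G.obj ⋙ forget AddCommGrpCat.{u + 1}) :=
    (isSheaf_iff_isSheaf_of_type _ _).1
      ((Presheaf.isSheaf_iff_isSheaf_forget _ G.obj (forget AddCommGrpCat.{u + 1})).1 G.property)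
  exact (h1 _ hcov).isSeparatedFor.ext (fun Y f hf => hf.elim)

lemma ext_bot_eq_zero (G : EtCoh.Ab X) {W : X.Opens} (hW : W = ⊥) (n : ℕ)
    (y : Ext.{u + 1} (P W.ι) G n) : y = 0 := by
  have h0 : (𝟙 (P W.ι)) = 0 := sec_injective W.ι _ (sections_bot_eq _ hW _ _)
  rw [← Ext.mk₀_id_comp y, h0, Ext.mk₀_zero, Ext.zero_comp]

end Bot

section Top

/-- `j_! ℤ ⟶ ℤ` is an isomorphism for the whole space -/
lemma isIso_c_top : IsIso (c (⊤ : X.Opens).ι) := by
  let r : EtCoh.top X ⟶ Uo (⊤ : X.Opens).ι := MorphismProperty.Over.homMk X.topIso.inv (by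
    change X.topIso.inv ≫ 𝟙 _ ≫ (⊤ : X.Opens).ι = 𝟙 X
    rw [Category.id_comp]
    exact X.topIso.inv_hom_id)
  have hiso : IsIso (tU (⊤ : X.Opens).ι) :=
    ⟨r, hom_Uo_ext _ _, (EtCore.topIsTerminal X).hom_ext _ _⟩
  have hepi : Epi (c (⊤ : X.Opens).ι) := by
    apply Preadditive.epi_of_cancel_zero
    intro G φ hφ
    apply (secX_bijective X G).1
    have h1 := sec_c_comp (⊤ : X.Opens).ι G φ
    have h2 := sec_c_comp (⊤ : X.Opens).ι G 0
    rw [hφ] at h1
    rw [comp_zero] at h2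
    have h3 : (G.obj.map (tU (⊤ : X.Opens).ι).op).hom (secX X G φ) =
        (G.obj.map (tU (⊤ : X.Opens).ι).op).hom (secX X G 0) := h1.symm.trans h2
    have : IsIso (G.obj.map (tU (⊤ : X.Opens).ι).op) := inferInstance
    exact (ConcreteCategory.bijective_of_isIso (G.obj.map (tU (⊤ : X.Opens).ι).op)).1 h3
  exact isIso_of_mono_of_epi _

end Top

/-- the `H¹`-kernel hypothesis in `Ext` form -/
def Ker1 (F : EtCoh.Ab X) : Prop :=
  ∀ (f g : Γ(X, ⊤)) (y : Ext.{u + 1} (P (X.basicOpen (f + g)).ι) F 1),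
    res ((X.basicOpen_mul f (f + g)).trans_le inf_le_right) F 1 y = 0 →
    res ((X.basicOpen_mul g (f + g)).trans_le inf_le_right) F 1 y = 0 → y = 0

section Main

variable [IsAffine X] (hX : ∀ x : X, EtCoh.IsStrictlyHenselianLocalRing (X.presheaf.stalk x))
  (F : EtCoh.Ab X) (hK : Ker1 F)

include hX hK in
theorem main : ∀ (n : ℕ) (W : X.Opens), (∃ h : Γ(X, ⊤), W = X.basicOpen h) →
    ∀ y : Ext.{u + 1} (P W.ι) F (n + 1), y = 0 := by
  intro n
  induction n using Nat.strong_induction_on with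
  | _ n ih =>
  rintro _ ⟨h, rfl⟩ y
  -- the set of `f` such that `y` dies on `D(h f)`
  have hle : ∀ f : Γ(X, ⊤), X.basicOpen (h * f) ≤ X.basicOpen h := fun f =>
    (X.basicOpen_mul h f).trans_le inf_le_left
  have hmono : ∀ (V : X.Opens) (hV : V ≤ X.basicOpen h) (f : Γ(X, ⊤)),
      res (hle f) F (n + 1) y = 0 → V ≤ X.basicOpen (h * f) → res hV F (n + 1) y = 0 :=
    fun V hV f hf hVf => res_mono hVf (hle f) hV F (n + 1) y hf
  -- closure under addition
  have hadd : ∀ f g : Γ(X, ⊤), res (hle f) F (n + 1) y = 0 → res (hle g) F (n + 1) y = 0 →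
      res (hle (f + g)) F (n + 1) y = 0 := by
    intro f g hf hg
    set a := h * f with ha
    set b := h * g with hb
    have hab : a + b = h * (f + g) := by rw [ha, hb, mul_add]
    have hW₀ : X.basicOpen (a + b) ≤ X.basicOpen h := by
      rw [hab]; exact hle (f + g)
    have hU₀ : X.basicOpen (a * (a + b)) ≤ X.basicOpen (a + b) :=
      (X.basicOpen_mul a (a + b)).trans_le inf_le_right
    have hV₀ : X.basicOpen (b * (a + b)) ≤ X.basicOpen (a + b) :=
      (X.basicOpen_mul b (a + b)).trans_le inf_le_right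
    have hUa : X.basicOpen (a * (a + b)) ≤ X.basicOpen a :=
      (X.basicOpen_mul a (a + b)).trans_le inf_le_left
    have hVb : X.basicOpen (b * (a + b)) ≤ X.basicOpen b :=
      (X.basicOpen_mul b (a + b)).trans_le inf_le_left
    have hη₁ : res hU₀ F (n + 1) (res hW₀ F (n + 1) y) = 0 := by
      rw [res_res]
      exact hmono _ _ f hf hUa
    have hη₂ : res hV₀ F (n + 1) (res hW₀ F (n + 1) y) = 0 := by
      rw [res_res]
      exact hmono _ _ g hg hVb
    have hη : res hW₀ F (n + 1) y = 0 := by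
      rcases n with _ | m
      · exact hK a b _ hη₁ hη₂
      · have hcov : X.basicOpen (a + b) ≤ X.basicOpen (a * (a + b)) ⊔ X.basicOpen (b * (a + b)) := by
          intro x hx
          rcases X.basicOpen_add_le a b hx with h1 | h1
          · left
            rw [X.basicOpen_mul]
            exact ⟨h1, hx⟩
          · right
            rw [X.basicOpen_mul]
            exact ⟨h1, hx⟩
        have hS := ses_shortExact_rel hU₀ hV₀ hcov
        refine ext_eq_zero_of_mv _ _ _ _ _ hS (m + 1) ?_ _ hη₁ hη₂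
        exact ih m (by omega) _ ⟨(a * (a + b)) * (b * (a + b)), (X.basicOpen_mul _ _).symm⟩
    have hfin : X.basicOpen (h * (f + g)) ≤ X.basicOpen (a + b) := by rw [hab]
    have := res_res hfin hW₀ F (n + 1) y
    rw [hη, res_zero] at this
    exact this.symm
  -- closure under multiplication
  have hsmul : ∀ r f : Γ(X, ⊤), res (hle f) F (n + 1) y = 0 → res (hle (r * f)) F (n + 1) y = 0 := by
    intro r f hf
    refine hmono _ _ f hf ?_
    have e : h * (r * f) = r * (h * f) := by ring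
    rw [e, X.basicOpen_mul]
    exact inf_le_right
  -- zero
  have hzero : res (hle 0) F (n + 1) y = 0 :=
    ext_bot_eq_zero F (by rw [mul_zero, X.basicOpen_zero]) _ _
  let I : Ideal Γ(X, ⊤) :=
    { carrier := {f | res (hle f) F (n + 1) y = 0}
      add_mem' := fun {f g} hf hg => hadd f g hf hg
      zero_mem' := hzero
      smul_mem' := fun r {f} hf => hsmul r f hf }
  have hrad : h ∈ I.radical := by
    rw [Ideal.radical_eq_sInf, Ideal.mem_sInf]
    rintro p ⟨hIp, hp⟩
    by_contra hhp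
    have hA := isAffineOpen_top X
    let pt : PrimeSpectrum Γ(X, ⊤) := ⟨p, hp⟩
    let x : X := hA.fromSpec pt
    have hxmem : ∀ f : Γ(X, ⊤), x ∈ X.basicOpen f ↔ f ∉ p := by
      intro f
      have h1 : x ∈ X.basicOpen f ↔ pt ∈ hA.fromSpec ⁻¹ᵁ X.basicOpen f := Iff.rfl
      rw [h1, hA.fromSpec_preimage_basicOpen]
      exact Iff.rfl
    have hxh : x ∈ X.basicOpen h := (hxmem h).2 hhp
    obtain ⟨W', hW', hxW', hres⟩ := exists_res_eq_zero hX n F y x hxh
    obtain ⟨f, hfW', hxf⟩ := hA.exists_basicOpen_le (⟨x, hxW'⟩ : W') trivial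
    have hfI : f ∈ I := by
      change res (hle f) F (n + 1) y = 0
      refine res_mono ?_ hW' (hle f) F (n + 1) y hres
      rw [X.basicOpen_mul]
      exact inf_le_right.trans hfW'
    exact (hxmem f).1 hxf (hIp hfI)
  obtain ⟨N, hN⟩ := hrad
  have hN' : res (hle (h ^ N)) F (n + 1) y = 0 := hN
  refine eq_zero_of_res_eq_zero (hle (h ^ N)) ?_ F (n + 1) y hN'
  rw [← pow_succ', X.basicOpen_pow _ (Nat.succ_pos N)]

include hX hK in
theorem ext_const_eq_zero (n : ℕ) (x : Ext.{u + 1} (EtCoh.const X ℤ) F (n + 1)) : x = 0 := by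
  have h1 : (Ext.mk₀ (c (⊤ : X.Opens).ι)).comp x (zero_add (n + 1)) = 0 :=
    main hX F hK n ⊤ ⟨1, X.basicOpen_one.symm⟩ _
  have := isIso_c_top (X := X)
  have h2 := congrArg (fun z => (Ext.mk₀ (inv (c (⊤ : X.Opens).ι))).comp z (zero_add (n + 1))) h1
  simp only [Ext.mk₀_comp_mk₀_assoc, IsIso.inv_hom_id, Ext.mk₀_id_comp, Ext.comp_zero] at h2
  exact h2

end Main

end Groth.Agent.Lib.Helper4.Gabber
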