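import Mathlib
import Groth.Agent.Lib.Helper4.LCExtend

set_option autoImplicit false
open CategoryTheory CategoryTheory.Limits AlgebraicGeometry Opposite TopologicalSpace Topology

universe u

namespace Groth.Agent.Lib.Helper4.LCExtend

/-- along an inducing morphism `i` with generization-stable range into a scheme whose local rings
are domains, a locally constant function takes the same value at any two points whose images
generize a common point -/
theorem apply_eq_of_common_specialization' {V W : Scheme.{u}} (i : W ⟶ V)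
    (hind : IsInducing i) (hst : StableUnderGeneralization (Set.range i))
    {T : Type*} (f : LocallyConstant W T) (v : V) [IsDomain (V.presheaf.stalk v)]
    {y y' : W} (hy : i y ⤳ v) (hy' : i y' ⤳ v) : f y = f y' := by
  obtain ⟨ξ, hξ⟩ := exists_generic v
  have h1 : ξ ⤳ i y := hξ _ hy
  have h2 : ξ ⤳ i y' := hξ _ hy'
  have hmem : ξ ∈ Set.range i := hst h1 ⟨y, rfl⟩
  obtain ⟨y₀, rfl⟩ := hmem
  have e1 : y₀ ⤳ y := hind.specializes_iff.1 h1
  have e2 : y₀ ⤳ y' := hind.specializes_iff.1 h2
  rw [← apply_eq_of_specializes f e1, ← apply_eq_of_specializes f e2]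

/-- extension of locally constant functions along a dense quasi-compact inducing morphism with
generization-stable range (e.g. the base change of the inclusion of a generic point) into a
scheme whose local rings are domains -/
theorem exists_extension' {V W : Scheme.{u}} (i : W ⟶ V) [QuasiCompact i]
    (hind : IsInducing i) (hst : StableUnderGeneralization (Set.range i))
    (hi : Dense (Set.range i)) (hV : ∀ v : V, IsDomain (V.presheaf.stalk v)) {T : Type*}
    (f : LocallyConstant W T) : ∃ f' : LocallyConstant V T, ∀ w, f' (i w) = f w := by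
  classical
  have hgen : ∀ v : V, ∃ w : W, i w ⤳ v := fun v =>
    Groth.Agent.Lib.Helper38.ImmDescent.exists_specializes_of_mem_closure_range i
      (by rw [hi.closure_eq]; trivial)
  choose c hc using hgen
  let F : V → T := fun v => f (c v)
  have hFc : ∀ (v : V) (y : W), i y ⤳ v → f y = F v := by
    intro v y hy
    have := hV v
    exact apply_eq_of_common_specialization' i hind hst f v hy (hc v)
  have hF : IsLocallyConstant F := by
    rw [IsLocallyConstant.iff_exists_open]
    intro v
    obtain ⟨N', hN', hvN', -⟩ :=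
      (Opens.isBasis_iff_nbhd.mp V.isBasis_affineOpens) (show v ∈ (⊤ : V.Opens) from trivial)
    obtain ⟨N, hN, hvN⟩ : ∃ N : V.Opens, IsAffineOpen N ∧ v ∈ N := ⟨N', hN', hvN'⟩
    have : IsAffine N.toScheme := hN
    have hA : IsCompact ((i ⁻¹ᵁ N : W.Opens) : Set W) :=
      QuasiCompact.isCompact_preimage (f := i) _ N.isOpen hN.isCompact
    have hcl : IsClosed (f ⁻¹' {F v}ᶜ) := by
      rw [Set.preimage_compl]
      exact (f.isLocallyConstant.isOpen_fiber _).isClosed_compl
    have hop : IsOpen (f ⁻¹' {F v}ᶜ) := f.isLocallyConstant _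
    let Tt : W.Opens := ⟨((i ⁻¹ᵁ N : W.Opens) : Set W) ∩ f ⁻¹' {F v}ᶜ,
      (i ⁻¹ᵁ N : W.Opens).isOpen.inter hop⟩
    have hT : IsCompact (Tt : Set W) := hA.inter_right hcl
    have : CompactSpace ↥Tt.toScheme := isCompact_iff_compactSpace.mp hT
    have hsub : Set.range (Tt.ι ≫ i) ⊆ Set.range N.ι := by
      rintro _ ⟨t, rfl⟩
      rw [Scheme.Opens.range_ι]
      exact (t.2 : t.1 ∈ _).1
    let g : Tt.toScheme ⟶ N.toScheme := IsOpenImmersion.lift N.ι (Tt.ι ≫ i) hsub
    have hg : g ≫ N.ι = Tt.ι ≫ i := IsOpenImmersion.lift_fac _ _ _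
    have hgt : ∀ t : Tt.toScheme, N.ι (g t) = i t.1 := by
      intro t
      have := congrArg (fun k : Tt.toScheme ⟶ V => k.base t) hg
      exact this
    have hv : (⟨v, hvN⟩ : N.toScheme) ∉ closure (Set.range g) := by
      intro hmem
      obtain ⟨t, ht⟩ :=
        Groth.Agent.Lib.Helper38.ImmDescent.exists_specializes_of_mem_closure_range g hmem
      have h1 : N.ι (g t) ⤳ N.ι ⟨v, hvN⟩ := ht.map N.ι.continuous
      rw [hgt t] at h1
      have h2 : f t.1 = F v := hFc v t.1 h1
      exact (t.2 : t.1 ∈ _).2 h2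
    refine ⟨N.ι.base '' (closure (Set.range g))ᶜ, ?_, ⟨⟨v, hvN⟩, hv, rfl⟩, ?_⟩
    · exact N.ι.isOpenEmbedding.isOpenMap _ isClosed_closure.isOpen_compl
    · rintro _ ⟨n', hn', rfl⟩
      by_contra hne
      have h1 : i (c (N.ι n')) ⤳ N.ι n' := hc _
      have hyN : i (c (N.ι n')) ∈ N := h1.mem_open N.isOpen n'.2
      have hyT : c (N.ι n') ∈ Tt := ⟨hyN, hne⟩
      let t' : Tt.toScheme := ⟨c (N.ι n'), hyT⟩
      have h2 : N.ι (g t') ⤳ N.ι n' := by
        rw [hgt t']
        exact h1
      have h3 : g t' ⤳ n' := N.ι.isOpenEmbedding.isInducing.specializes_iff.1 h2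
      apply hn'
      exact closure_mono (Set.singleton_subset_iff.2 (Set.mem_range_self t')) (specializes_iff_mem_closure.1 h3)
  exact ⟨⟨F, hF⟩, fun w => (hFc (i w) w specializes_rfl).symm⟩

end Groth.Agent.Lib.Helper4.LCExtend
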