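import Mathlib
import Groth.Agent.Lib.Helper4.ConstLCRestr
import Groth.Agent.Lib.Helper4.LCExtendGen

set_option autoImplicit false
open CategoryTheory CategoryTheory.Limits AlgebraicGeometry Opposite

universe u

namespace Groth.Agent.Lib.Helper4.ConstLC

variable {U X : Scheme.{u}} (j : U ⟶ X) (M : Type) [AddCommGroup M]

/-- surjectivity of restriction for a dense quasi-compact preimmersion with generization-stable
range into a normal scheme -/
theorem surjective_restrLC_of_preimmersion [IsPreimmersion j] [QuasiCompact j]
    (hj : Dense (Set.range j)) (hst : StableUnderGeneralization (Set.range j))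
    (hX : Pi1.IsNormalScheme X) (V : X.Etaleᵒᵖ) :
    Function.Surjective ((restrLC j M).hom.app V) := by
  intro f
  have : Etale V.unop.hom := V.unop.prop
  have hd : Dense (Set.range (proj j V.unop)) := dense_range_fst j V.unop.hom hj
  have hV : Pi1.IsNormalScheme V.unop.left := Groth.Agent.S7180.result V.unop.hom hX
  have hpi : IsPreimmersion (pullback.fst V.unop.hom j) := inferInstance
  have hqc : QuasiCompact (pullback.fst V.unop.hom j) := inferInstance
  have hst' : StableUnderGeneralization (Set.range (pullback.fst V.unop.hom j)) := by
    have hr := Scheme.Pullback.range_fst V.unop.hom j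
    rw [hr]
    exact hst.preimage V.unop.hom.continuous
  obtain ⟨f', hf'⟩ := @Groth.Agent.Lib.Helper4.LCExtend.exists_extension' _ _ (proj j V.unop) hqc
    (pullback.fst V.unop.hom j).isEmbedding.isInducing hst' hd
    (fun v => (hV v).1) _ (toLC (V := op ((EtCoh.bc j).obj V.unop)) f)
  refine ⟨ofLC f', ?_⟩
  apply toLC_injective (V := op ((EtCoh.bc j).obj V.unop))
  intro w
  exact hf' w

theorem isIso_restrLC_of_preimmersion [IsPreimmersion j] [QuasiCompact j]
    (hj : Dense (Set.range j)) (hst : StableUnderGeneralization (Set.range j))
    (hX : Pi1.IsNormalScheme X) : IsIso (restrLC j M) :=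
  isIso_restrLC j M (fun V =>
    ⟨injective_restrLC j M hj V, surjective_restrLC_of_preimmersion j M hj hst hX V⟩)

/-- a morphism from a scheme with finitely many points is quasi-compact -/
theorem quasiCompact_of_finite [Finite U] : QuasiCompact j :=
  ⟨fun _ _ _ => (Set.toFinite _).isCompact⟩

end Groth.Agent.Lib.Helper4.ConstLC
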