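import Mathlib
import Groth.Agent.Lib.Helper4.EtaleCoreflection

/-!
# Helper library (helper4): ind-étale algebras are formally étale
-/

set_option autoImplicit false

universe u

open CategoryTheory CategoryTheory.Limits TensorProduct

namespace Groth.Agent.Lib.Helper4

section

variable {A : Type u} [CommRing A] (B : Type u) [CommRing B] [Algebra A B]
  (hB : HasFactorization (etaleClass A) B)
  {C : Type u} [CommRing C] [Algebra A C] (I : Ideal C) (hI : I ^ 2 = ⊥)

include hB hI in
theorem comp_injective_of_hasFactorization :
    Function.Injective ((Ideal.Quotient.mkₐ A I).comp : (B →ₐ[A] C) → B →ₐ[A] C ⧸ I) := by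
  intro g₁ g₂ h
  ext b
  obtain ⟨E, _, _, hE, α, β, hαβ⟩ := hB (MvPolynomial (Fin 1) A)
    (MvPolynomial.aeval (fun _ => b))
  have hE' : Algebra.Etale A E := hE
  have hb : β (α (MvPolynomial.X 0)) = b := by
    have h1 : β (α (MvPolynomial.X 0)) =
        MvPolynomial.aeval (fun _ => b) (MvPolynomial.X (0 : Fin 1)) :=
      congrArg (fun m => m (MvPolynomial.X 0)) hαβ
    rwa [MvPolynomial.aeval_X] at h1
  have h2 : g₁.comp β = g₂.comp β := by
    apply Algebra.FormallyUnramified.comp_injective (R := A) (A := E) I hI
    rw [← AlgHom.comp_assoc, ← AlgHom.comp_assoc]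
    exact congrArg (fun m => m.comp β) h
  rw [← hb]
  exact congrArg (fun m => m (α (MvPolynomial.X 0))) h2

variable (f : B →ₐ[A] C ⧸ I)

/-- the unique lift on an étale stage -/
noncomputable def stageLift (x : Obj (etaleClass A) B) : x.Q →ₐ[A] C :=
  haveI := obj_etale B x
  (Algebra.FormallySmooth.comp_surjective A x.Q I hI (f.comp x.φ)).choose

theorem stageLift_spec (x : Obj (etaleClass A) B) :
    (Ideal.Quotient.mkₐ A I).comp (stageLift B I hI f x) = f.comp x.φ :=
  haveI := obj_etale B x
  (Algebra.FormallySmooth.comp_surjective A x.Q I hI (f.comp x.φ)).choose_spec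

theorem stageLift_map {x y : Obj (etaleClass A) B} (g : x ⟶ y) :
    (stageLift B I hI f y).comp g.1 = stageLift B I hI f x := by
  have := obj_etale B x
  apply Algebra.FormallyUnramified.comp_injective (R := A) (A := x.Q) I hI
  change (Ideal.Quotient.mkₐ A I).comp ((stageLift B I hI f y).comp g.1) =
    (Ideal.Quotient.mkₐ A I).comp (stageLift B I hI f x)
  rw [← AlgHom.comp_assoc, stageLift_spec, stageLift_spec, AlgHom.comp_assoc, g.2]

/-- the cocone of lifts -/
noncomputable def liftCocone : Cocone (objDiagram (ℰ := etaleClass A) (B := B)) where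
  pt := Under.mk (CommRingCat.ofHom (algebraMap A C))
  ι :=
    { app := fun x => Under.homMk (CommRingCat.ofHom (stageLift B I hI f x).toRingHom) (by
        ext r
        exact (stageLift B I hI f x).commutes r)
      naturality := fun x y g => by
        apply Under.UnderMorphism.ext
        apply CommRingCat.hom_ext
        ext a
        exact congrArg (fun m => m a) (stageLift_map B I hI f g) }

/-- the lift on the coreflection -/
noncomputable def etLift : Et A B →ₐ[A] C :=
  { toRingHom := ((etIsColimit A B).desc (liftCocone B I hI f)).right.hom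
    commutes' := fun a =>
      congrArg (fun m => m.hom a) (Under.w ((etIsColimit A B).desc (liftCocone B I hI f))) }

theorem etLift_ι (x : Obj (etaleClass A) B) (a : x.Q) :
    etLift B I hI f (etι A B x a) = stageLift B I hI f x a := by
  have := (etIsColimit A B).fac (liftCocone B I hI f) x
  exact congrArg (fun m => m.right.hom a) this

theorem mk_etLift : (Ideal.Quotient.mkₐ A I).comp (etLift B I hI f) = f.comp (etπ A B) := by
  ext c
  obtain ⟨x, a, rfl⟩ := etι_jointly_surjective A B c
  change Ideal.Quotient.mkₐ A I (etLift B I hI f (etι A B x a)) = f (etπ A B (etι A B x a))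
  rw [etLift_ι, etπ_ι]
  exact congrArg (fun m => m a) (stageLift_spec B I hI f x)

include hB hI in
theorem comp_surjective_of_hasFactorization :
    Function.Surjective ((Ideal.Quotient.mkₐ A I).comp : (B →ₐ[A] C) → B →ₐ[A] C ⧸ I) := by
  intro f
  let e : Et A B ≃ₐ[A] B := AlgEquiv.ofBijective (etπ A B)
    (etπ_bijective_of_hasFactorization A B hB)
  refine ⟨(etLift B I hI f).comp e.symm.toAlgHom, ?_⟩
  change (Ideal.Quotient.mkₐ A I).comp ((etLift B I hI f).comp e.symm.toAlgHom) = f
  rw [← AlgHom.comp_assoc, mk_etLift]
  ext b
  change f (etπ A B (e.symm b)) = f b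
  congr 1
  exact e.apply_symm_apply b

end

/-- ind-étale algebras are formally étale -/
theorem formallyEtale_of_hasFactorization {A : Type u} [CommRing A] (B : Type u) [CommRing B]
    [Algebra A B] (hB : HasFactorization (etaleClass A) B) : Algebra.FormallyEtale A B := by
  rw [Algebra.FormallyEtale.iff_comp_bijective]
  intro C _ _ I hI
  exact ⟨comp_injective_of_hasFactorization B hB I hI,
    comp_surjective_of_hasFactorization B hB I hI⟩

theorem formallyEtale_of_isIndEtale {A : Type u} [CommRing A] (B : Type u) [CommRing B]
    [Algebra A B] (hB : EtPBC.IsIndEtale A B) : Algebra.FormallyEtale A B :=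
  formallyEtale_of_hasFactorization B ((isIndEtale_iff_hasFactorization B).mp hB)

end Groth.Agent.Lib.Helper4
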