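import Mathlib
import Groth.Agent.Lib.Helper4.EtaleCoreflection
import Groth.Agent.Lib.Helper90.EtaleLift

/-!
# Helper library (helper4): lifting ind-étale algebras along `A → A/I` (Stacks 097R)
-/

set_option autoImplicit false

universe u

open CategoryTheory CategoryTheory.Limits TensorProduct

namespace Groth.Agent.Lib.Helper4

section LiftQuot

variable (A : Type u) [CommRing A] (I : Ideal A) (Cb : Type u) [CommRing Cb]
  [Algebra (A ⧸ I) Cb] [Algebra A Cb] [IsScalarTower A (A ⧸ I) Cb]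

omit [IsScalarTower A (A ⧸ I) Cb] in
/-- every element of `(A/I) ⊗ S` is of the form `1 ⊗ s` -/
theorem exists_one_tmul (S : Type u) [CommRing S] [Algebra A S] (t : (A ⧸ I) ⊗[A] S) :
    ∃ s : S, (1 : A ⧸ I) ⊗ₜ[A] s = t := by
  induction t using TensorProduct.induction_on with
  | zero => exact ⟨0, by simp⟩
  | tmul x s =>
    obtain ⟨a, rfl⟩ := Ideal.Quotient.mk_surjective x
    refine ⟨a • s, ?_⟩
    rw [TensorProduct.tmul_smul, TensorProduct.smul_tmul', Algebra.smul_def, mul_one]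
    rfl
  | add x y hx hy =>
    obtain ⟨s, rfl⟩ := hx
    obtain ⟨s', rfl⟩ := hy
    exact ⟨s + s', TensorProduct.tmul_add _ _ _⟩

omit [Algebra (A ⧸ I) Cb] [Algebra A Cb] [IsScalarTower A (A ⧸ I) Cb] in
theorem mem_map_of_algHom {F G : Type*} [CommRing F] [CommRing G] [Algebra A F] [Algebra A G]
    (k : F →ₐ[A] G) {b : F} (hb : b ∈ I.map (algebraMap A F)) :
    k b ∈ I.map (algebraMap A G) := by
  have : (I.map (algebraMap A F)).map k.toRingHom = I.map (algebraMap A G) := by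
    rw [Ideal.map_map]
    congr 1
    exact k.comp_algebraMap
  exact this ▸ Ideal.mem_map_of_mem k.toRingHom hb

variable (h : HasFactorization (etaleClass (A ⧸ I)) Cb)
include h

theorem etπ_surjective : Function.Surjective (etπ A Cb) := by
  intro t
  obtain ⟨F, _, _, hF, α, β, hαβ⟩ := h (MvPolynomial (Fin 1) (A ⧸ I))
    (MvPolynomial.aeval (fun _ => t))
  have hF' : Algebra.Etale (A ⧸ I) F := hF
  obtain ⟨S, _, _, hS, ⟨e⟩⟩ := Groth.Agent.Lib.Helper90.EtaleLift.exists_etale_lift_quotient A I F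
  let _ : Algebra A F := ((algebraMap (A ⧸ I) F).comp (algebraMap A (A ⧸ I))).toAlgebra
  have : IsScalarTower A (A ⧸ I) F := IsScalarTower.of_algebraMap_eq (fun _ => rfl)
  let φS : S →ₐ[A] Cb := ((β.restrictScalars A).comp (e.toAlgHom.restrictScalars A)).comp
    (Algebra.TensorProduct.includeRight : S →ₐ[A] (A ⧸ I) ⊗[A] S)
  obtain ⟨s, hs⟩ := exists_one_tmul A I S (e.symm (α (MvPolynomial.X 0)))
  obtain ⟨z, ez, hz⟩ := exists_obj etaleClass_isGood S hS φS
  refine ⟨etι A Cb z (ez.symm s), ?_⟩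
  rw [etπ_ι, hz]
  have h1 : β (α (MvPolynomial.X 0)) =
      MvPolynomial.aeval (fun _ => t) (MvPolynomial.X (0 : Fin 1)) :=
    congrArg (fun m => m (MvPolynomial.X 0)) hαβ
  rw [MvPolynomial.aeval_X] at h1
  change β (e ((1 : A ⧸ I) ⊗ₜ[A] (ez (ez.symm s)))) = t
  rw [AlgEquiv.apply_symm_apply, hs, AlgEquiv.apply_symm_apply, h1]

/-- the key step for the kernel: an element of an étale `A`-algebra over `Cb` dying in `Cb`
lies in `I F` for a further étale algebra `F` over `Cb`. -/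
theorem exists_kill (E : Type u) [CommRing E] [Algebra A E] [Algebra.Etale A E]
    (φ : E →ₐ[A] Cb) (a : E) (ha : φ a = 0) :
    ∃ (F : Type u) (_ : CommRing F) (_ : Algebra A F), Algebra.Etale A F ∧
      ∃ (g : E →ₐ[A] F) (φ' : F →ₐ[A] Cb), φ'.comp g = φ ∧ g a ∈ I.map (algebraMap A F) := by
  have hEb : Algebra.Etale (A ⧸ I) (E ⧸ I.map (algebraMap A E)) :=
    Algebra.Etale.of_equiv (Algebra.TensorProduct.quotIdealMapEquivQuotTensor E I).symm
  have hφI : ∀ b ∈ I.map (algebraMap A E), φ b = 0 := by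
    intro b hb
    have hle : I.map (algebraMap A E) ≤ RingHom.ker φ.toRingHom := by
      rw [Ideal.map_le_iff_le_comap]
      intro r hr
      change φ (algebraMap A E r) = 0
      rw [φ.commutes, IsScalarTower.algebraMap_apply A (A ⧸ I) Cb]
      have : algebraMap A (A ⧸ I) r = 0 := Ideal.Quotient.eq_zero_iff_mem.mpr hr
      rw [this, map_zero]
    exact hle hb
  let φb₀ : (E ⧸ I.map (algebraMap A E)) →ₐ[A] Cb := Ideal.Quotient.liftₐ _ φ hφI
  let φb : (E ⧸ I.map (algebraMap A E)) →ₐ[A ⧸ I] Cb :=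
    AlgHom.extendScalarsOfSurjective Ideal.Quotient.mk_surjective φb₀
  have hφb : ∀ b : E, φb (Ideal.Quotient.mk _ b) = φ b := fun b => rfl
  let K : Ideal (E ⧸ I.map (algebraMap A E)) := Ideal.span {Ideal.Quotient.mk _ a}
  have : Algebra.FinitePresentation (A ⧸ I) ((E ⧸ I.map (algebraMap A E)) ⧸ K) :=
    Algebra.FinitePresentation.quotient (Submodule.fg_span (Set.finite_singleton _))
  let φK : ((E ⧸ I.map (algebraMap A E)) ⧸ K) →ₐ[A ⧸ I] Cb :=
    Ideal.Quotient.liftₐ K φb (by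
      intro r hr
      obtain ⟨s, rfl⟩ := Ideal.mem_span_singleton'.mp hr
      rw [map_mul, hφb, ha, mul_zero])
  obtain ⟨Fb, _, _, hFb, α, β, hαβ⟩ := h ((E ⧸ I.map (algebraMap A E)) ⧸ K) φK
  have hFb' : Algebra.Etale (A ⧸ I) Fb := hFb
  let χ : (E ⧸ I.map (algebraMap A E)) →ₐ[A ⧸ I] Fb := α.comp (Ideal.Quotient.mkₐ (A ⧸ I) K)
  have hβχ : ∀ b : E, β (χ (Ideal.Quotient.mk _ b)) = φ b := by
    intro b
    have := congrArg (fun m => m (Ideal.Quotient.mk K (Ideal.Quotient.mk _ b))) hαβ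
    exact this
  have hχa : χ (Ideal.Quotient.mk _ a) = 0 := by
    change α (Ideal.Quotient.mk K (Ideal.Quotient.mk _ a)) = 0
    have : Ideal.Quotient.mk K (Ideal.Quotient.mk _ a) = 0 :=
      Ideal.Quotient.eq_zero_iff_mem.mpr (Ideal.subset_span rfl)
    rw [this, map_zero]
  let _ : Algebra (E ⧸ I.map (algebraMap A E)) Fb := χ.toRingHom.toAlgebra
  have : IsScalarTower (A ⧸ I) (E ⧸ I.map (algebraMap A E)) Fb :=
    IsScalarTower.of_algebraMap_eq (fun r => (χ.commutes r).symm)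
  have : Algebra.Etale (E ⧸ I.map (algebraMap A E)) Fb :=
    Algebra.Etale.of_restrictScalars (A ⧸ I) (E ⧸ I.map (algebraMap A E)) Fb
  obtain ⟨F₁, _, _, hF₁, ⟨e₁⟩⟩ :=
    Groth.Agent.Lib.Helper90.EtaleLift.exists_etale_lift_quotient E (I.map (algebraMap A E)) Fb
  let _ : Algebra A F₁ := ((algebraMap E F₁).comp (algebraMap A E)).toAlgebra
  have : IsScalarTower A E F₁ := IsScalarTower.of_algebraMap_eq (fun _ => rfl)
  have hAF₁ : Algebra.Etale A F₁ := Algebra.Etale.comp A E F₁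
  -- the map `F₁ → Cb`
  let ρ : F₁ →+* Cb := (β : Fb →+* Cb).comp ((e₁ : _ →+* Fb).comp
    (Algebra.TensorProduct.includeRight :
      F₁ →ₐ[E] (E ⧸ I.map (algebraMap A E)) ⊗[E] F₁).toRingHom)
  have hincl : ∀ b : E, e₁ ((1 : E ⧸ I.map (algebraMap A E)) ⊗ₜ[E] (algebraMap E F₁ b)) =
      χ (Ideal.Quotient.mk _ b) := by
    intro b
    have h1 : (1 : E ⧸ I.map (algebraMap A E)) ⊗ₜ[E] (algebraMap E F₁ b) =
        algebraMap (E ⧸ I.map (algebraMap A E)) ((E ⧸ I.map (algebraMap A E)) ⊗[E] F₁)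
          (Ideal.Quotient.mk _ b) := by
      rw [Algebra.TensorProduct.algebraMap_apply, Algebra.algebraMap_self, RingHom.id_apply,
        Algebra.algebraMap_eq_smul_one, TensorProduct.tmul_smul, TensorProduct.smul_tmul',
        Algebra.smul_def, mul_one]
      rfl
    rw [h1, e₁.commutes]
    rfl
  have hρ : ∀ b : E, ρ (algebraMap E F₁ b) = φ b := by
    intro b
    change β (e₁ ((1 : E ⧸ I.map (algebraMap A E)) ⊗ₜ[E] (algebraMap E F₁ b))) = φ b
    rw [hincl, hβχ]
  let φ₁ : F₁ →ₐ[A] Cb :=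
    { toRingHom := ρ
      commutes' := fun r => by
        change ρ (algebraMap E F₁ (algebraMap A E r)) = _
        rw [hρ, φ.commutes] }
  refine ⟨F₁, inferInstance, inferInstance, hAF₁, IsScalarTower.toAlgHom A E F₁, φ₁, ?_, ?_⟩
  · ext b
    exact hρ b
  · change algebraMap E F₁ a ∈ _
    have h0 : (1 : E ⧸ I.map (algebraMap A E)) ⊗ₜ[E] (algebraMap E F₁ a) = 0 := by
      apply e₁.injective
      rw [hincl, hχa, map_zero]
    have h1 : Algebra.TensorProduct.quotIdealMapEquivQuotTensor F₁ (I.map (algebraMap A E))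
        (Ideal.Quotient.mk _ (algebraMap E F₁ a)) = 0 := by
      rw [Algebra.TensorProduct.quotIdealMapEquivQuotTensor_mk, h0]
    have h2 : Ideal.Quotient.mk ((I.map (algebraMap A E)).map (algebraMap E F₁))
        (algebraMap E F₁ a) = 0 := by
      apply (Algebra.TensorProduct.quotIdealMapEquivQuotTensor F₁
        (I.map (algebraMap A E))).injective
      rw [h1, map_zero]
    rw [Ideal.Quotient.eq_zero_iff_mem, Ideal.map_map] at h2
    exact h2

theorem ker_etπ : RingHom.ker (etπ A Cb) = I.map (algebraMap A (Et A Cb)) := by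
  apply le_antisymm
  · intro c hc
    obtain ⟨x, a, rfl⟩ := etι_jointly_surjective A Cb c
    have ha : x.φ a = 0 := by rw [← etπ_ι]; exact hc
    have := obj_etale Cb x
    obtain ⟨F, _, _, hF, g, φ', hg, hga⟩ := exists_kill A I Cb h x.Q x.φ a ha
    obtain ⟨z, ez, hz⟩ := exists_obj etaleClass_isGood F hF φ'
    let f : x ⟶ z := ⟨ez.symm.toAlgHom.comp g, by
      rw [hz]
      ext b
      have := congrArg (fun m => m b) hg
      simpa using this⟩
    rw [← etι_map A Cb f a]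
    exact mem_map_of_algHom A I ((etι A Cb z).comp ez.symm.toAlgHom) hga
  · rw [Ideal.map_le_iff_le_comap]
    intro r hr
    change etπ A Cb (algebraMap A (Et A Cb) r) = 0
    rw [(etπ A Cb).commutes, IsScalarTower.algebraMap_apply A (A ⧸ I) Cb]
    have : algebraMap A (A ⧸ I) r = 0 := Ideal.Quotient.eq_zero_iff_mem.mpr hr
    rw [this, map_zero]

/-- **Stacks 097R**: every ind-étale `A/I`-algebra lifts to an ind-étale `A`-algebra. -/
theorem exists_indEtale_lift : ∃ (C : Type u) (_ : CommRing C) (_ : Algebra A C),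
    EtPBC.IsIndEtale A C ∧ Nonempty ((C ⧸ I.map (algebraMap A C)) ≃ₐ[A ⧸ I] Cb) := by
  refine ⟨Et A Cb, inferInstance, inferInstance, isIndEtale_Et A Cb, ⟨?_⟩⟩
  let e1 : (Et A Cb ⧸ I.map (algebraMap A (Et A Cb))) ≃ₐ[A]
      (Et A Cb ⧸ RingHom.ker (etπ A Cb)) :=
    Ideal.quotientEquivAlgOfEq A (ker_etπ A I Cb h).symm
  let e2 : (Et A Cb ⧸ RingHom.ker (etπ A Cb)) ≃ₐ[A] Cb :=
    Ideal.quotientKerAlgEquivOfSurjective (etπ_surjective A I Cb h)
  exact AlgEquiv.extendScalarsOfSurjective Ideal.Quotient.mk_surjective (e1.trans e2)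

end LiftQuot

end Groth.Agent.Lib.Helper4
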