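import Mathlib
import Groth.Prelude.Def_PBC

/-!
# Helper library (helper4): ind-Zariski quotients

`isIndZariski_quotient_iSup`: a quotient of `A` by a directed union of ideals `I p` such that every
`A ⧸ I p` is a local isomorphism over `A` is ind-Zariski.
-/

set_option autoImplicit false

universe u

open CategoryTheory CategoryTheory.Limits

namespace Groth.Agent.Lib.Helper4.IndZariski

section Quot
variable {A : Type u} [CommRing A] {P : Type u} [Preorder P]
  (I : P → Ideal A) (hI : Monotone I)

/-- the quotient object `A → A ⧸ K` of `Under A` -/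
noncomputable abbrev qObj (K : Ideal A) : Under (CommRingCat.of A) :=
  Under.mk (CommRingCat.ofHom (algebraMap A (A ⧸ K)))

/-- maps out of quotient objects in `Under A` are unique -/
theorem qObj_hom_ext {K : Ideal A} {Z : Under (CommRingCat.of A)} (f g : qObj K ⟶ Z) : f = g := by
  apply Under.UnderMorphism.ext
  apply CommRingCat.hom_ext
  apply Ideal.Quotient.ringHom_ext
  have hf := Under.w f
  have hg := Under.w g
  have := hf.trans hg.symm
  exact congrArg CommRingCat.Hom.hom this

/-- the map between quotient objects induced by an inclusion of ideals -/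
noncomputable def qMap {K L : Ideal A} (h : K ≤ L) : qObj K ⟶ qObj L :=
  Under.homMk (CommRingCat.ofHom (Ideal.Quotient.factor h)) (by
    apply CommRingCat.hom_ext
    ext a
    rfl)

/-- the diagram of quotients -/
noncomputable def qDiagram : P ⥤ Under (CommRingCat.of A) where
  obj p := qObj (I p)
  map f := qMap (hI (leOfHom f))
  map_id _ := qObj_hom_ext _ _
  map_comp _ _ := qObj_hom_ext _ _

/-- the cocone with point `A ⧸ ⨆ p, I p` -/
noncomputable def qCocone : Cocone (qDiagram I hI) where
  pt := qObj (⨆ p, I p)
  ι := { app := fun p => qMap (le_iSup I p)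
         naturality := fun _ _ _ => qObj_hom_ext _ _ }

/-- the cocone is a colimit cocone -/
noncomputable def qIsColimit : IsColimit (qCocone I hI) where
  desc s := Under.homMk (CommRingCat.ofHom (Ideal.Quotient.lift (⨆ p, I p) s.pt.hom.hom (by
      intro a ha
      have hle : (⨆ p, I p) ≤ RingHom.ker s.pt.hom.hom := by
        apply iSup_le
        intro p a ha
        rw [RingHom.mem_ker]
        have h1 := Under.w (s.ι.app p)
        have h2 := congrArg (fun φ => φ.hom a) h1
        simp only [CommRingCat.hom_comp, RingHom.comp_apply] at h2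
        change (CommRingCat.Hom.hom (Under.Hom.right (s.ι.app p)))
          ((CommRingCat.Hom.hom ((qDiagram I hI).obj p).hom) a) =
            (CommRingCat.Hom.hom s.pt.hom) a at h2
        rw [← h2]
        have h3 : ((qDiagram I hI).obj p).hom.hom a = 0 := by
          change algebraMap A (A ⧸ I p) a = 0
          exact Ideal.Quotient.eq_zero_iff_mem.mpr ha
        rw [h3, map_zero]
      exact hle ha))) (by
    apply CommRingCat.hom_ext
    ext a
    rfl)
  fac _ _ := qObj_hom_ext _ _
  uniq _ _ _ := qObj_hom_ext _ _

end Quot

/-- A quotient of `A` by a directed union of ideals with local-isomorphism quotients is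
ind-Zariski. -/
theorem isIndZariski_quotient_iSup {A : Type u} [CommRing A] {P : Type u} [Preorder P]
    [IsDirected P (· ≤ ·)] [Nonempty P] (I : P → Ideal A) (hI : Monotone I)
    (hloc : ∀ p, Algebra.IsLocalIso A (A ⧸ I p)) :
    EtPBC.IsIndZariski A (A ⧸ ⨆ p, I p) := by
  refine ⟨P, inferInstance, inferInstance, qDiagram I hI, qCocone I hI, qIsColimit I hI, ?_,
    ⟨Iso.refl _⟩⟩
  intro p
  have h := hloc p
  have heq : ((qDiagram I hI).obj p).hom.hom.toAlgebra =
      (inferInstance : Algebra A (A ⧸ I p)) := Algebra.algebra_ext _ _ (fun r => rfl)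
  change @Algebra.IsLocalIso A (A ⧸ I p) _ _ ((qDiagram I hI).obj p).hom.hom.toAlgebra
  rw [heq]
  exact h

end Groth.Agent.Lib.Helper4.IndZariski
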