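import Mathlib
import Groth.Agent.Lib.Helper4.LocSec

/-!
# Helper library (helper4): ind-Zariski algebras identify local rings
-/

set_option autoImplicit false
set_option linter.unusedSectionVars false

universe u

namespace Groth.Agent.Lib.Helper4.LocSec

section LocalIso

variable {A E : Type u} [CommRing A] [CommRing E] [Algebra A E] [Algebra.IsLocalIso A E]
  (q : Ideal E) [q.IsPrime]

/-- the data of a standard open neighbourhood of a prime in a local isomorphism -/
theorem exists_standard_nbhd : ∃ (g : E) (f : A), g ∉ q ∧ algebraMap A E f ∉ q ∧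
    (∀ e : E, ∃ (a : A) (n k : ℕ), g ^ k * (e * algebraMap A E f ^ n) = g ^ k * algebraMap A E a) ∧
    (∀ a : A, ∀ k : ℕ, g ^ k * algebraMap A E a = 0 → ∃ j : ℕ, f ^ j * a = 0) := by
  obtain ⟨g, hgq, hg⟩ := Algebra.IsLocalIso.exists_notMem_isStandardOpenImmersion (R := A) q
  obtain ⟨f, hf⟩ := Algebra.IsStandardOpenImmersion.exists_away A (Localization.Away g)
  have hdisj : Disjoint (Submonoid.powers g : Set E) (q : Set E) := by
    rw [Set.disjoint_left]
    rintro _ ⟨k, rfl⟩ hk
    exact hgq (Ideal.IsPrime.mem_of_pow_mem inferInstance k hk)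
  have hne : q.map (algebraMap E (Localization.Away g)) ≠ ⊤ :=
    (IsLocalization.map_algebraMap_ne_top_iff_disjoint (Submonoid.powers g) _ q).2 hdisj
  have htower : ∀ a : A, algebraMap A (Localization.Away g) a =
      algebraMap E (Localization.Away g) (algebraMap A E a) := fun a =>
    IsScalarTower.algebraMap_apply A E (Localization.Away g) a
  refine ⟨g, f, hgq, ?_, ?_, ?_⟩
  · intro hfq
    have hunit : IsUnit (algebraMap A (Localization.Away g) f) :=
      IsLocalization.Away.algebraMap_isUnit f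
    rw [htower] at hunit
    exact hne (Ideal.eq_top_of_isUnit_mem _ (Ideal.mem_map_of_mem _ hfq) hunit)
  · intro e
    obtain ⟨n, a, ha⟩ := IsLocalization.Away.surj f (algebraMap E (Localization.Away g) e)
    rw [htower, htower, ← map_pow, ← map_mul,
      IsLocalization.eq_iff_exists (Submonoid.powers g)] at ha
    obtain ⟨⟨_, k, rfl⟩, hc⟩ := ha
    exact ⟨a, n, k, hc⟩
  · intro a k hk
    have h0 : algebraMap A (Localization.Away g) a = 0 := by
      rw [htower]
      have hu : IsUnit (algebraMap E (Localization.Away g) (g ^ k)) :=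
        IsLocalization.map_units _ (⟨g ^ k, k, rfl⟩ : Submonoid.powers g)
      refine hu.mul_right_eq_zero.1 ?_
      rw [← map_mul, hk, map_zero]
    obtain ⟨⟨_, j, rfl⟩, hj⟩ := (IsLocalization.map_eq_zero_iff (Submonoid.powers f) _ a).1 h0
    exact ⟨j, hj⟩

theorem localIso_surj (e s : E) (hs : s ∉ q) : ∃ a c : A, algebraMap A E c ∉ q ∧
    ∃ t : E, t ∉ q ∧ t * (algebraMap A E c * e) = t * (s * algebraMap A E a) := by
  obtain ⟨g, f, hgq, hfq, hsurj, -⟩ := exists_standard_nbhd (A := A) q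
  obtain ⟨a₁, n₁, k₁, h₁⟩ := hsurj e
  obtain ⟨a₂, n₂, k₂, h₂⟩ := hsurj s
  have hq := (inferInstance : q.IsPrime)
  have hgk : ∀ k : ℕ, g ^ k ∉ q := fun k hk => hgq (hq.mem_of_pow_mem k hk)
  have hfk : ∀ k : ℕ, algebraMap A E f ^ k ∉ q := fun k hk => hfq (hq.mem_of_pow_mem k hk)
  have ha₂ : algebraMap A E a₂ ∉ q := by
    intro h
    have : g ^ k₂ * (s * algebraMap A E f ^ n₂) ∈ q := by rw [h₂]; exact q.mul_mem_left _ h
    rcases hq.mem_or_mem this with h' | h'
    · exact hgk _ h'
    · rcases hq.mem_or_mem h' with h'' | h''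
      · exact hs h''
      · exact hfk _ h''
  refine ⟨a₁ * f ^ n₂, a₂ * f ^ n₁, ?_, g ^ k₁ * g ^ k₂, ?_, ?_⟩
  · rw [map_mul, map_pow]
    exact fun h => (hq.mem_or_mem h).elim ha₂ (hfk _)
  · exact fun h => (hq.mem_or_mem h).elim (hgk _) (hgk _)
  · rw [map_mul, map_mul, map_pow, map_pow]
    calc g ^ k₁ * g ^ k₂ * (algebraMap A E a₂ * algebraMap A E f ^ n₁ * e)
        = (g ^ k₂ * algebraMap A E a₂) * (g ^ k₁ * (e * algebraMap A E f ^ n₁)) := by ring
      _ = (g ^ k₂ * algebraMap A E a₂) * (g ^ k₁ * algebraMap A E a₁) := by rw [h₁]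
      _ = (g ^ k₁ * algebraMap A E a₁) * (g ^ k₂ * (s * algebraMap A E f ^ n₂)) := by
          rw [h₂]; ring
      _ = g ^ k₁ * g ^ k₂ * (s * (algebraMap A E a₁ * algebraMap A E f ^ n₂)) := by ring

theorem localIso_inj (a : A) (t : E) (ht : t ∉ q) (h : t * algebraMap A E a = 0) :
    ∃ c : A, algebraMap A E c ∉ q ∧ c * a = 0 := by
  obtain ⟨g, f, hgq, hfq, hsurj, hinj⟩ := exists_standard_nbhd (A := A) q
  obtain ⟨a₃, n, k, h₃⟩ := hsurj t
  have hq := (inferInstance : q.IsPrime)
  have hgk : ∀ k : ℕ, g ^ k ∉ q := fun k hk => hgq (hq.mem_of_pow_mem k hk)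
  have hfk : ∀ k : ℕ, algebraMap A E f ^ k ∉ q := fun k hk => hfq (hq.mem_of_pow_mem k hk)
  have ha₃ : algebraMap A E a₃ ∉ q := by
    intro h'
    have : g ^ k * (t * algebraMap A E f ^ n) ∈ q := by rw [h₃]; exact q.mul_mem_left _ h'
    rcases hq.mem_or_mem this with h' | h'
    · exact hgk _ h'
    · rcases hq.mem_or_mem h' with h'' | h''
      · exact ht h''
      · exact hfk _ h''
  have h4 : g ^ k * algebraMap A E (a₃ * a) = 0 := by
    rw [map_mul, ← mul_assoc, ← h₃]
    calc g ^ k * (t * algebraMap A E f ^ n) * algebraMap A E a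
        = g ^ k * algebraMap A E f ^ n * (t * algebraMap A E a) := by ring
      _ = 0 := by rw [h, mul_zero]
  obtain ⟨j, hj⟩ := hinj (a₃ * a) k h4
  refine ⟨f ^ j * a₃, ?_, by rw [mul_assoc]; exact hj⟩
  rw [map_mul, map_pow]
  exact fun h' => (hq.mem_or_mem h').elim (hfk _) ha₃

end LocalIso

section Ind

variable {A B : Type u} [CommRing A] [CommRing B] [Algebra A B]
  (hB : HasFactorization (localIsoClass A) B) (q : Ideal B) [q.IsPrime]

include hB

theorem ind_surj (b s : B) (hs : s ∉ q) : ∃ a c : A, algebraMap A B c ∉ q ∧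
    ∃ t : B, t ∉ q ∧ t * (algebraMap A B c * b) = t * (s * algebraMap A B a) := by
  let ψ : MvPolynomial (Fin 2) A →ₐ[A] B := MvPolynomial.aeval ![b, s]
  obtain ⟨E, _, _, hE, α, β, hαβ⟩ := hB _ ψ
  haveI : Algebra.IsLocalIso A E := hE
  have h0 : β (α (MvPolynomial.X 0)) = b := by
    have := AlgHom.congr_fun hαβ (MvPolynomial.X 0)
    simpa [ψ] using this
  have h1 : β (α (MvPolynomial.X 1)) = s := by
    have := AlgHom.congr_fun hαβ (MvPolynomial.X 1)
    simpa [ψ] using this
  haveI : (q.comap β).IsPrime := Ideal.comap_isPrime β q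
  have hs' : α (MvPolynomial.X 1) ∉ q.comap β := by
    rw [Ideal.mem_comap, h1]; exact hs
  obtain ⟨a, c, hc, t, ht, heq⟩ := localIso_surj (A := A) (q.comap β) (α (MvPolynomial.X 0))
    (α (MvPolynomial.X 1)) hs'
  refine ⟨a, c, ?_, β t, ht, ?_⟩
  · rw [Ideal.mem_comap, AlgHom.commutes] at hc; exact hc
  · have := congrArg β heq
    simpa only [map_mul, AlgHom.commutes, h0, h1] using this

theorem ind_inj (a : A) (t : B) (ht : t ∉ q) (h : t * algebraMap A B a = 0) :
    ∃ c : A, algebraMap A B c ∉ q ∧ c * a = 0 := by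
  let r : MvPolynomial (Fin 1) A := MvPolynomial.C a * MvPolynomial.X 0
  have hfp : Algebra.FinitePresentation A (MvPolynomial (Fin 1) A ⧸ Ideal.span {r}) :=
    Algebra.FinitePresentation.quotient (Submodule.fg_span_singleton r)
  let ψ : (MvPolynomial (Fin 1) A ⧸ Ideal.span {r}) →ₐ[A] B :=
    Ideal.Quotient.liftₐ _ (MvPolynomial.aeval ![t]) (by
      intro x hx
      obtain ⟨y, rfl⟩ := Ideal.mem_span_singleton'.1 hx
      rw [map_mul]
      have : MvPolynomial.aeval ![t] r = 0 := by
        simp only [r, map_mul, MvPolynomial.aeval_C, MvPolynomial.aeval_X]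
        rw [mul_comm]; exact h
      rw [this, mul_zero])
  obtain ⟨E, _, _, hE, α, β, hαβ⟩ := hB _ ψ
  haveI : Algebra.IsLocalIso A E := hE
  let y : E := α (Ideal.Quotient.mk _ (MvPolynomial.X 0))
  have hy : β y = t := by
    have := AlgHom.congr_fun hαβ (Ideal.Quotient.mk _ (MvPolynomial.X 0))
    rw [AlgHom.comp_apply] at this
    rw [this]
    change MvPolynomial.aeval ![t] (MvPolynomial.X 0) = t
    simp
  have hay : y * algebraMap A E a = 0 := by
    have h0 : (Ideal.Quotient.mk (Ideal.span {r})) r = 0 :=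
      Ideal.Quotient.eq_zero_iff_mem.2 (Ideal.subset_span rfl)
    have h1 : algebraMap A (MvPolynomial (Fin 1) A ⧸ Ideal.span {r}) a *
        Ideal.Quotient.mk _ (MvPolynomial.X 0) = 0 := by
      rw [← h0]
      simp only [r, map_mul]
      rfl
    have := congrArg α h1
    rw [map_mul, AlgHom.commutes, map_zero] at this
    rw [mul_comm]; exact this
  haveI : (q.comap β).IsPrime := Ideal.comap_isPrime β q
  have hy' : y ∉ q.comap β := by rw [Ideal.mem_comap, hy]; exact ht
  obtain ⟨c, hc, hca⟩ := localIso_inj (A := A) (q.comap β) a y hy' hay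
  refine ⟨c, ?_, hca⟩
  rw [Ideal.mem_comap, AlgHom.commutes] at hc; exact hc

theorem localRingHom_bijective_of_hasFactorization :
    Function.Bijective (Localization.localRingHom (q.comap (algebraMap A B)) q
      (algebraMap A B) rfl) := by
  constructor
  · rw [injective_iff_map_eq_zero]
    intro x hx
    obtain ⟨a, s, rfl⟩ := IsLocalization.exists_mk'_eq (q.comap (algebraMap A B)).primeCompl x
    rw [Localization.localRingHom_mk', IsLocalization.mk'_eq_zero_iff] at hx
    obtain ⟨t, ht⟩ := hx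
    obtain ⟨c, hc, hca⟩ := ind_inj hB q a t.1 t.2 ht
    exact (IsLocalization.mk'_eq_zero_iff a s).2 ⟨⟨c, hc⟩, hca⟩
  · intro y
    obtain ⟨b, s, rfl⟩ := IsLocalization.exists_mk'_eq q.primeCompl y
    obtain ⟨a, c, hc, t, ht, heq⟩ := ind_surj hB q b s.1 s.2
    refine ⟨IsLocalization.mk' _ a (⟨c, hc⟩ : (q.comap (algebraMap A B)).primeCompl), ?_⟩
    rw [Localization.localRingHom_mk', IsLocalization.eq]
    exact ⟨⟨t, ht⟩, by
      change t * (s.1 * algebraMap A B a) = t * (algebraMap A B c * b)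
      exact heq.symm⟩

end Ind

theorem identifiesLocalRings_of_isIndZariski {A B : Type u} [CommRing A] [CommRing B]
    [Algebra A B] (h : EtPBC.IsIndZariski A B) : EtPBC.IdentifiesLocalRings A B := fun q =>
  localRingHom_bijective_of_hasFactorization ((isIndZariski_iff_hasFactorization B).1 h) q.asIdeal

end Groth.Agent.Lib.Helper4.LocSec
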