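import Mathlib

/-!
# Bijectivity of local ring homs passes to generalizations (helper4)

If `f : R → S`, `M` a prime of `S` with `R_{f⁻¹M} → S_M` bijective, and `Q ≤ M` a prime, then
`R_{f⁻¹Q} → S_Q` is bijective.
-/

set_option autoImplicit false
universe u

namespace Groth.Agent.Lib.Helper4.LocGen

variable {R S : Type*} [CommRing R] [CommRing S] (f : R →+* S)

/-- elementwise injectivity condition at a prime `Q` -/
def InjAt (Q : Ideal S) : Prop :=
  ∀ r : R, (∃ t : S, t ∉ Q ∧ t * f r = 0) → ∃ w : R, w ∉ Q.comap f ∧ w * r = 0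

/-- elementwise surjectivity condition at a prime `Q` -/
def SurjAt (Q : Ideal S) : Prop :=
  ∀ s : S, ∃ (r u : R) (t : S), u ∉ Q.comap f ∧ t ∉ Q ∧ t * (s * f u) = t * f r

variable {f}

theorem injAt_of_bijective (Q : Ideal S) [Q.IsPrime]
    (h : Function.Injective (Localization.localRingHom (Q.comap f) Q f rfl)) : InjAt f Q := by
  rintro r ⟨t, ht, htr⟩
  have h1 : Localization.localRingHom (Q.comap f) Q f rfl
      (algebraMap R (Localization.AtPrime (Q.comap f)) r) = 0 := by
    rw [Localization.localRingHom_to_map, IsLocalization.map_eq_zero_iff Q.primeCompl]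
    exact ⟨⟨t, ht⟩, htr⟩
  have h2 : algebraMap R (Localization.AtPrime (Q.comap f)) r = 0 :=
    h (h1.trans (map_zero _).symm)
  rw [IsLocalization.map_eq_zero_iff (Q.comap f).primeCompl] at h2
  obtain ⟨w, hw⟩ := h2
  exact ⟨w.1, w.2, hw⟩

theorem surjAt_of_bijective (Q : Ideal S) [Q.IsPrime]
    (h : Function.Surjective (Localization.localRingHom (Q.comap f) Q f rfl)) : SurjAt f Q := by
  intro s
  obtain ⟨x, hx⟩ := h (algebraMap S (Localization.AtPrime Q) s)
  obtain ⟨r, u, rfl⟩ := IsLocalization.exists_mk'_eq (Q.comap f).primeCompl x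
  rw [Localization.localRingHom_mk', IsLocalization.mk'_eq_iff_eq_mul, ← map_mul,
    IsLocalization.eq_iff_exists Q.primeCompl] at hx
  obtain ⟨c, hc⟩ := hx
  exact ⟨r, u.1, c.1, u.2, c.2, hc.symm⟩

theorem bijective_of_injAt_surjAt (Q : Ideal S) [Q.IsPrime] (hi : InjAt f Q) (hs : SurjAt f Q) :
    Function.Bijective (Localization.localRingHom (Q.comap f) Q f rfl) := by
  constructor
  · rw [injective_iff_map_eq_zero]
    intro x hx
    obtain ⟨r, u, rfl⟩ := IsLocalization.exists_mk'_eq (Q.comap f).primeCompl x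
    rw [Localization.localRingHom_mk', IsLocalization.mk'_eq_zero_iff] at hx
    obtain ⟨t, ht⟩ := hx
    obtain ⟨w, hw, hwr⟩ := hi r ⟨t.1, t.2, ht⟩
    rw [IsLocalization.mk'_eq_zero_iff]
    exact ⟨⟨w, hw⟩, hwr⟩
  · intro y
    obtain ⟨s, t', rfl⟩ := IsLocalization.exists_mk'_eq Q.primeCompl y
    obtain ⟨r, u, t, hu, ht, h1⟩ := hs s
    obtain ⟨r', u', t'', hu', ht'', h2⟩ := hs t'.1
    have hr' : r' ∉ Q.comap f := by
      intro hr'
      have h3 : t'' * (t'.1 * f u') ∈ Q := by
        rw [h2]
        exact Q.mul_mem_left _ hr'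
      rcases (Ideal.IsPrime.mem_or_mem inferInstance h3) with h4 | h4
      · exact ht'' h4
      · rcases (Ideal.IsPrime.mem_or_mem inferInstance h4) with h5 | h5
        · exact t'.2 h5
        · exact hu' h5
    have hur' : u * r' ∈ (Q.comap f).primeCompl := by
      intro hmem
      rcases (Ideal.IsPrime.mem_or_mem inferInstance hmem) with h5 | h5
      · exact hu h5
      · exact hr' h5
    refine ⟨IsLocalization.mk' _ (r * u') ⟨u * r', hur'⟩, ?_⟩
    rw [Localization.localRingHom_mk', IsLocalization.eq]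
    refine ⟨⟨t * t'', Q.primeCompl.mul_mem ht ht''⟩, ?_⟩
    simp only [map_mul]
    calc t * t'' * (t'.1 * (f r * f u')) = (t'' * (t'.1 * f u')) * (t * f r) := by ring
      _ = (t'' * f r') * (t * (s * f u)) := by rw [h2, h1]
      _ = t * t'' * (f u * f r' * s) := by ring

/-- **Bijectivity passes to generalizations.** -/
theorem bijective_of_le (M Q : Ideal S) [M.IsPrime] [Q.IsPrime] (hQM : Q ≤ M)
    (h : Function.Bijective (Localization.localRingHom (M.comap f) M f rfl)) :
    Function.Bijective (Localization.localRingHom (Q.comap f) Q f rfl) := by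
  have hiM := injAt_of_bijective M h.1
  have hsM := surjAt_of_bijective M h.2
  have hPN : Q.comap f ≤ M.comap f := Ideal.comap_mono hQM
  refine bijective_of_injAt_surjAt Q ?_ ?_
  · rintro r ⟨t, ht, htr⟩
    obtain ⟨r', u', v, hu', hv, h2⟩ := hsM t
    have h3 : v * f (r' * r) = 0 := by
      rw [map_mul, ← mul_assoc, ← h2]
      calc v * (t * f u') * f r = v * f u' * (t * f r) := by ring
        _ = 0 := by rw [htr, mul_zero]
    obtain ⟨w, hw, hwr⟩ := hiM (r' * r) ⟨v, hv, h3⟩
    have hr' : r' ∉ Q.comap f := by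
      intro hr'
      have h4 : v * (t * f u') ∈ Q := by
        rw [h2]
        exact Q.mul_mem_left _ hr'
      rcases (Ideal.IsPrime.mem_or_mem inferInstance h4) with h5 | h5
      · exact hv (hQM h5)
      · rcases (Ideal.IsPrime.mem_or_mem inferInstance h5) with h6 | h6
        · exact ht h6
        · exact hu' (hPN h6)
    refine ⟨w * r', ?_, by rw [mul_assoc, hwr]⟩
    intro hmem
    rcases (Ideal.IsPrime.mem_or_mem inferInstance hmem) with h5 | h5
    · exact hw (hPN h5)
    · exact hr' h5
  · intro s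
    obtain ⟨r, u, t, hu, ht, h1⟩ := hsM s
    exact ⟨r, u, t, fun h => hu (hPN h), fun h => ht (hQM h), h1⟩

end Groth.Agent.Lib.Helper4.LocGen
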