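import Mathlib
import Groth.Agent.Lib.Helper4.LocSecPull

/-!
# Helper library (helper4): comparison of locally-fraction sections over `A` and over `B`

If `A → B` induces isomorphisms `A_{p l ∩ A} ≅ B_{p l}` for a family of primes `p l` of `B`, then
the rings of locally-fraction sections over `A` and over `B` agree.
-/

set_option autoImplicit false
set_option linter.unusedSectionVars false

universe u

namespace Groth.Agent.Lib.Helper4.LocSec

section Compare

variable {A B : Type u} [CommRing A] [CommRing B] [Algebra A B]
  {Λ : Type u} [TopologicalSpace Λ] (pB : Λ → PrimeSpectrum B)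

/-- the contracted family of primes -/
def pContr : Λ → PrimeSpectrum A := fun l => PrimeSpectrum.comap (algebraMap A B) (pB l)

theorem isConsContinuous_pContr (h : IsConsContinuous pB) :
    IsConsContinuous (pContr (A := A) pB) := fun g => h (algebraMap A B g)

theorem hleC (l : Λ) : primeFamily (pContr (A := A) pB) (id l) ≤
    (primeFamily pB l).comap (algebraMap A B) := fun _ ha => ha

/-- the comparison map -/
noncomputable def ΘC : LS (primeFamily (pContr (A := A) pB)) →+* LS (primeFamily pB) :=
  pull (algebraMap A B) (primeFamily (pContr (A := A) pB)) (primeFamily pB)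
    id continuous_id (hleC pB)

/-- the map on local rings -/
noncomputable def θC (l : Λ) : Localization (primeFamily (pContr (A := A) pB) l) →+*
    Localization (primeFamily pB l) :=
  locMap (algebraMap A B) (primeFamily (pContr (A := A) pB)) (primeFamily pB) id (hleC pB) l

theorem θC_algebraMap (l : Λ) (a : A) :
    θC pB l (algebraMap A (Localization (primeFamily (pContr (A := A) pB) l)) a) =
      algebraMap B _ (algebraMap A B a) :=
  locMap_algebraMap _ _ _ _ _ _ _

theorem ΘC_apply (s : LS (primeFamily (pContr (A := A) pB))) (l : Λ) :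
    (ΘC pB s).1 l = θC pB l (s.1 l) := rfl

theorem ΘC_algebraMap (a : A) :
    ΘC pB (algebraMap A (LS (primeFamily (pContr (A := A) pB))) a) =
      algebraMap B (LS (primeFamily pB)) (algebraMap A B a) :=
  pull_algebraMap (algebraMap A B) _ _ id continuous_id (hleC pB) a

variable (hp : IsConsContinuous pB)
  (hloc : ∀ l, Function.Bijective (Localization.localRingHom
    ((pB l).asIdeal.comap (algebraMap A B)) (pB l).asIdeal (algebraMap A B) rfl))

include hloc in
theorem θC_bijective (l : Λ) : Function.Bijective (θC (A := A) pB l) := hloc l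

include hloc in
theorem ΘC_injective : Function.Injective (ΘC (A := A) pB) := by
  rw [injective_iff_map_eq_zero]
  intro s hs
  refine Subtype.ext (funext fun l => ?_)
  have h1 : (ΘC pB s).1 l = 0 := by rw [hs]; rfl
  rw [ΘC_apply] at h1
  exact (injective_iff_map_eq_zero _).1 (θC_bijective pB hloc l).1 _ h1

include hp hloc in
theorem ΘC_surjective : Function.Surjective (ΘC (A := A) pB) := by
  intro t
  have hθ : ∀ l : Λ, Function.Bijective (θC (A := A) pB l) := θC_bijective pB hloc
  choose s hs using (show ∀ l : Λ, ∃ y : Localization (primeFamily (pContr (A := A) pB) l),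
    θC pB l y = t.1 l from fun l => (hθ l).2 (t.1 l))
  have hfrac : IsLocFrac (primeFamily (pContr (A := A) pB)) s := by
    intro l₀
    obtain ⟨W, hW, hl₀, b, d, hWd⟩ := t.2 l₀
    obtain ⟨⟨a, c⟩, hac⟩ := IsLocalization.surj (primeFamily (pContr (A := A) pB) l₀) (s l₀)
    have h1 := congrArg (θC pB l₀) hac
    rw [map_mul, hs l₀, θC_algebraMap, θC_algebraMap] at h1
    have h2 := (hWd l₀ hl₀).2
    have h3 : algebraMap B (Localization (primeFamily pB l₀))
        (b * algebraMap A B c.1) = algebraMap B _ (d * algebraMap A B a) := by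
      rw [map_mul, map_mul, ← h2, ← h1]
      ring
    obtain ⟨u, hu⟩ := (IsLocalization.eq_iff_exists (primeFamily pB l₀) _).1 h3
    refine ⟨W ∩ {l | u.1 ∈ primeFamily pB l} ∩
        {l | algebraMap A B c.1 ∈ primeFamily pB l}, ?_, ⟨⟨hl₀, u.2⟩, c.2⟩,
        a, c.1, fun l hl => ⟨hl.2, ?_⟩⟩
    · exact (hW.inter (isOpenFamily_primeFamily hp u.1)).inter
        (isOpenFamily_primeFamily hp (algebraMap A B c.1))
    · refine (hθ l).1 ?_
      rw [map_mul, hs l, θC_algebraMap, θC_algebraMap]
      have hd := (hWd l hl.1.1).1
      have h4 := (hWd l hl.1.1).2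
      have hunitd := isUnit_algebraMap_of_mem (S := primeFamily pB) hd
      have hunitu := isUnit_algebraMap_of_mem (S := primeFamily pB) hl.1.2
      have h5 : algebraMap B (Localization (primeFamily pB l))
          (b * algebraMap A B c.1) = algebraMap B _ (d * algebraMap A B a) := by
        refine hunitu.mul_left_cancel ?_
        rw [← map_mul, ← map_mul, hu]
      rw [map_mul, map_mul, ← h4] at h5
      refine hunitd.mul_left_cancel ?_
      rw [← h5]
      ring
  refine ⟨⟨s, hfrac⟩, Subtype.ext (funext fun l => ?_)⟩
  rw [ΘC_apply]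
  exact hs l

include hp hloc in
theorem ΘC_bijective : Function.Bijective (ΘC (A := A) pB) :=
  ⟨ΘC_injective pB hloc, ΘC_surjective pB hp hloc⟩

end Compare

end Groth.Agent.Lib.Helper4.LocSec
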