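import Mathlib
import Groth.Prelude
import Groth.Agent.Lib.Helper4.LocSecStone
import Groth.Agent.Lib.Helper4.LocSecUniv
import Groth.Agent.Lib.Helper4.IndZariskiLocal
import Groth.Agent.Lib.Helper4.WLocalSquare

/-!
# Helper library (helper4): the extremally disconnected cover of a w-local ring along its
closed points

For a w-local ring `C`, `DV C = LS (primeFamily (pV C))` where `pV : β(closed points) → Spec C`
is the canonical map from the Stone–Čech compactification of the discrete set of closed points.
It is faithfully flat and ind-Zariski over `C`, w-local with extremally disconnected `π₀`, and its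
closed points lie over closed points of `C`.
-/

set_option autoImplicit false
set_option linter.unusedSectionVars false
set_option linter.style.haveILetI false

universe u

namespace Groth.Agent.Lib.Helper4.LocSec

section FF

variable {A : Type u} [CommRing A] {Λ : Type u} [TopologicalSpace Λ] {p : Λ → PrimeSpectrum A}
  (hp : IsConsContinuous p) [CompactSpace Λ] (hΛ : ClopenBasis Λ)

include hp hΛ

theorem faithfullyFlat_of_forall_exists_le (h : ∀ q : PrimeSpectrum A, ∃ l, q ≤ p l) :
    Module.FaithfullyFlat A (LS (primeFamily p)) := by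
  have : Module.Flat A (LS (primeFamily p)) := flat (isOpenFamily_primeFamily hp) hΛ
  refine Module.FaithfullyFlat.of_comap_surjective fun q => ?_
  obtain ⟨l, hl⟩ := h q
  -- the prime of the localization at `p l` corresponding to `q`
  have hdisj : Disjoint ((p l).asIdeal.primeCompl : Set A) (q.asIdeal : Set A) := by
    rw [Set.disjoint_left]
    intro a ha haq
    exact ha (hl haq)
  have hq' : (q.asIdeal.map (algebraMap A (Localization (primeFamily p l)))).IsPrime :=
    IsLocalization.isPrime_of_isPrime_disjoint (primeFamily p l) _ _ q.2 hdisj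
  have hcomap : (q.asIdeal.map (algebraMap A (Localization (primeFamily p l)))).comap
      (algebraMap A (Localization (primeFamily p l))) = q.asIdeal :=
    IsLocalization.under_map_of_isPrime_disjoint (primeFamily p l) _ q.2 hdisj
  refine ⟨PrimeSpectrum.comap (ev (primeFamily p) l).toRingHom ⟨_, hq'⟩, ?_⟩
  refine PrimeSpectrum.ext ?_
  change Ideal.comap (algebraMap A (LS (primeFamily p)))
    (Ideal.comap (ev (primeFamily p) l).toRingHom _) = q.asIdeal
  rw [Ideal.comap_comap]
  have : (ev (primeFamily p) l).toRingHom.comp (algebraMap A (LS (primeFamily p))) =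
      algebraMap A (Localization (primeFamily p l)) := AlgHom.comp_algebraMap _
  rw [this, hcomap]

end FF

section Cover

variable (C : Type u) [CommRing C]

/-- the closed subset `V(J)` of closed points, with the discrete topology -/
def DiscV : Type u := VI (JB C)

instance : TopologicalSpace (DiscV C) := ⊥

instance : DiscreteTopology (DiscV C) := ⟨rfl⟩

/-- the Stone-Čech compactification of the discrete set of closed points -/
abbrev ΛV : Type u := StoneCech (DiscV C)

instance : ExtremallyDisconnected (ΛV C) :=
  CompactT2.Projective.extremallyDisconnected StoneCech.projective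

theorem clopenBasis_ΛV : ClopenBasis (ΛV C) := clopenBasis_of_profinite _

variable {C} (hC : ProEtW.IsWLocal (PrimeSpectrum C))

/-- the identity map from the discrete to the Zariski topology on closed points -/
def discVId : DiscV C → VI (JB C) := fun x => x

theorem continuous_discVId : Continuous (discVId (C := C)) := continuous_of_discreteTopology

include hC

theorem exists_pV : ∃ pV : ΛV C → PrimeSpectrum C, IsConsContinuous pV ∧
    (∀ l, IsClosed ({pV l} : Set (PrimeSpectrum C))) ∧
    (∀ q : PrimeSpectrum C, ∃ l, q ≤ pV l) := by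
  have hprof := isProfinite_JB hC
  haveI : CompactSpace (VI (JB C)) := hprof.1
  haveI : T2Space (VI (JB C)) := hprof.2.1
  haveI : TotallyDisconnectedSpace (VI (JB C)) := hprof.2.2
  let f : ΛV C → VI (JB C) := stoneCechExtend (continuous_discVId (C := C))
  have hf : Continuous f := continuous_stoneCechExtend (continuous_discVId (C := C))
  refine ⟨fun l => (f l).1, ?_, ?_, ?_⟩
  · intro g
    exact (isConsContinuous_pI hprof g).preimage hf
  · intro l
    exact isClosed_of_mem_zeroLocus_JB hC (f l).1 (f l).2
  · intro q
    obtain ⟨m, ⟨hm, hqm⟩, -⟩ := hC.2.2 q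
    have hmJ : m ∈ PrimeSpectrum.zeroLocus (R := C) (JB C) := by
      rw [zeroLocus_JB hC]; exact hm
    refine ⟨stoneCechUnit (show DiscV C from ⟨m, hmJ⟩), ?_⟩
    have : f (stoneCechUnit (show DiscV C from ⟨m, hmJ⟩)) = ⟨m, hmJ⟩ :=
      congrFun (stoneCechExtend_extends (continuous_discVId (C := C))) _
    show q ≤ (f _).1
    rw [this]
    exact (PrimeSpectrum.le_iff_specializes _ _).2 hqm

/-- **The w-contractible cover of a w-strictly-local ring.** -/
theorem exists_cover_of_wLocal
    (hsh : ∀ (m : Ideal C) [m.IsMaximal],
      EtCoh.IsStrictlyHenselianLocalRing (Localization.AtPrime m)) :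
    ∃ (D : Type u) (_ : CommRing D) (_ : Algebra C D),
      Module.FaithfullyFlat C D ∧ EtPBC.IsIndZariski C D ∧
      ProEtW.IsWLocal (PrimeSpectrum D) ∧
      ExtremallyDisconnected (_root_.ConnectedComponents (PrimeSpectrum D)) ∧
      ∀ (M : Ideal D) [M.IsMaximal],
        EtCoh.IsStrictlyHenselianLocalRing (Localization.AtPrime M) := by
  obtain ⟨pV, hpV, hcl, hle⟩ := exists_pV hC
  have hΛ := clopenBasis_ΛV C
  have hiz : EtPBC.IsIndZariski C (LS (primeFamily pV)) :=
    isIndZariski (isOpenFamily_primeFamily hpV) hΛ
  refine ⟨LS (primeFamily pV), inferInstance, inferInstance,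
    faithfullyFlat_of_forall_exists_le hpV hΛ hle, hiz, isWLocal hpV hΛ,
    extremallyDisconnected_of_homeo (pi0Homeo hpV hΛ).symm, ?_⟩
  intro M hM
  have hMcl := eq_cl_of_isMaximal hpV hΛ ⟨M, hM.isPrime⟩ hM
  set l := pt (isOpenFamily_primeFamily hpV) hΛ ⟨M, hM.isPrime⟩ with hl
  have hcomap : M.comap (algebraMap C (LS (primeFamily pV))) = (pV l).asIdeal := by
    have h1 := comap_algebraMap_cl (p := pV) l
    rw [← hMcl] at h1
    exact congrArg PrimeSpectrum.asIdeal h1
  haveI hmax : (M.comap (algebraMap C (LS (primeFamily pV)))).IsMaximal := by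
    rw [hcomap]
    exact (PrimeSpectrum.isClosed_singleton_iff_isMaximal _).1 (hcl l)
  have hbij := identifiesLocalRings_of_isIndZariski hiz ⟨M, hM.isPrime⟩
  exact AlgRes.isStrictlyHenselianLocalRing_of_ringEquiv (RingEquiv.ofBijective _ hbij)
    (hsh (M.comap (algebraMap C (LS (primeFamily pV)))))

end Cover

end Groth.Agent.Lib.Helper4.LocSec
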