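import Groth.Agent.Lib.Helper4.SpectralPi0

/-!
# Fibre products `X ×_{π₀ X} T` of a spectral space with a profinite space (helper4)
-/

open Set Topology TopologicalSpace

namespace Groth.Agent.Lib.Helper4.SpectralFibre

open Groth.Agent.Lib.Helper4.SpectralPi0

universe u

section Prod
variable {X T : Type*} [TopologicalSpace X] [TopologicalSpace T]

/-- the product of a quasi-sober space with a Hausdorff space is quasi-sober -/
theorem quasiSober_prod [QuasiSober X] [T2Space T] : QuasiSober (X × T) := by
  refine ⟨fun {S} hS hSc => ?_⟩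
  obtain ⟨⟨x₀, t⟩, h0⟩ := hS.nonempty
  have hsnd : ∀ p ∈ S, p.2 = t := by
    intro p hp
    by_contra hne
    obtain ⟨V₁, V₂, hV₁, hV₂, hp1, ht2, hdisj⟩ := t2_separation hne
    obtain ⟨q, hq, hq1, hq2⟩ := hS.isPreirreducible (Prod.snd ⁻¹' V₁) (Prod.snd ⁻¹' V₂)
      (hV₁.preimage continuous_snd) (hV₂.preimage continuous_snd) ⟨p, hp, hp1⟩
      ⟨(x₀, t), h0, ht2⟩
    exact hdisj.le_bot ⟨hq1, hq2⟩
  have hi : Continuous (fun x : X => (x, t)) := by fun_prop
  have hS'eq : Prod.fst '' S = (fun x : X => (x, t)) ⁻¹' S := by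
    ext x
    constructor
    · rintro ⟨p, hp, rfl⟩
      have : p = (p.1, t) := Prod.ext rfl (hsnd p hp)
      change (p.1, t) ∈ S
      rw [← this]; exact hp
    · intro hx
      exact ⟨(x, t), hx, rfl⟩
  have hS'c : IsClosed (Prod.fst '' S) := by rw [hS'eq]; exact hSc.preimage hi
  have hS'irr : IsIrreducible (Prod.fst '' S) := hS.image _ continuous_fst.continuousOn
  obtain ⟨x, hx⟩ := QuasiSober.sober hS'irr hS'c
  refine ⟨(x, t), ?_⟩
  change closure {(x, t)} = S
  rw [← Set.singleton_prod_singleton, closure_prod_eq, hx.def, closure_singleton]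
  ext p
  constructor
  · rintro ⟨hp1, hp2⟩
    rw [hS'eq] at hp1
    have : p = (p.1, t) := Prod.ext rfl hp2
    rw [this]; exact hp1
  · intro hp
    exact ⟨⟨p, hp, rfl⟩, hsnd p hp⟩

end Prod

section Fibre
variable {X T : Type u} [TopologicalSpace X] [SpectralSpace X]
    [TopologicalSpace T] [CompactSpace T] [T2Space T] [TotallyDisconnectedSpace T]
    (g : C(T, ConnectedComponents X))

/-- the fibre product `X ×_{π₀ X} T` -/
abbrev Y : Type u := {p : X × T // ConnectedComponents.mk p.1 = g p.2}

theorem isClosed_Y : IsClosed {p : X × T | ConnectedComponents.mk p.1 = g p.2} := by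
  have : T2Space (ConnectedComponents X) := t2Space_connectedComponents
  exact isClosed_eq (ConnectedComponents.continuous_coe.comp continuous_fst)
    (g.continuous.comp continuous_snd)

theorem isClosedEmbedding_val : IsClosedEmbedding (Subtype.val : Y g → X × T) :=
  (isClosed_Y g).isClosedEmbedding_subtypeVal

instance compactSpace_Y : CompactSpace (Y g) :=
  isCompact_iff_compactSpace.mp (isClosed_Y g).isCompact

instance quasiSober_Y : QuasiSober (Y g) :=
  have : QuasiSober (X × T) := quasiSober_prod
  (isClosedEmbedding_val g).quasiSober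

/-- the basis of boxes of `Y` -/
def boxes : Set (Set (Y g)) :=
  preimage Subtype.val '' (image2 (· ×ˢ ·) {U : Set X | IsOpen U ∧ IsCompact U}
    {V : Set T | IsClopen V})

theorem isTopologicalBasis_boxes : IsTopologicalBasis (boxes g) :=
  IsTopologicalBasis.isInducing (isClosedEmbedding_val g).isInducing
    (PrespectralSpace.isTopologicalBasis.prod isTopologicalBasis_isClopen)

theorem isCompact_inter_boxes {b₁ b₂ : Set (Y g)} (h₁ : b₁ ∈ boxes g) (h₂ : b₂ ∈ boxes g) :
    IsCompact (b₁ ∩ b₂) := by
  obtain ⟨_, ⟨U₁, hU₁, V₁, hV₁, rfl⟩, rfl⟩ := h₁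
  obtain ⟨_, ⟨U₂, hU₂, V₂, hV₂, rfl⟩, rfl⟩ := h₂
  rw [← preimage_inter, Set.prod_inter_prod]
  apply (isClosedEmbedding_val g).isCompact_preimage
  exact (hU₁.2.inter_of_isOpen hU₂.2 hU₁.1 hU₂.1).prod (hV₁.inter hV₂).1.isCompact

instance prespectralSpace_Y : PrespectralSpace (Y g) :=
  PrespectralSpace.of_isTopologicalBasis (isTopologicalBasis_boxes g) fun b hb => by
    have := isCompact_inter_boxes g hb hb
    rwa [inter_self] at this

instance quasiSeparatedSpace_Y : QuasiSeparatedSpace (Y g) := by
  refine QuasiSeparatedSpace.of_isTopologicalBasis (b := (Subtype.val : boxes g → Set (Y g))) ?_ ?_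
  · rw [Subtype.range_coe]; exact isTopologicalBasis_boxes g
  · intro i j
    exact isCompact_inter_boxes g i.2 j.2

theorem spectralSpace_Y : SpectralSpace (Y g) where

/-- the projection `Y → T` -/
def q : C(Y g, T) := ⟨fun y => y.1.2, by fun_prop⟩

omit [SpectralSpace X] [CompactSpace T] [T2Space T] [TotallyDisconnectedSpace T] in
theorem q_surjective : Function.Surjective (q g) := by
  intro t
  obtain ⟨x, hx⟩ := ConnectedComponents.surjective_coe (g t)
  exact ⟨⟨(x, t), hx⟩, rfl⟩

omit [SpectralSpace X] [CompactSpace T] [T2Space T] [TotallyDisconnectedSpace T] in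
/-- points of `Y` with the same image in `T` lie in the same connected component -/
theorem mk_eq_of_snd_eq {y y' : Y g} (h : y.1.2 = y'.1.2) :
    ConnectedComponents.mk y = ConnectedComponents.mk y' := by
  have hmem : ∀ z ∈ connectedComponent y.1.1, ConnectedComponents.mk z = g y.1.2 := by
    intro z hz
    rw [← y.2]
    exact ConnectedComponents.coe_eq_coe'.mpr hz
  let j : connectedComponent y.1.1 → Y g := fun z => ⟨(z.1, y.1.2), hmem z.1 z.2⟩
  have hj : Continuous j :=
    Continuous.subtype_mk (continuous_subtype_val.prodMk continuous_const) _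
  have : PreconnectedSpace (connectedComponent y.1.1) :=
    Subtype.preconnectedSpace isPreconnected_connectedComponent
  have hpre : IsPreconnected (range j) := isPreconnected_range hj
  have hy : y ∈ range j := ⟨⟨y.1.1, mem_connectedComponent⟩, rfl⟩
  have hy' : y' ∈ range j := by
    have hx' : y'.1.1 ∈ connectedComponent y.1.1 := by
      rw [← ConnectedComponents.coe_eq_coe', y'.2, ← h, y.2]
    exact ⟨⟨y'.1.1, hx'⟩, Subtype.ext (Prod.ext rfl h)⟩
  exact (ConnectedComponents.coe_eq_coe'.mpr (hpre.subset_connectedComponent hy hy')).symm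

/-- the homeomorphism `π₀ Y ≃ₜ T` -/
noncomputable def e : ConnectedComponents (Y g) ≃ₜ T :=
  Continuous.homeoOfEquivCompactToT2
    (f := Equiv.ofBijective ((q g).continuous.connectedComponentsLift) (by
      constructor
      · intro a b hab
        obtain ⟨y, rfl⟩ := ConnectedComponents.surjective_coe a
        obtain ⟨y', rfl⟩ := ConnectedComponents.surjective_coe b
        rw [Continuous.connectedComponentsLift_apply_coe,
          Continuous.connectedComponentsLift_apply_coe] at hab
        exact mk_eq_of_snd_eq g hab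
      · intro t
        obtain ⟨y, hy⟩ := q_surjective g t
        exact ⟨ConnectedComponents.mk y, by
          rw [Continuous.connectedComponentsLift_apply_coe]; exact hy⟩))
    ((q g).continuous.connectedComponentsLift_continuous)

theorem e_mk (y : Y g) : e g (ConnectedComponents.mk y) = y.1.2 :=
  (q g).continuous.connectedComponentsLift_apply_coe y

end Fibre

end Groth.Agent.Lib.Helper4.SpectralFibre
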