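import Mathlib
import Groth.Agent.Lib.Helper4.LocSecClosed
import Groth.Agent.Lib.Helper4.SpectralFibre

/-!
# Helper library (helper4): the ring of `Spec A ×_{π₀ Spec A} T`

For a profinite space `T` with a continuous map `g : T → π₀ (Spec A)`, the ring
`LS (compFamily g)` of locally-fraction sections of the family of localizations of `A` along the
connected components `g t` is ind-Zariski over `A` with spectrum `Spec A ×_{π₀} T`.
-/

set_option autoImplicit false
set_option linter.unusedSectionVars false

universe u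

namespace Groth.Agent.Lib.Helper4.LocSec

open SpectralPi0 SpectralFibre

variable {A : Type u} [CommRing A] {T : Type u} [TopologicalSpace T] [CompactSpace T] [T2Space T]
  [TotallyDisconnectedSpace T] (g : C(T, ConnectedComponents (PrimeSpectrum A)))

/-- the elements of `A` which are invertible on the connected component `g t` -/
def compFamily (t : T) : Submonoid A where
  carrier := {d | ∀ x : PrimeSpectrum A, ConnectedComponents.mk x = g t → d ∉ x.asIdeal}
  one_mem' := fun x _ => x.2.one_notMem
  mul_mem' := fun ha hb x hx h => (x.2.mem_or_mem h).elim (ha x hx) (hb x hx)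

theorem mem_compFamily {t : T} {d : A} : d ∈ compFamily g t ↔
    ∀ x : PrimeSpectrum A, ConnectedComponents.mk x = g t → d ∉ x.asIdeal := Iff.rfl

theorem isOpenFamily_compFamily : IsOpenFamily (compFamily g) := by
  intro d
  have hT2 : T2Space (ConnectedComponents (PrimeSpectrum A)) := t2Space_connectedComponents
  have hcl : IsClosed (ConnectedComponents.mk ''
      (PrimeSpectrum.zeroLocus {d} : Set (PrimeSpectrum A))) :=
    ((PrimeSpectrum.isClosed_zeroLocus _).isCompact.image
      ConnectedComponents.continuous_coe).isClosed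
  have : {t | d ∈ compFamily g t} = g ⁻¹' (ConnectedComponents.mk ''
      (PrimeSpectrum.zeroLocus {d} : Set (PrimeSpectrum A)))ᶜ := by
    ext t
    simp only [Set.mem_ofPred_eq, mem_compFamily, Set.mem_preimage, Set.mem_compl_iff,
      Set.mem_image, PrimeSpectrum.mem_zeroLocus, Set.singleton_subset_iff, SetLike.mem_coe,
      not_exists, not_and]
    exact ⟨fun h x hx hxt => h x hxt hx, fun h x hxt hx => h x hx hxt⟩
  rw [this]
  exact hcl.isOpen_compl.preimage g.continuous

/-- the ring of `Spec A ×_{π₀} T` -/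
abbrev BT : Type u := LS (compFamily g)

theorem clopenBasis_T : ClopenBasis T := clopenBasis_of_profinite T

theorem BT_isIndZariski : EtPBC.IsIndZariski A (BT g) :=
  isIndZariski (isOpenFamily_compFamily g) (clopenBasis_T)

/-- the point of `T` under a prime -/
noncomputable abbrev ptT : PrimeSpectrum (BT g) → T :=
  pt (isOpenFamily_compFamily g) clopenBasis_T

theorem mk_comap (Q : PrimeSpectrum (BT g)) :
    ConnectedComponents.mk (PrimeSpectrum.comap (algebraMap A (BT g)) Q) = g (ptT g Q) := by
  by_contra hne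
  have hT2 : T2Space (ConnectedComponents (PrimeSpectrum A)) := t2Space_connectedComponents
  obtain ⟨s, hs, hsub, hxs⟩ := exists_isClopen_of_notMem_preimage
    (T := {g (ptT g Q)}) isClosed_singleton (p := PrimeSpectrum.comap (algebraMap A (BT g)) Q) hne
  obtain ⟨e, he, rfl⟩ := PrimeSpectrum.isClopen_iff.1 hs
  have hemem : e ∈ compFamily g (ptT g Q) := fun y hy => hsub (show _ ∈ ({g (ptT g Q)} : Set _) from hy)
  have h1 := algebraMap_notMem_of_mem (isOpenFamily_compFamily g) clopenBasis_T Q hemem
  have h2 : e ∈ (PrimeSpectrum.comap (algebraMap A (BT g)) Q).asIdeal := by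
    by_contra h
    exact hxs h
  exact h1 h2

theorem exists_prime_of_mk_eq (x : PrimeSpectrum A) (t : T) (h : ConnectedComponents.mk x = g t) :
    ∃ Q : PrimeSpectrum (BT g), PrimeSpectrum.comap (algebraMap A (BT g)) Q = x ∧ ptT g Q = t := by
  have hx : x ∈ Set.range (PrimeSpectrum.comap (algebraMap A (Localization (compFamily g t)))) := by
    rw [PrimeSpectrum.localization_comap_range (Localization (compFamily g t)) (compFamily g t)]
    rw [Set.mem_ofPred_eq, Set.disjoint_left]
    intro d hd hdx
    exact hd x h hdx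
  obtain ⟨q, hq⟩ := hx
  refine ⟨PrimeSpectrum.comap (ev (compFamily g) t).toRingHom q, ?_, pt_comap _ _ t q⟩
  rw [← hq]
  refine PrimeSpectrum.ext (Ideal.ext fun a => ?_)
  change ev (compFamily g) t (algebraMap A (BT g) a) ∈ q.asIdeal ↔ algebraMap A _ a ∈ q.asIdeal
  rw [AlgHom.commutes]

/-- the map `Spec (BT g) → Spec A × T` -/
noncomputable def Φ (Q : PrimeSpectrum (BT g)) : PrimeSpectrum A × T :=
  (PrimeSpectrum.comap (algebraMap A (BT g)) Q, ptT g Q)

theorem continuous_Φ : Continuous (Φ g) :=
  (PrimeSpectrum.continuous_comap _).prodMk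
    (continuous_pt (isOpenFamily_compFamily g) clopenBasis_T)

theorem injective_Φ : Function.Injective (Φ g) := fun Q Q' h =>
  prime_ext (isOpenFamily_compFamily g) clopenBasis_T (congrArg Prod.snd h) (congrArg Prod.fst h)

theorem range_Φ : Set.range (Φ g) = {p | ConnectedComponents.mk p.1 = g p.2} := by
  ext ⟨x, t⟩
  constructor
  · rintro ⟨Q, hQ⟩
    have h1 : PrimeSpectrum.comap (algebraMap A (BT g)) Q = x := congrArg Prod.fst hQ
    have h2 : ptT g Q = t := congrArg Prod.snd hQ
    change ConnectedComponents.mk x = g t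
    rw [← h1, ← h2]
    exact mk_comap g Q
  · intro h
    obtain ⟨Q, h1, h2⟩ := exists_prime_of_mk_eq g x t h
    exact ⟨Q, Prod.ext h1 h2⟩

theorem isInducing_Φ : Topology.IsInducing (Φ g) := by
  refine ⟨le_antisymm (continuous_iff_le_induced.1 (continuous_Φ g)) ?_⟩
  have hb := (PrimeSpectrum.isTopologicalBasis_basic_opens (R := BT g)).eq_generateFrom
  rw [hb]
  refine TopologicalSpace.le_generateFrom_iff_subset_isOpen.2 ?_
  rintro _ ⟨s, rfl⟩
  change @IsOpen _ (TopologicalSpace.induced (Φ g) inferInstance) _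
  rw [@isOpen_iff_forall_mem_open _ (TopologicalSpace.induced (Φ g) inferInstance)]
  intro Q hQ
  obtain ⟨W, hW, a, d, hlW, h⟩ := exists_clopen_frac clopenBasis_T s (ptT g Q)
  refine ⟨Φ g ⁻¹' ((PrimeSpectrum.basicOpen a : Set (PrimeSpectrum A)) ×ˢ W), ?_, ?_, ?_⟩
  · rintro Q' ⟨hQ'a, hQ'W⟩
    change s ∉ Q'.asIdeal
    rw [mem_iff_of_frac (isOpenFamily_compFamily g) clopenBasis_T Q' s hW hQ'W h]
    exact hQ'a
  · exact isOpen_induced ((PrimeSpectrum.basicOpen a).2.prod hW.isOpen)
  · refine ⟨?_, hlW⟩
    change algebraMap A (BT g) a ∉ Q.asIdeal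
    rw [← mem_iff_of_frac (isOpenFamily_compFamily g) clopenBasis_T Q s hW hlW h]
    exact hQ

theorem isEmbedding_Φ : Topology.IsEmbedding (Φ g) := ⟨isInducing_Φ g, injective_Φ g⟩

/-- the map to the fibre product -/
noncomputable def Ψ (Q : PrimeSpectrum (BT g)) : Y g :=
  ⟨Φ g Q, mk_comap g Q⟩

theorem isEmbedding_Ψ : Topology.IsEmbedding (Ψ g) :=
  Topology.IsEmbedding.of_comp ((continuous_Φ g).subtype_mk _) continuous_subtype_val
    (isEmbedding_Φ g)

theorem surjective_Ψ : Function.Surjective (Ψ g) := by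
  rintro ⟨⟨x, t⟩, h⟩
  obtain ⟨Q, h1, h2⟩ := exists_prime_of_mk_eq g x t h
  exact ⟨Q, Subtype.ext (Prod.ext h1 h2)⟩

/-- the homeomorphism `π₀ (Spec (BT g)) ≃ₜ T` -/
noncomputable def eT : ConnectedComponents (PrimeSpectrum (BT g)) ≃ₜ T :=
  have hcont := continuous_pt (isOpenFamily_compFamily g) (clopenBasis_T (T := T))
  Continuous.homeoOfEquivCompactToT2
    (f := Equiv.ofBijective hcont.connectedComponentsLift (by
      constructor
      · intro c c' h
        obtain ⟨Q, rfl⟩ := ConnectedComponents.surjective_coe c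
        obtain ⟨Q', rfl⟩ := ConnectedComponents.surjective_coe c'
        rw [hcont.connectedComponentsLift_apply_coe, hcont.connectedComponentsLift_apply_coe] at h
        have h1 : ConnectedComponents.mk (Ψ g Q) = ConnectedComponents.mk (Ψ g Q') :=
          mk_eq_of_snd_eq g h
        let Ψh : PrimeSpectrum (BT g) ≃ₜ Y g :=
          (isEmbedding_Ψ g).toHomeomorphOfSurjective (surjective_Ψ g)
        have h2 : Ψ g Q' ∈ connectedComponent (Ψ g Q) := ConnectedComponents.coe_eq_coe'.1 h1.symm
        have h3 := Ψh.symm.continuous.image_connectedComponent_subset (Ψ g Q)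
          (Set.mem_image_of_mem _ h2)
        have h4 : Ψh.symm (Ψ g Q) = Q := Ψh.symm_apply_apply Q
        have h5 : Ψh.symm (Ψ g Q') = Q' := Ψh.symm_apply_apply Q'
        rw [h4, h5] at h3
        exact (ConnectedComponents.coe_eq_coe'.2 h3).symm
      · intro t
        obtain ⟨x, hx⟩ := ConnectedComponents.surjective_coe (g t)
        obtain ⟨Q, -, hQ⟩ := exists_prime_of_mk_eq g x t hx
        exact ⟨ConnectedComponents.mk Q, by
          rw [hcont.connectedComponentsLift_apply_coe]; exact hQ⟩))
    hcont.connectedComponentsLift_continuous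

theorem eT_mk (Q : PrimeSpectrum (BT g)) : eT g (ConnectedComponents.mk Q) = ptT g Q :=
  (continuous_pt (isOpenFamily_compFamily g) (clopenBasis_T (T := T))).connectedComponentsLift_apply_coe Q

end Groth.Agent.Lib.Helper4.LocSec
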