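import Mathlib
import Groth.Prelude
import Groth.Agent.S0427
import Groth.Agent.Lib.Helper10.WEField

/-!
# Applying Olivier's theorem to local rings of weakly étale algebras (helper4)
-/

set_option autoImplicit false
set_option linter.style.haveILetI false
universe u
open TensorProduct

namespace Groth.Agent.Lib.Helper4.OlivierApply

/-- If `A → B` is weakly étale, `q` a prime of `B` over `p` and `A_p` is strictly henselian, then
`A_p → B_q` is bijective (Olivier). -/
theorem bijective_localRingHom_of_weaklyEtale {A B : Type u} [CommRing A] [CommRing B]
    [Algebra A B] [Algebra.WeaklyEtale A B] (q : Ideal B) [q.IsPrime] (p : Ideal A) [p.IsPrime]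
    (hpq : p = q.comap (algebraMap A B))
    (hp : EtCoh.IsStrictlyHenselianLocalRing (Localization.AtPrime p)) :
    Function.Bijective (Localization.localRingHom p q (algebraMap A B) hpq) := by
  obtain ⟨hH, hS⟩ := hp
  letI : Algebra (Localization.AtPrime p) (Localization.AtPrime q) :=
    (Localization.localRingHom p q (algebraMap A B) hpq).toAlgebra
  haveI : IsScalarTower A (Localization.AtPrime p) (Localization.AtPrime q) := by
    refine IsScalarTower.of_algebraMap_eq fun a => ?_
    rw [RingHom.algebraMap_toAlgebra, Localization.localRingHom_to_map,
      IsScalarTower.algebraMap_apply A B (Localization.AtPrime q)]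
  haveI : Algebra.WeaklyEtale B (Localization.AtPrime q) :=
    Groth.Agent.Lib.Helper10.WE.weaklyEtale_of_isLocalization q.primeCompl
  haveI : Algebra.WeaklyEtale A (Localization.AtPrime q) :=
    Algebra.WeaklyEtale.trans A B (Localization.AtPrime q)
  haveI : Algebra.WeaklyEtale (Localization.AtPrime p) (Localization.AtPrime q) :=
    Groth.Agent.Lib.Helper10.WE.weaklyEtale_of_isLocalization_base p.primeCompl
      (Localization.AtPrime p) (Localization.AtPrime q)
  haveI : IsLocalHom (algebraMap (Localization.AtPrime p) (Localization.AtPrime q)) := by
    rw [RingHom.algebraMap_toAlgebra]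
    exact Localization.isLocalHom_localRingHom p q (algebraMap A B) hpq
  have := Groth.Agent.S0427.result (A := Localization.AtPrime p) (B := Localization.AtPrime q)
  rwa [RingHom.algebraMap_toAlgebra] at this

end Groth.Agent.Lib.Helper4.OlivierApply
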