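import Mathlib
import Groth.Agent.Lib.Helper10.WEBasic

/-!
# Olivier's theorem, part 1 (helper4): products of valuation rings

* `exists_span_singleton_of_fg`: f.g. ideals of a product of valuation rings are principal;
* `flat_of_torsionFree`: a module over a product of valuation domains on which every element
  with all components nonzero acts injectively is flat;
* `exists_eq_mul_of_sq_eq_mul_pi`: if `C` is weakly étale over `V = ∏ Vᵢ`, `s ∈ V` has all
  components nonzero and `b * b = s * b` in `C` then `b ∈ s C`.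
-/

set_option autoImplicit false
universe u
open TensorProduct

namespace Groth.Agent.Lib.Helper4.Olivier

section Bezout

variable {ι : Type*} {V : ι → Type*} [∀ i, CommRing (V i)] [∀ i, IsDomain (V i)]
  [∀ i, ValuationRing (V i)]

theorem exists_span_pair (a b : ∀ i, V i) :
    ∃ c : ∀ i, V i, Ideal.span {a} ⊔ Ideal.span {b} = Ideal.span {c} := by
  classical
  let c : ∀ i, V i := fun i => if a i ∣ b i then a i else b i
  have hac : ∀ i, ∃ x, a i = c i * x := by
    intro i
    by_cases h : a i ∣ b i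
    · exact ⟨1, by simp [c, h]⟩
    · obtain ⟨x, hx⟩ := (ValuationRing.dvd_total (a i) (b i)).resolve_left h
      exact ⟨x, by rw [show c i = b i from if_neg h]; exact hx⟩
  have hbc : ∀ i, ∃ x, b i = c i * x := by
    intro i
    by_cases h : a i ∣ b i
    · obtain ⟨x, hx⟩ := id h
      exact ⟨x, by rw [show c i = a i from if_pos h]; exact hx⟩
    · exact ⟨1, by simp [c, h]⟩
  choose x hx using hac
  choose y hy using hbc
  let e : ∀ i, V i := fun i => if a i ∣ b i then 1 else 0
  have hc : c = e * a + (1 - e) * b := by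
    funext i
    by_cases h : a i ∣ b i <;> simp [c, e, h]
  refine ⟨c, le_antisymm ?_ ?_⟩
  · rw [sup_le_iff, Ideal.span_singleton_le_iff_mem, Ideal.span_singleton_le_iff_mem]
    refine ⟨Ideal.mem_span_singleton'.mpr ⟨x, ?_⟩, Ideal.mem_span_singleton'.mpr ⟨y, ?_⟩⟩
    · funext i
      simp [hx i, mul_comm]
    · funext i
      simp [hy i, mul_comm]
  · rw [Ideal.span_singleton_le_iff_mem, hc]
    refine Ideal.add_mem _ ?_ ?_
    · exact Ideal.mem_sup_left (Ideal.mul_mem_left _ _ (Ideal.subset_span rfl))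
    · exact Ideal.mem_sup_right (Ideal.mul_mem_left _ _ (Ideal.subset_span rfl))

theorem exists_span_singleton_of_fg (I : Ideal (∀ i, V i)) (hI : I.FG) :
    ∃ a, I = Ideal.span {a} := by
  induction I, hI using Submodule.fg_induction with
  | singleton x => exact ⟨x, rfl⟩
  | sup N₁ N₂ h₁ h₂ ih₁ ih₂ =>
    obtain ⟨a, rfl⟩ := ih₁
    obtain ⟨b, rfl⟩ := ih₂
    exact exists_span_pair a b

theorem flat_of_torsionFree (M : Type*) [AddCommGroup M] [Module (∀ i, V i) M]
    (h : ∀ (v : ∀ i, V i), (∀ i, v i ≠ 0) → ∀ m : M, v • m = 0 → m = 0) :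
    Module.Flat (∀ i, V i) M := by
  classical
  rw [Module.Flat.iff_lift_lsmul_comp_subtype_injective]
  intro I hI
  obtain ⟨a, rfl⟩ := exists_span_singleton_of_fg I hI
  rw [injective_iff_map_eq_zero]
  intro z hz
  set a' : (Ideal.span {a} : Ideal (∀ i, V i)) := ⟨a, Ideal.subset_span rfl⟩ with ha'
  -- every element is a pure tensor `a' ⊗ m`
  have hpure : ∀ z : (Ideal.span {a} : Ideal (∀ i, V i)) ⊗[∀ i, V i] M, ∃ m : M, z = a' ⊗ₜ m := by
    intro z
    induction z using TensorProduct.induction_on with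
    | zero => exact ⟨0, by simp⟩
    | tmul r m =>
      obtain ⟨r, hr⟩ := r
      obtain ⟨v, rfl⟩ := Ideal.mem_span_singleton'.mp hr
      refine ⟨v • m, ?_⟩
      rw [← TensorProduct.smul_tmul]
      congr 1
    | add x y hx hy =>
      obtain ⟨m, rfl⟩ := hx
      obtain ⟨n, rfl⟩ := hy
      exact ⟨m + n, by rw [TensorProduct.tmul_add]⟩
  obtain ⟨m, rfl⟩ := hpure z
  have ham : a • m = 0 := by simpa [ha'] using hz
  let e : ∀ i, V i := fun i => if a i = 0 then 1 else 0
  have hea : e * a = 0 := by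
    funext i
    by_cases h0 : a i = 0 <;> simp [e, h0]
  have hreg : ∀ i, (a + e) i ≠ 0 := by
    intro i
    by_cases h0 : a i = 0 <;> simp [e, h0]
  have h1 : (a + e) • ((1 - e) • m) = 0 := by
    rw [smul_smul]
    have : (a + e) * (1 - e) = a := by
      have hee : e * e = e := by
        funext i
        by_cases h0 : a i = 0 <;> simp [e, h0]
      have : a * e = 0 := by rw [mul_comm]; exact hea
      ring_nf
      rw [this]
      linear_combination (-1 : ∀ i, V i) * hee
    rw [this, ham]
  have h2 := h _ hreg _ h1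
  have hm : m = e • m := by
    rw [sub_smul, one_smul, sub_eq_zero] at h2
    exact h2
  rw [hm, ← TensorProduct.smul_tmul]
  have : e • a' = 0 := by
    apply Subtype.ext
    simpa [ha'] using hea
  rw [this, TensorProduct.zero_tmul]

end Bezout

section Purity

variable {R C : Type*} [CommRing R] [CommRing C] [Algebra R C]

theorem rTensor_mulLeft_eq (b : C) (x : C ⊗[R] C) :
    (LinearMap.mulLeft R b).rTensor C x = (b ⊗ₜ[R] (1 : C)) * x := by
  induction x using TensorProduct.induction_on with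
  | zero => simp
  | tmul c c' => simp [Algebra.TensorProduct.tmul_mul_tmul]
  | add x y hx hy => rw [map_add, hx, hy, mul_add]

theorem lTensor_mulLeft_eq (b : C) (x : C ⊗[R] C) :
    (LinearMap.mulLeft R b).lTensor C x = ((1 : C) ⊗ₜ[R] b) * x := by
  induction x using TensorProduct.induction_on with
  | zero => simp
  | tmul c c' => simp [Algebra.TensorProduct.tmul_mul_tmul]
  | add x y hx hy => rw [map_add, hx, hy, mul_add]

/-- Key consequence of purity of the diagonal: if `b * d = 0` in a weakly étale `R`-algebra `C`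
and `C ⧸ Ann(d)` is `R`-flat, then `Ann(b) + Ann(d) = C`. -/
theorem exists_add_eq_one_of_mul_eq_zero [Algebra.WeaklyEtale R C] (b d : C) (hbd : b * d = 0)
    (hflat : Module.Flat R (C ⧸ (LinearMap.ker (LinearMap.mulLeft C d) : Ideal C))) :
    ∃ w w' : C, w + w' = 1 ∧ w * b = 0 ∧ w' * d = 0 := by
  set K : Ideal C := LinearMap.ker (LinearMap.mulLeft C d) with hK
  have hKmem : ∀ c : C, c ∈ K ↔ d * c = 0 := fun c => by
    rw [hK, LinearMap.mem_ker, LinearMap.mulLeft_apply]
  -- purity of the diagonal ideal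
  have hsurj : Function.Surjective (Algebra.TensorProduct.lmul' R (S := C)).toRingHom :=
    fun c => ⟨c ⊗ₜ 1, by simp⟩
  have hpure : (RingHom.ker (Algebra.TensorProduct.lmul' R (S := C)).toRingHom).Pure :=
    Groth.Agent.Lib.Helper10.WE.pure_ker_of_flat _ hsurj (Algebra.WeaklyEtale.flat_lmul' R C)
  obtain ⟨y, hy, hxy⟩ := Ideal.exists_eq_mul_of_pure
    (I := RingHom.ker (Algebra.TensorProduct.lmul' R (S := C)).toRingHom)
    (x := b ⊗ₜ[R] (1 : C) - (1 : C) ⊗ₜ[R] b) (by simp [RingHom.mem_ker])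
  set u : C ⊗[R] C := 1 - y with hu
  have hu1 : Algebra.TensorProduct.lmul' R (S := C) u = 1 := by
    have : Algebra.TensorProduct.lmul' R (S := C) y = 0 := hy
    rw [hu, map_sub, map_one, this, sub_zero]
  have hu2 : (b ⊗ₜ[R] (1 : C)) * u = ((1 : C) ⊗ₜ[R] b) * u := by
    have : (b ⊗ₜ[R] (1 : C) - (1 : C) ⊗ₜ[R] b) * u = 0 := by
      rw [hu, mul_sub, mul_one, ← hxy, sub_self]
    rw [sub_mul, sub_eq_zero] at this
    exact this
  -- the maps
  let g : C →ₗ[R] C := LinearMap.mulLeft R b
  let q : C →ₗ[R] C ⧸ K := (Ideal.Quotient.mkₐ R K).toLinearMap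
  have hqg : q ∘ₗ g = 0 := by
    ext c
    simp only [LinearMap.comp_apply, LinearMap.zero_apply, q, g, AlgHom.toLinearMap_apply,
      Ideal.Quotient.mkₐ_eq_mk, LinearMap.mulLeft_apply]
    rw [Ideal.Quotient.eq_zero_iff_mem, hKmem, ← mul_assoc, mul_comm d b, hbd, zero_mul]
  set ū : C ⊗[R] (C ⧸ K) := q.lTensor C u with hū
  have hgū : g.rTensor (C ⧸ K) ū = 0 := by
    have h1 : g.rTensor (C ⧸ K) ū = q.lTensor C (g.rTensor C u) := by
      rw [hū, ← LinearMap.comp_apply, LinearMap.rTensor_comp_lTensor, ← LinearMap.comp_apply,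
        LinearMap.lTensor_comp_rTensor]
    rw [h1, rTensor_mulLeft_eq, hu2, ← lTensor_mulLeft_eq, ← LinearMap.lTensor_comp_apply, hqg,
      LinearMap.lTensor_zero, LinearMap.zero_apply]
  have hex : Function.Exact ((LinearMap.ker g).subtype.rTensor (C ⧸ K)) (g.rTensor (C ⧸ K)) :=
    Module.Flat.rTensor_exact (C ⧸ K) (LinearMap.exact_subtype_ker_map g)
  obtain ⟨z, hz⟩ := (hex ū).mp hgū
  -- the multiplication map
  let m : C ⊗[R] (C ⧸ K) →ₗ[R] C ⧸ K :=
    TensorProduct.lift ((Algebra.lsmul R R (C ⧸ K)).toLinearMap)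
  have hm_tmul : ∀ (c : C) (n : C ⧸ K), m (c ⊗ₜ n) = c • n := fun c n => by
    simp [m]
  have hm1 : m ū = 1 := by
    have h2 : m ∘ₗ q.lTensor C = q ∘ₗ (Algebra.TensorProduct.lmul' R (S := C)).toLinearMap := by
      apply TensorProduct.ext'
      intro c c'
      simp only [LinearMap.comp_apply, LinearMap.lTensor_tmul, hm_tmul, AlgHom.toLinearMap_apply,
        Algebra.TensorProduct.lmul'_apply_tmul, q, Ideal.Quotient.mkₐ_eq_mk]
      rw [Algebra.smul_def, Ideal.Quotient.algebraMap_eq, ← map_mul]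
    rw [hū, ← LinearMap.comp_apply, h2, LinearMap.comp_apply]
    have h3 : (Algebra.TensorProduct.lmul' R (S := C)).toLinearMap u = 1 := hu1
    rw [h3]
    simp [q]
  set Ab : Ideal C := LinearMap.ker (LinearMap.mulLeft C b) with hAb
  have hAbmem : ∀ c : C, c ∈ Ab ↔ b * c = 0 := fun c => by
    rw [hAb, LinearMap.mem_ker, LinearMap.mulLeft_apply]
  have hm2 : ∀ z : (LinearMap.ker g) ⊗[R] (C ⧸ K),
      m ((LinearMap.ker g).subtype.rTensor (C ⧸ K) z) ∈ Ab.map (Ideal.Quotient.mk K) := by
    intro z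
    induction z using TensorProduct.induction_on with
    | zero => simp
    | tmul k n =>
      obtain ⟨c, rfl⟩ := Ideal.Quotient.mk_surjective n
      rw [LinearMap.rTensor_tmul, hm_tmul, Submodule.subtype_apply, Algebra.smul_def,
        Ideal.Quotient.algebraMap_eq, ← map_mul]
      apply Ideal.mem_map_of_mem
      rw [hAbmem, ← mul_assoc]
      have : b * (k : C) = 0 := by
        have := k.2
        rw [LinearMap.mem_ker] at this
        exact this
      rw [this, zero_mul]
    | add x y hx hy =>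
      rw [map_add, map_add]
      exact Ideal.add_mem _ hx hy
  have h1mem : (1 : C ⧸ K) ∈ Ab.map (Ideal.Quotient.mk K) := by
    rw [← hm1, ← hz]
    exact hm2 z
  obtain ⟨w, hw, hw1⟩ := (Ideal.mem_map_iff_of_surjective (Ideal.Quotient.mk K)
    Ideal.Quotient.mk_surjective).mp h1mem
  have hw' : d * (w - 1) = 0 := by
    rw [← hKmem, ← Ideal.Quotient.eq, hw1, map_one]
  refine ⟨w, 1 - w, by ring, ?_, ?_⟩
  · rw [mul_comm]; exact (hAbmem w).mp hw
  · linear_combination (-1 : C) * hw'

end Purity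

section Main

variable {ι : Type*} {V : ι → Type*} [∀ i, CommRing (V i)] [∀ i, IsDomain (V i)]
  [∀ i, ValuationRing (V i)] {C : Type*} [CommRing C] [Algebra (∀ i, V i) C]
  [Algebra.WeaklyEtale (∀ i, V i) C]

theorem exists_eq_mul_of_sq_eq_mul_pi (s : ∀ i, V i) (b : C)
    (hb : b * b = algebraMap (∀ i, V i) C s * b) :
    ∃ w : C, b = algebraMap (∀ i, V i) C s * w := by
  set d : C := b - algebraMap (∀ i, V i) C s with hd
  have hbd : b * d = 0 := by
    rw [hd, mul_sub, hb, mul_comm, sub_self]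
  have hflatC : Module.Flat (∀ i, V i) C := Algebra.WeaklyEtale.flat
  have hflat : Module.Flat (∀ i, V i) (C ⧸ (LinearMap.ker (LinearMap.mulLeft C d) : Ideal C)) := by
    apply flat_of_torsionFree
    intro v hv n hn
    obtain ⟨c, rfl⟩ := Ideal.Quotient.mk_surjective n
    have hreg : IsSMulRegular (∀ i, V i) v := by
      intro x y hxy
      funext i
      exact mul_left_cancel₀ (hv i) (congrFun hxy i)
    have hregC : IsSMulRegular C (algebraMap (∀ i, V i) C v) := hreg.of_flat
    have h1 : (Ideal.Quotient.mk (LinearMap.ker (LinearMap.mulLeft C d) : Ideal C)) (v • c) = 0 := by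
      rw [← hn]
      exact map_smul (Ideal.Quotient.mkₐ (∀ i, V i)
        (LinearMap.ker (LinearMap.mulLeft C d) : Ideal C)) v c
    rw [Ideal.Quotient.eq_zero_iff_mem, LinearMap.mem_ker, LinearMap.mulLeft_apply,
      mul_smul_comm] at h1
    have h2 : d * c = 0 := by
      apply hregC
      simp only [smul_zero]
      rw [algebraMap_smul]
      exact h1
    rw [Ideal.Quotient.eq_zero_iff_mem, LinearMap.mem_ker, LinearMap.mulLeft_apply]
    exact h2
  obtain ⟨w, w', hww, hwb, hwd⟩ := exists_add_eq_one_of_mul_eq_zero (R := ∀ i, V i) b d hbd hflat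
  refine ⟨w', ?_⟩
  have : b = b * (w + w') := by rw [hww, mul_one]
  rw [hd] at hwd
  linear_combination this + hwb + hwd

end Main

end Groth.Agent.Lib.Helper4.Olivier
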