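import Mathlib
import Groth.Agent.Lib.Helper4.OlivierVal

/-!
# Olivier's theorem, part 2 (helper4): the key idempotent lemma over a normal base

`exists_eq_mul_of_sq_eq_mul`: `R` integrally closed in a field `Ω`, `C` weakly étale over `R`,
`s ≠ 0` in `R`, `b * b = s * b` in `C`  ⟹  `b ∈ s C`.
-/

set_option autoImplicit false
universe u
open TensorProduct

namespace Groth.Agent.Lib.Helper4.Olivier

section Descent

variable {R W C : Type*} [CommRing R] [CommRing W] [Algebra R W] [CommRing C] [Algebra R C]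
  [Module.Flat R C]

/-- Descent of divisibility: if `sW ∩ R = sR` and `C` is `R`-flat, then `1 ⊗ b ∈ s (W ⊗ C)`
implies `b ∈ s C`. -/
theorem exists_eq_mul_of_tmul (s : R)
    (hs : (Ideal.span {algebraMap R W s}).comap (algebraMap R W) ≤ Ideal.span {s}) (b : C)
    (w : W ⊗[R] C) (hw : (1 : W) ⊗ₜ[R] b = algebraMap R W s • w) :
    ∃ c : C, b = algebraMap R C s * c := by
  set I : Ideal R := Ideal.span {s} with hI
  set J : Ideal W := Ideal.span {algebraMap R W s} with hJ
  have hIJ : I ≤ J.comap (algebraMap R W) := by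
    rw [hI, Ideal.span_singleton_le_iff_mem, Ideal.mem_comap]
    exact Ideal.subset_span rfl
  let j : R ⧸ I →ₐ[R] W ⧸ J := Ideal.quotientMapₐ J (Algebra.ofId R W) hIJ
  have hj : Function.Injective j :=
    show Function.Injective (Ideal.quotientMap J (algebraMap R W) hIJ) from
      Ideal.quotientMap_injective' hs
  have hjC : Function.Injective (j.toLinearMap.rTensor C) :=
    Module.Flat.rTensor_preserves_injective_linearMap _ hj
  -- the projection `W ⊗ C → (W ⧸ J) ⊗ C`
  let π : W ⊗[R] C →ₗ[R] (W ⧸ J) ⊗[R] C :=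
    ((Ideal.Quotient.mkₐ R J).toLinearMap).rTensor C
  have hπ : ∀ w : W ⊗[R] C, π (algebraMap R W s • w) = 0 := by
    intro w
    induction w using TensorProduct.induction_on with
    | zero => simp
    | tmul x c =>
      rw [TensorProduct.smul_tmul', LinearMap.rTensor_tmul]
      have : (Ideal.Quotient.mkₐ R J).toLinearMap (algebraMap R W s • x) = 0 := by
        rw [AlgHom.toLinearMap_apply, Ideal.Quotient.mkₐ_eq_mk, Ideal.Quotient.eq_zero_iff_mem,
          smul_eq_mul]
        exact Ideal.mul_mem_right _ _ (Ideal.subset_span rfl)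
      rw [this, TensorProduct.zero_tmul]
    | add x y hx hy => rw [smul_add, map_add, hx, hy, add_zero]
  have h1 : (1 : W ⧸ J) ⊗ₜ[R] b = 0 := by
    have := hπ w
    rw [← hw, LinearMap.rTensor_tmul] at this
    simpa using this
  have h2 : j.toLinearMap.rTensor C ((1 : R ⧸ I) ⊗ₜ[R] b) = 0 := by
    rw [LinearMap.rTensor_tmul, AlgHom.toLinearMap_apply, map_one, h1]
  have h3 : (1 : R ⧸ I) ⊗ₜ[R] b = 0 := hjC (by rw [h2, map_zero])
  have h4 : (Submodule.Quotient.mk b : C ⧸ (I • ⊤ : Submodule R C)) = 0 := by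
    rw [← TensorProduct.quotTensorEquivQuotSMul_mk_one_tmul, h3, map_zero]
  rw [Submodule.Quotient.mk_eq_zero, hI, Submodule.ideal_span_singleton_smul,
    Submodule.mem_smul_pointwise_iff_exists] at h4
  obtain ⟨c, -, hc⟩ := h4
  exact ⟨c, by rw [← hc, Algebra.smul_def]⟩

end Descent

section Normal

variable {R Ω : Type u} [CommRing R] [Field Ω] [Algebra R Ω]

/-- The index set: valuation subrings of `Ω` containing the image of `R`. -/
abbrev ValIdx (R Ω : Type u) [CommRing R] [Field Ω] [Algebra R Ω] : Type u :=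
  {V : ValuationSubring Ω // ∀ r : R, algebraMap R Ω r ∈ V}

/-- The product of all valuation subrings of `Ω` containing `R`. -/
abbrev ValProd (R Ω : Type u) [CommRing R] [Field Ω] [Algebra R Ω] : Type u :=
  ∀ v : ValIdx R Ω, v.1

/-- The diagonal map `R → ∏ V`. -/
noncomputable def toValProd (R Ω : Type u) [CommRing R] [Field Ω] [Algebra R Ω] :
    R →+* ValProd R Ω :=
  RingHom.pi fun v => (algebraMap R Ω).codRestrict v.1.toSubring v.2

theorem toValProd_apply (r : R) (v : ValIdx R Ω) :
    ((toValProd R Ω r v : v.1) : Ω) = algebraMap R Ω r := rfl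

theorem comap_span_toValProd_le [IsIntegrallyClosedIn R Ω] (s : R) (hs : s ≠ 0) :
    (Ideal.span {toValProd R Ω s}).comap (toValProd R Ω) ≤ Ideal.span {s} := by
  intro r hr
  rw [Ideal.mem_comap, Ideal.mem_span_singleton'] at hr
  obtain ⟨w, hw⟩ := hr
  have hinj : Function.Injective (algebraMap R Ω) := IsIntegralClosure.algebraMap_injective R R Ω
  have hs0 : algebraMap R Ω s ≠ 0 := fun h => hs (hinj (by rw [h, map_zero]))
  have hwv : ∀ v : ValIdx R Ω, ((w v : v.1) : Ω) = algebraMap R Ω r / algebraMap R Ω s := by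
    intro v
    have := congrArg (fun f : ValProd R Ω => ((f v : v.1) : Ω)) hw
    simp only [Pi.mul_apply, toValProd_apply, MulMemClass.coe_mul] at this
    rw [eq_div_iff hs0]
    exact this
  set x : Ω := algebraMap R Ω r / algebraMap R Ω s with hx
  have hxr : ∃ t : R, algebraMap R Ω t = x := by
    by_contra hcon
    have hx1 : x ∉ (integralClosure R Ω).toSubring := by
      intro hmem
      exact hcon (IsIntegrallyClosedIn.isIntegral_iff.mp hmem)
    obtain ⟨V, hV, hxV⟩ := Subring.exists_le_valuationSubring_of_isIntegrallyClosedIn hx1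
    let v : ValIdx R Ω := ⟨V, fun r => hV (Subalgebra.algebraMap_mem (integralClosure R Ω) r)⟩
    apply hxV
    rw [← hwv v]
    exact (w v).2
  obtain ⟨t, ht⟩ := hxr
  rw [Ideal.mem_span_singleton']
  refine ⟨t, hinj ?_⟩
  rw [map_mul, ht, hx, div_mul_cancel₀ _ hs0]

/-- **Key idempotent lemma.**  `R` integrally closed in a field `Ω`, `C` weakly étale over `R`,
`s ≠ 0`, `b * b = s * b`  ⟹  `b ∈ s C`. -/
theorem exists_eq_mul_of_sq_eq_mul {R Ω C : Type u} [CommRing R] [Field Ω] [Algebra R Ω]
    [IsIntegrallyClosedIn R Ω] [CommRing C] [Algebra R C] [Algebra.WeaklyEtale R C]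
    (s : R) (hs : s ≠ 0) (b : C)
    (hb : b * b = algebraMap R C s * b) : ∃ w : C, b = algebraMap R C s * w := by
  let : Algebra R (ValProd R Ω) := (toValProd R Ω).toAlgebra
  have hcomap := comap_span_toValProd_le (R := R) (Ω := Ω) s hs
  -- apply the product-of-valuation-rings lemma to `W ⊗ C`
  have hb' : ((1 : ValProd R Ω) ⊗ₜ[R] b) * ((1 : ValProd R Ω) ⊗ₜ[R] b) =
      algebraMap (ValProd R Ω) (ValProd R Ω ⊗[R] C) (algebraMap R (ValProd R Ω) s) *
        ((1 : ValProd R Ω) ⊗ₜ[R] b) := by
    rw [Algebra.TensorProduct.tmul_mul_tmul, hb, Algebra.TensorProduct.algebraMap_apply,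
      Algebra.TensorProduct.tmul_mul_tmul, mul_one, one_mul, Algebra.algebraMap_self_apply,
      ← Algebra.smul_def, ← Algebra.smul_def, TensorProduct.tmul_smul, TensorProduct.smul_tmul']
  obtain ⟨w, hw⟩ := exists_eq_mul_of_sq_eq_mul_pi
    (V := fun v : ValIdx R Ω => v.1) (C := ValProd R Ω ⊗[R] C)
    (algebraMap R (ValProd R Ω) s) ((1 : ValProd R Ω) ⊗ₜ[R] b) hb'
  refine exists_eq_mul_of_tmul (W := ValProd R Ω) s hcomap b w ?_
  rw [hw, Algebra.smul_def]

end Normal

end Groth.Agent.Lib.Helper4.Olivier
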