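import Mathlib
import Groth.Agent.Lib.Helper4.OlivierNormal
import Groth.Agent.Lib.Helper98.OlivierAdapter
import Groth.Agent.Lib.Helper10.WEField
import Groth.Agent.Lib.Helper10.WEBasic

/-!
# Olivier's theorem: final assembly (helper4)

A weakly étale local homomorphism from a strictly henselian local ring to a local ring is
bijective.  Uses helper98's core lemma (`Lib/Helper98/Olivier*.lean`), helper10's weakly étale
library and the key idempotent lemma `exists_eq_mul_of_sq_eq_mul`.
-/

set_option autoImplicit false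
set_option linter.style.haveILetI false
universe u
open TensorProduct IsLocalRing Polynomial

namespace Groth.Agent.Lib.Helper4.Olivier

theorem keyLemma : Groth.Agent.Lib.Helper98.Olivier.KeyLemma.{u} :=
  fun _ Ω _ _ _ _ _ _ _ _ s hs b hb => exists_eq_mul_of_sq_eq_mul (Ω := Ω) s hs b hb

/-- The residue field extensions of a weakly étale ring map are algebraic. -/
theorem isAlgebraic_residueFieldMap {A T : Type u} [CommRing A] [CommRing T] [Algebra A T]
    [Algebra.WeaklyEtale A T] (p : Ideal A) [p.IsPrime] (Q : Ideal T) [Q.IsPrime]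
    (hpQ : p = Q.comap (algebraMap A T)) :
    letI := (Ideal.ResidueField.map p Q (algebraMap A T) hpQ).toAlgebra
    Algebra.IsAlgebraic p.ResidueField Q.ResidueField := by
  letI := (Ideal.ResidueField.map p Q (algebraMap A T) hpQ).toAlgebra
  haveI : IsScalarTower A p.ResidueField Q.ResidueField := by
    refine IsScalarTower.of_algebraMap_eq fun a => ?_
    rw [RingHom.algebraMap_toAlgebra, Ideal.ResidueField.map_algebraMap,
      ← IsScalarTower.algebraMap_apply A T Q.ResidueField]
  let ψ : p.ResidueField ⊗[A] T →ₐ[p.ResidueField] Q.ResidueField :=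
    Algebra.TensorProduct.lift (Algebra.ofId p.ResidueField Q.ResidueField)
      (IsScalarTower.toAlgHom A T Q.ResidueField) (fun _ _ => Commute.all _ _)
  have hT : ∀ t : T, algebraMap T Q.ResidueField t ∈
      algebraicClosure p.ResidueField Q.ResidueField := by
    intro t
    rw [mem_algebraicClosure_iff']
    obtain ⟨P, hP, -, hP0⟩ :=
      Groth.Agent.Lib.Helper10.WE.exists_monic_separable_aeval_eq_zero p.ResidueField
        (p.ResidueField ⊗[A] T) ((1 : p.ResidueField) ⊗ₜ[A] t)
    refine ⟨P, hP, ?_⟩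
    have h1 : ψ ((1 : p.ResidueField) ⊗ₜ[A] t) = algebraMap T Q.ResidueField t := by
      simp [ψ]
    rw [← aeval_def, ← h1, aeval_algHom_apply, hP0, map_zero]
  refine ⟨fun x => ?_⟩
  rw [← mem_algebraicClosure_iff]
  obtain ⟨a, b, -, rfl⟩ := IsFractionRing.div_surjective (A := T ⧸ Q) x
  obtain ⟨a, rfl⟩ := Ideal.Quotient.mk_surjective a
  obtain ⟨b, rfl⟩ := Ideal.Quotient.mk_surjective b
  rw [Ideal.algebraMap_quotient_residueField_mk, Ideal.algebraMap_quotient_residueField_mk]
  exact div_mem (hT a) (hT b)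

section Main

variable {A B : Type u} [CommRing A] [CommRing B] [HenselianLocalRing A] [IsLocalRing B]
  [IsSepClosed (ResidueField A)] [Algebra A B] [IsLocalHom (algebraMap A B)]
  [Algebra.WeaklyEtale A B]

/-- every prime of `B ⊗[A] B` contains the generators of the diagonal ideal -/
theorem tmul_sub_tmul_mem (Q : Ideal (B ⊗[A] B)) [Q.IsPrime] (b : B) :
    b ⊗ₜ[A] (1 : B) - (1 : B) ⊗ₜ[A] b ∈ Q := by
  haveI : Algebra.WeaklyEtale A (B ⊗[A] B) := Algebra.WeaklyEtale.trans A B (B ⊗[A] B)
  set p : Ideal A := Q.comap (algebraMap A (B ⊗[A] B)) with hp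
  letI algκ : Algebra p.ResidueField Q.ResidueField :=
    (Ideal.ResidueField.map p Q (algebraMap A (B ⊗[A] B)) rfl).toAlgebra
  haveI hκ : Algebra.IsAlgebraic p.ResidueField Q.ResidueField :=
    isAlgebraic_residueFieldMap p Q rfl
  haveI : IsScalarTower A p.ResidueField Q.ResidueField := by
    refine IsScalarTower.of_algebraMap_eq fun a => ?_
    rw [RingHom.algebraMap_toAlgebra, Ideal.ResidueField.map_algebraMap,
      ← IsScalarTower.algebraMap_apply A (B ⊗[A] B) Q.ResidueField]
  let Ω := AlgebraicClosure Q.ResidueField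
  haveI : Algebra.IsAlgebraic p.ResidueField Ω :=
    Algebra.IsAlgebraic.trans p.ResidueField Q.ResidueField Ω
  haveI : IsScalarTower A p.ResidueField Ω := by
    refine IsScalarTower.of_algebraMap_eq fun a => ?_
    rw [IsScalarTower.algebraMap_apply A Q.ResidueField Ω,
      IsScalarTower.algebraMap_apply A p.ResidueField Q.ResidueField,
      ← IsScalarTower.algebraMap_apply p.ResidueField Q.ResidueField Ω]
  haveI : IsScalarTower A (B ⊗[A] B) Ω := by
    refine IsScalarTower.of_algebraMap_eq fun a => ?_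
    rw [IsScalarTower.algebraMap_apply A Q.ResidueField Ω,
      IsScalarTower.algebraMap_apply A (B ⊗[A] B) Q.ResidueField,
      ← IsScalarTower.algebraMap_apply (B ⊗[A] B) Q.ResidueField Ω]
  let β₁ : B →ₐ[A] Ω := (IsScalarTower.toAlgHom A (B ⊗[A] B) Ω).comp
    (Algebra.TensorProduct.includeLeft : B →ₐ[A] B ⊗[A] B)
  let β₂ : B →ₐ[A] Ω := (IsScalarTower.toAlgHom A (B ⊗[A] B) Ω).comp
    (Algebra.TensorProduct.includeRight : B →ₐ[A] B ⊗[A] B)
  have hβ : β₁ = β₂ :=
    Groth.Agent.Lib.Helper98.Olivier.algHom_ext_of_isAlgebraic_residueField keyLemma p β₁ β₂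
  have h1 : algebraMap (B ⊗[A] B) Ω (b ⊗ₜ[A] (1 : B) - (1 : B) ⊗ₜ[A] b) = 0 := by
    have := congrArg (fun β : B →ₐ[A] Ω => β b) hβ
    simp only [β₁, β₂, AlgHom.comp_apply, IsScalarTower.coe_toAlgHom',
      Algebra.TensorProduct.includeLeft_apply, Algebra.TensorProduct.includeRight_apply] at this
    rw [map_sub, this, sub_self]
  rw [IsScalarTower.algebraMap_apply (B ⊗[A] B) Q.ResidueField Ω] at h1
  have h2 := (algebraMap Q.ResidueField Ω).injective (h1.trans (map_zero _).symm)
  exact Ideal.algebraMap_residueField_eq_zero.mp h2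

/-- the multiplication map `B ⊗[A] B → B` is injective -/
theorem lmul'_injective : Function.Injective (Algebra.TensorProduct.lmul' A (S := B)) := by
  have hsurj : Function.Surjective (Algebra.TensorProduct.lmul' A (S := B)).toRingHom :=
    fun c => ⟨c ⊗ₜ 1, by simp⟩
  haveI hpure : (RingHom.ker (Algebra.TensorProduct.lmul' A (S := B)).toRingHom).Pure :=
    Groth.Agent.Lib.Helper10.WE.pure_ker_of_flat _ hsurj (Algebra.WeaklyEtale.flat_lmul' A B)
  have hker : RingHom.ker (Algebra.TensorProduct.lmul' A (S := B)).toRingHom =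
      KaehlerDifferential.ideal A B := rfl
  have hle : ∀ (Q : Ideal (B ⊗[A] B)), Q.IsPrime →
      RingHom.ker (Algebra.TensorProduct.lmul' A (S := B)).toRingHom ≤ Q := by
    intro Q hQ
    rw [hker, ← KaehlerDifferential.span_range_eq_ideal, Ideal.span_le]
    rintro _ ⟨b, rfl⟩
    have := tmul_sub_tmul_mem Q b
    show (1 : B) ⊗ₜ[A] b - b ⊗ₜ[A] (1 : B) ∈ Q
    rw [← neg_sub]
    exact Q.neg_mem this
  rw [injective_iff_map_eq_zero]
  intro x hx
  have hxI : x ∈ RingHom.ker (Algebra.TensorProduct.lmul' A (S := B)).toRingHom := hx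
  obtain ⟨y, hy, hxy⟩ := Ideal.exists_eq_mul_of_pure hxI
  have hynil : y ∈ nilradical (B ⊗[A] B) := by
    rw [nilradical_eq_sInf, Ideal.mem_sInf]
    intro Q hQ
    exact hle Q hQ hy
  obtain ⟨n, hn⟩ := hynil
  have hpow : ∀ k : ℕ, x = x * y ^ k := by
    intro k
    induction k with
    | zero => rw [pow_zero, mul_one]
    | succ k ih => rw [pow_succ, ← mul_assoc, ← ih, ← hxy]
  rw [hpow n, hn, mul_zero]

/-- **Olivier's theorem.** -/
theorem bijective_algebraMap : Function.Bijective (algebraMap A B) := by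
  haveI : Module.FaithfullyFlat A B := Module.FaithfullyFlat.of_flat_of_isLocalHom
  have hinj : Function.Injective (algebraMap A B) :=
    FaithfulSMul.algebraMap_injective A B
  refine ⟨hinj, ?_⟩
  have hμ := lmul'_injective (A := A) (B := B)
  -- `b ↦ b ⊗ 1` is surjective
  have hleft : ∀ t : B ⊗[A] B, (Algebra.TensorProduct.lmul' A (S := B) t) ⊗ₜ[A] (1 : B) = t := by
    intro t
    apply hμ
    simp
  have hlT : Function.Surjective ((Algebra.linearMap A B).lTensor B) := by
    intro t
    refine ⟨(Algebra.TensorProduct.lmul' A (S := B) t) ⊗ₜ[A] (1 : A), ?_⟩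
    rw [LinearMap.lTensor_tmul, Algebra.linearMap_apply, map_one]
    exact hleft t
  exact (Module.FaithfullyFlat.lTensor_surjective_iff_surjective A B
    (Algebra.linearMap A B)).mp hlT

end Main

end Groth.Agent.Lib.Helper4.Olivier
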