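import Groth.Agent.Lib.Helper4.ProEtCov
import Groth.Agent.Lib.Helper98.WESch
import Groth.Prelude.Def_PBC

/-!
# Affine objects of the small pro-étale site and w-contractible rings

`exists_clopen_of_isWContractible` / `isWContractible_of_clopen`: for an affine object `U` of
`X.ProEt`, `Γ(U)` is w-contractible iff every covering sieve of `U` contains the pieces of a finite
clopen decomposition of `U`.
-/

set_option autoImplicit false
set_option linter.style.haveILetI false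
universe u w
open CategoryTheory AlgebraicGeometry Opposite Limits
open Groth.Agent.Lib.Helper4.ProEtCov

namespace Groth.Agent.Lib.Helper4.ProEtAff

theorem ring_of_affine {W Y : Scheme.{u}} (p : W ⟶ Y) [IsAffine W] [IsAffine Y] [WeaklyEtale p]
    [Surjective p] :
    letI := p.appTop.hom.toAlgebra
    Algebra.WeaklyEtale Γ(Y, ⊤) Γ(W, ⊤) ∧ Module.FaithfullyFlat Γ(Y, ⊤) Γ(W, ⊤) := by
  letI := p.appTop.hom.toAlgebra
  have h1 : WeaklyEtale (Spec.map p.appTop) :=
    (MorphismProperty.arrow_mk_iso_iff @WeaklyEtale (arrowIsoSpecΓOfIsAffine p)).1 inferInstance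
  have h2 : Surjective (Spec.map p.appTop) :=
    (MorphismProperty.arrow_mk_iso_iff @Surjective (arrowIsoSpecΓOfIsAffine p)).1 inferInstance
  have hwe : Algebra.WeaklyEtale Γ(Y, ⊤) Γ(W, ⊤) :=
    (Groth.Agent.Lib.Helper98.WESch.weaklyEtale_SpecMap_iff' p.appTop).1 h1
  refine ⟨hwe, ?_⟩
  haveI : Module.Flat Γ(Y, ⊤) Γ(W, ⊤) := hwe.flat
  apply Module.FaithfullyFlat.of_comap_surjective
  exact h2.surj

theorem exists_section_of_retraction {W Y : Scheme.{u}} (p : W ⟶ Y) [IsAffine W] [IsAffine Y]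
    (r : Γ(W, ⊤) ⟶ Γ(Y, ⊤)) (hr : p.appTop ≫ r = 𝟙 _) : ∃ σ : Y ⟶ W, σ ≫ p = 𝟙 Y := by
  refine ⟨Y.isoSpec.hom ≫ Spec.map r ≫ W.isoSpec.inv, ?_⟩
  rw [Category.assoc, Category.assoc, ← Scheme.isoSpec_inv_naturality, ← Spec.map_comp_assoc, hr,
    Spec.map_id, Category.id_comp, Iso.hom_inv_id]

variable {X : Scheme.{u}}

theorem exists_clopen_of_isWContractible (U : X.ProEt) [IsAffine U.left]
    (hA : EtPBC.IsWContractible ↥(Γ(U.left, ⊤))) (R : Sieve U)
    (hR : R ∈ Scheme.ProEt.topology X U) :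
    ∃ (n : ℕ) (W : Fin n → U.left.Opens),
      (∀ k, IsClopen ((W k : Set ↥U.left))) ∧
      Pairwise (fun k l => Disjoint (W k : Set ↥U.left) (W l)) ∧
      (⋃ k, (W k : Set ↥U.left)) = Set.univ ∧
      ∀ k, R.arrows (MorphismProperty.Over.homMk (W k).ι rfl trivial :
        Scheme.ProEt.mk ((W k).ι ≫ U.hom) ⟶ U) := by
  obtain ⟨𝒰, hqc, H⟩ := exists_cover_of_mem hR
  obtain ⟨n, f, V, hV, hcov⟩ := QuasiCompactCover.exists_isAffineOpen_of_isCompact
    𝒰.toPreZeroHypercover (U := ⊤) isCompact_univ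
  let Wk : Fin n → Scheme.{u} := fun k => ↑(V k)
  haveI : ∀ k, IsAffine (Wk k) := hV
  let pk : ∀ k, Wk k ⟶ U.left := fun k => (V k).ι ≫ 𝒰.f (f k)
  let p : (∐ Wk) ⟶ U.left := Sigma.desc pk
  haveI hpwe : WeaklyEtale p := IsZariskiLocalAtSource.sigmaDesc (fun k => inferInstance)
  haveI hpsurj : Surjective p := by
    apply Surjective.sigmaDesc_of_union_range_eq_univ
    have : ∀ k, Set.range (pk k) = 𝒰.f (f k) '' (V k) := by
      intro k
      simp only [pk, Scheme.Hom.comp_base, TopCat.coe_comp, Set.range_comp]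
      congr 1
      exact (V k).range_ι
    simp_rw [this]
    exact hcov
  obtain ⟨hwe, hff⟩ := ring_of_affine p
  letI := p.appTop.hom.toAlgebra
  obtain ⟨r⟩ := hA Γ(∐ Wk, ⊤) hff hwe
  have hr : p.appTop ≫ CommRingCat.ofHom r.toRingHom = 𝟙 _ := by
    ext x
    exact r.commutes x
  obtain ⟨σ, hσ⟩ := exists_section_of_retraction p _ hr
  have hcover : ∀ x : ↥(∐ Wk), ∃ k, x ∈ (Sigma.ι Wk k).opensRange := by
    intro x
    have := (sigmaOpenCover Wk).iUnion_range
    have hx : x ∈ ⋃ i, Set.range ((sigmaOpenCover Wk).f i) := by rw [this]; trivial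
    obtain ⟨k, hk⟩ := Set.mem_iUnion.1 hx
    exact ⟨k, hk⟩
  have hdisj : ∀ k l, k ≠ l → ∀ x : ↥(∐ Wk), x ∈ (Sigma.ι Wk k).opensRange →
      x ∈ (Sigma.ι Wk l).opensRange → False := by
    intro k l hkl x hxk hxl
    have := disjoint_opensRange_sigmaι Wk k l hkl
    exact (disjoint_iff.1 this).le ⟨hxk, hxl⟩
  refine ⟨n, fun k => σ ⁻¹ᵁ (Sigma.ι Wk k).opensRange, ?_, ?_, ?_, ?_⟩
  · intro k
    have hcl : IsClosed ((Sigma.ι Wk k).opensRange : Set ↥(∐ Wk)) := by
      rw [← isOpen_compl_iff]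
      have : ((Sigma.ι Wk k).opensRange : Set ↥(∐ Wk))ᶜ =
          ⋃ l ∈ {l | l ≠ k}, ((Sigma.ι Wk l).opensRange : Set ↥(∐ Wk)) := by
        ext x
        simp only [Set.mem_compl_iff, Set.mem_iUnion, Set.mem_ofPred_eq, exists_prop]
        constructor
        · intro hx
          obtain ⟨l, hl⟩ := hcover x
          refine ⟨l, ?_, hl⟩
          rintro rfl
          exact hx hl
        · rintro ⟨l, hlk, hl⟩ hx
          exact hdisj l k hlk x hl hx
      rw [this]
      exact isOpen_biUnion fun l _ => (Sigma.ι Wk l).opensRange.isOpen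
    exact (show IsClopen ((Sigma.ι Wk k).opensRange : Set ↥(∐ Wk)) from ⟨hcl, (Sigma.ι Wk k).opensRange.isOpen⟩).preimage σ.continuous
  · intro k l hkl
    rw [Set.disjoint_left]
    intro x hxk hxl
    exact hdisj k l hkl (σ.base x) hxk hxl
  · rw [Set.eq_univ_iff_forall]
    intro x
    obtain ⟨k, hk⟩ := hcover (σ.base x)
    exact Set.mem_iUnion.2 ⟨k, hk⟩
  · intro k
    set W' : U.left.Opens := σ ⁻¹ᵁ (Sigma.ι Wk k).opensRange with hW'
    have hrange : Set.range (W'.ι ≫ σ).base ⊆ Set.range (Sigma.ι Wk k).base := by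
      rintro _ ⟨x, rfl⟩
      exact x.2
    let lift : (↑W' : Scheme.{u}) ⟶ Wk k := IsOpenImmersion.lift (Sigma.ι Wk k) (W'.ι ≫ σ) hrange
    have hlift : lift ≫ Sigma.ι Wk k = W'.ι ≫ σ := IsOpenImmersion.lift_fac _ _ _
    have hfac : (lift ≫ (V k).ι) ≫ 𝒰.f (f k) = W'.ι := by
      have h1 : Sigma.ι Wk k ≫ p = pk k := Sigma.ι_desc _ _
      calc (lift ≫ (V k).ι) ≫ 𝒰.f (f k) = lift ≫ pk k := by rw [Category.assoc]
        _ = lift ≫ Sigma.ι Wk k ≫ p := by rw [h1]
        _ = W'.ι ≫ σ ≫ p := by rw [← Category.assoc, hlift, Category.assoc]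
        _ = W'.ι := by rw [hσ, Category.comp_id]
    exact arrows_of_factor W'.ι _ (H (f k)) (lift ≫ (V k).ι) hfac

theorem isWContractible_of_clopen (U : X.ProEt) [IsAffine U.left]
    (H : ∀ R ∈ Scheme.ProEt.topology X U, ∃ (n : ℕ) (W : Fin n → U.left.Opens),
      (∀ k, IsClopen ((W k : Set ↥U.left))) ∧
      Pairwise (fun k l => Disjoint (W k : Set ↥U.left) (W l)) ∧
      (⋃ k, (W k : Set ↥U.left)) = Set.univ ∧
      ∀ k, R.arrows (MorphismProperty.Over.homMk (W k).ι rfl trivial :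
        Scheme.ProEt.mk ((W k).ι ≫ U.hom) ⟶ U)) :
    EtPBC.IsWContractible ↥(Γ(U.left, ⊤)) := by
  intro B _ _ hff hwe
  let φ : Γ(U.left, ⊤) ⟶ CommRingCat.of B := CommRingCat.ofHom (algebraMap _ B)
  let g₀ : Spec (CommRingCat.of B) ⟶ U.left := Spec.map φ ≫ U.left.isoSpec.inv
  haveI h1 : WeaklyEtale (Spec.map φ) :=
    Groth.Agent.Lib.Helper98.WESch.weaklyEtale_SpecMap_iff.2 hwe
  haveI h2 : Surjective (Spec.map φ) :=
    ⟨PrimeSpectrum.comap_surjective_of_faithfullyFlat (A := ↥(Γ(U.left, ⊤))) (B := B)⟩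
  haveI : WeaklyEtale g₀ := inferInstanceAs (WeaklyEtale (Spec.map φ ≫ U.left.isoSpec.inv))
  haveI : Surjective g₀ := inferInstanceAs (Surjective (Spec.map φ ≫ U.left.isoSpec.inv))
  haveI : QuasiCompact g₀ := inferInstanceAs (QuasiCompact (Spec.map φ ≫ U.left.isoSpec.inv))
  let Vp : X.ProEt := Scheme.ProEt.mk (g₀ ≫ U.hom)
  let g : Vp ⟶ U := MorphismProperty.Over.homMk g₀ rfl trivial
  haveI : Surjective g.left := inferInstanceAs (Surjective g₀)
  haveI : QuasiCompact g.left := inferInstanceAs (QuasiCompact g₀)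
  have hR := generate_singleton_mem g
  obtain ⟨n, W, hclopen, hdisj, hcov, Harr⟩ := H _ hR
  -- the local sections
  have hex : ∀ k, ∃ s : (↑(W k) : Scheme.{u}) ⟶ Spec (CommRingCat.of B), s ≫ g₀ = (W k).ι := by
    intro k
    obtain ⟨Y, a, g', ⟨⟩, ha⟩ := Harr k
    refine ⟨a.left, ?_⟩
    have := congrArg (fun t => t.left) ha
    exact this
  choose s hs using hex
  have hcover : TopologicalSpace.IsOpenCover W := by
    rw [TopologicalSpace.IsOpenCover]
    apply TopologicalSpace.Opens.ext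
    simpa using hcov
  let 𝒲 : U.left.OpenCover := U.left.openCoverOfIsOpenCover W hcover
  have hcompat : ∀ k l, pullback.fst (𝒲.f k) (𝒲.f l) ≫ s k = pullback.snd _ _ ≫ s l := by
    intro k l
    by_cases hkl : k = l
    · subst hkl
      have : pullback.fst (𝒲.f k) (𝒲.f k) = pullback.snd _ _ := by
        rw [← cancel_mono (𝒲.f k)]
        exact pullback.condition
      exact congrArg (· ≫ s k) this
    · haveI : IsEmpty ↥(pullback (𝒲.f k) (𝒲.f l)) := by
        constructor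
        intro z
        have h1 : (pullback.fst (𝒲.f k) (𝒲.f l) ≫ 𝒲.f k).base z ∈ (W k : Set ↥U.left) := by
          rw [Scheme.Hom.comp_base]
          exact ((pullback.fst (𝒲.f k) (𝒲.f l)).base z).2
        have h2 : (pullback.fst (𝒲.f k) (𝒲.f l) ≫ 𝒲.f k).base z ∈ (W l : Set ↥U.left) := by
          rw [pullback.condition, Scheme.Hom.comp_base]
          exact ((pullback.snd (𝒲.f k) (𝒲.f l)).base z).2
        exact (Set.disjoint_left.1 (hdisj hkl)) h1 h2
      exact (isInitialOfIsEmpty (X := pullback (𝒲.f k) (𝒲.f l))).hom_ext _ _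
  let σ : U.left ⟶ Spec (CommRingCat.of B) := 𝒲.glueMorphisms s hcompat
  have hσk : ∀ k, 𝒲.f k ≫ σ = s k := fun k => Scheme.Cover.ι_glueMorphisms 𝒲 s hcompat k
  have hσ : σ ≫ g₀ = 𝟙 _ := by
    apply 𝒲.hom_ext
    intro k
    rw [← Category.assoc, hσk, Category.comp_id]
    exact hs k
  -- the retraction
  let r : CommRingCat.of B ⟶ Γ(U.left, ⊤) := Spec.preimage (U.left.isoSpec.inv ≫ σ)
  have hr : Spec.map r = U.left.isoSpec.inv ≫ σ := Spec.map_preimage _
  have hφr : φ ≫ r = 𝟙 _ := by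
    apply Spec.map_injective
    rw [Spec.map_comp, hr, Spec.map_id]
    have : Spec.map φ = g₀ ≫ U.left.isoSpec.hom := by
      simp only [g₀, Category.assoc, Iso.inv_hom_id, Category.comp_id]
    rw [this, Category.assoc, ← Category.assoc σ, hσ, Category.id_comp, Iso.inv_hom_id]
  exact ⟨{ toRingHom := r.hom
           commutes' := fun a => by
             have := congrArg (fun t => t.hom a) hφr
             exact this }⟩

end Groth.Agent.Lib.Helper4.ProEtAff
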