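import Groth.Agent.Lib.Helper4.ProEtAff

/-!
# Weakly contractible objects of the small pro-étale site

`isWC_of_isWContractible`, `isWContractible_of_isWC`: an affine object `U` of `X.ProEt` is weakly
contractible iff `Γ(U)` is a w-contractible ring.  Also `existsUnique_glue`: sheaves glue uniquely
over finite decompositions into disjoint opens.
-/

set_option autoImplicit false
set_option linter.style.haveILetI false
universe u w
open CategoryTheory AlgebraicGeometry Opposite Limits
open Groth.Agent.Lib.Helper4.ProEtCov Groth.Agent.Lib.Helper4.ProEtAff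

namespace Groth.Agent.Lib.Helper4.ProEtWC

variable {X : Scheme.{u}}

/-- sheaves on the pro-étale site have a single section over empty objects -/
theorem subsingleton_of_isEmpty (F : Sheaf (Scheme.ProEt.topology X) (Type (u + 1)))
    (Z : X.ProEt) [IsEmpty Z.left] : Subsingleton (F.obj.obj (op Z)) := by
  constructor
  intro a b
  have hF := (isSheaf_iff_isSheaf_of_type _ _).1 F.2
  have hsep := (hF _ (Scheme.ProEt.bot_mem_topology Z)).isSeparatedFor
  exact hsep.ext (fun Y f hf => hf.elim)

variable (U : X.ProEt) {ι : Type w} (W : ι → U.left.Opens)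

/-- the object of the pro-étale site given by an open of `U` -/
noncomputable abbrev openObj (k : ι) : X.ProEt := Scheme.ProEt.mk ((W k).ι ≫ U.hom)

/-- the inclusion of an open of `U` -/
noncomputable abbrev openHom (k : ι) : openObj U W k ⟶ U :=
  MorphismProperty.Over.homMk (W k).ι rfl trivial

variable {U W}

theorem generate_openHom_mem (hcov : (⋃ k, (W k : Set ↥U.left)) = Set.univ) :
    Sieve.generate (Presieve.ofArrows (openObj U W) (openHom U W)) ∈ Scheme.ProEt.topology X U := by
  have hcover : TopologicalSpace.IsOpenCover W := by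
    rw [TopologicalSpace.IsOpenCover]
    apply TopologicalSpace.Opens.ext
    simpa using hcov
  let 𝒲 : U.left.OpenCover := U.left.openCoverOfIsOpenCover W hcover
  let 𝒲' : Scheme.Cover.{w} (Scheme.precoverage @WeaklyEtale) U.left :=
    𝒲.weaken (Scheme.precoverage_mono (fun _ _ f hf => by
      have : IsOpenImmersion f := hf
      infer_instance))
  haveI : QuasiCompactCover 𝒲'.toPreZeroHypercover :=
    inferInstanceAs (QuasiCompactCover 𝒲.toPreZeroHypercover)
  refine mem_of_cover 𝒲' (fun k => ?_)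
  exact Sieve.le_generate _ _ _ (Presieve.ofArrows.mk k)

theorem existsUnique_glue (F : Sheaf (Scheme.ProEt.topology X) (Type (u + 1)))
    (hdisj : Pairwise (fun k l => Disjoint (W k : Set ↥U.left) (W l)))
    (hcov : (⋃ k, (W k : Set ↥U.left)) = Set.univ)
    (x : ∀ k, F.obj.obj (op (openObj U W k))) :
    ∃! t : F.obj.obj (op U), ∀ k, F.obj.map (openHom U W k).op t = x k := by
  have hF := (isSheaf_iff_isSheaf_of_type _ _).1 F.2
  have h1 := hF _ (generate_openHom_mem hcov)
  rw [← Presieve.isSheafFor_iff_generate, Presieve.isSheafFor_arrows_iff] at h1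
  refine h1 x ?_
  intro k l Z gk gl hkl
  by_cases h : k = l
  · subst h
    have : gk = gl := by
      apply MorphismProperty.Over.Hom.ext
      have h2 := congrArg (fun t => t.left) hkl
      have h3 : gk.left ≫ (W k).ι = gl.left ≫ (W k).ι := h2
      exact (cancel_mono (W k).ι).1 h3
    rw [this]
  · haveI : IsEmpty Z.left := by
      constructor
      intro z
      have h2 := congrArg (fun t => t.left) hkl
      have h3 : gk.left ≫ (W k).ι = gl.left ≫ (W l).ι := h2
      have h4 : (gk.left ≫ (W k).ι) z ∈ (W k : Set ↥U.left) := (gk.left z).2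
      have h5 : (gk.left ≫ (W k).ι) z ∈ (W l : Set ↥U.left) := by
        rw [h3]
        exact (gl.left z).2
      exact (Set.disjoint_left.1 (hdisj h)) h4 h5
    exact (subsingleton_of_isEmpty F Z).elim _ _

/-- (1) ⇒ (2) -/
theorem isWC_of_isWContractible (U : X.ProEt) [IsAffine U.left]
    (hA : EtPBC.IsWContractible ↥(Γ(U.left, ⊤))) : ProEtS.IsWC U := by
  intro F G φ hφ s
  have hls : Sheaf.IsLocallySurjective φ := (Sheaf.isLocallySurjective_iff_epi φ).2 hφ
  have hT : Presheaf.imageSieve φ.hom s ∈ Scheme.ProEt.topology X U :=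
    Presheaf.imageSieve_mem _ φ.hom s
  obtain ⟨n, W, -, hdisj, hcov, Harr⟩ := exists_clopen_of_isWContractible U hA _ hT
  choose x hx using Harr
  obtain ⟨t, ht, -⟩ := existsUnique_glue F hdisj hcov x
  refine ⟨t, ?_⟩
  obtain ⟨t', -, huniq⟩ := existsUnique_glue G hdisj hcov
    (fun k => G.obj.map (openHom U W k).op s)
  rw [huniq (φ.hom.app (op U) t) ?_, huniq s (fun k => rfl)]
  intro k
  have := NatTrans.naturality_apply φ.hom (openHom U W k).op t
  rw [← this, ht k]
  exact hx k

/-- (2) ⇒ (1) -/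
theorem isWContractible_of_isWC (U : X.ProEt) [IsAffine U.left] (hU : ProEtS.IsWC U) :
    EtPBC.IsWContractible ↥(Γ(U.left, ⊤)) := by
  intro B _ _ hff hwe
  let φ : Γ(U.left, ⊤) ⟶ CommRingCat.of B := CommRingCat.ofHom (algebraMap _ B)
  let g₀ : Spec (CommRingCat.of B) ⟶ U.left := Spec.map φ ≫ U.left.isoSpec.inv
  haveI h1 : WeaklyEtale (Spec.map φ) :=
    Groth.Agent.Lib.Helper98.WESch.weaklyEtale_SpecMap_iff.2 hwe
  haveI h2 : Surjective (Spec.map φ) :=
    ⟨PrimeSpectrum.comap_surjective_of_faithfullyFlat (A := ↥(Γ(U.left, ⊤))) (B := B)⟩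
  haveI : WeaklyEtale g₀ := inferInstanceAs (WeaklyEtale (Spec.map φ ≫ U.left.isoSpec.inv))
  haveI : Surjective g₀ := inferInstanceAs (Surjective (Spec.map φ ≫ U.left.isoSpec.inv))
  haveI : QuasiCompact g₀ := inferInstanceAs (QuasiCompact (Spec.map φ ≫ U.left.isoSpec.inv))
  let Vp : X.ProEt := Scheme.ProEt.mk (g₀ ≫ U.hom)
  let g : Vp ⟶ U := MorphismProperty.Over.homMk g₀ rfl trivial
  haveI : Surjective g.left := inferInstanceAs (Surjective g₀)
  haveI : QuasiCompact g.left := inferInstanceAs (QuasiCompact g₀)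
  have hR := generate_singleton_mem g
  let ψ := (Scheme.ProEt.topology X).uliftYoneda.{u + 1}.map g
  have hls : Sheaf.IsLocallySurjective ψ := by
    refine ⟨fun {Z} s => ?_⟩
    refine (Scheme.ProEt.topology X).superset_covering ?_
      ((Scheme.ProEt.topology X).pullback_stable s.down hR)
    rintro Z' i ⟨Y, a, g', ⟨⟩, ha⟩
    exact ⟨⟨a⟩, congrArg ULift.up ha⟩
  have hepi : Epi ψ := (Sheaf.isLocallySurjective_iff_epi ψ).1 hls
  obtain ⟨⟨a⟩, ha⟩ := hU _ _ ψ hepi ⟨𝟙 U⟩
  have ha' : a ≫ g = 𝟙 U := congrArg ULift.down ha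
  let σ : U.left ⟶ Spec (CommRingCat.of B) := a.left
  have hσ : σ ≫ g₀ = 𝟙 _ := congrArg (fun t => t.left) ha'
  let r : CommRingCat.of B ⟶ Γ(U.left, ⊤) := Spec.preimage (U.left.isoSpec.inv ≫ σ)
  have hr : Spec.map r = U.left.isoSpec.inv ≫ σ := Spec.map_preimage _
  have hφr : φ ≫ r = 𝟙 _ := by
    apply Spec.map_injective
    rw [Spec.map_comp, hr, Spec.map_id]
    have : Spec.map φ = g₀ ≫ U.left.isoSpec.hom := by
      simp only [g₀, Category.assoc, Iso.inv_hom_id, Category.comp_id]
    rw [this, Category.assoc, ← Category.assoc σ, hσ, Category.id_comp, Iso.inv_hom_id]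
  exact ⟨{ toRingHom := r.hom
           commutes' := fun a => by
             have := congrArg (fun t => t.hom a) hφr
             exact this }⟩

theorem isWC_of_iso {U U' : X.ProEt} (e : U ≅ U') (h : ProEtS.IsWC U) : ProEtS.IsWC U' := by
  intro F G φ hφ s
  obtain ⟨t', ht'⟩ := h F G φ hφ (G.obj.map e.hom.op s)
  refine ⟨F.obj.map e.inv.op t', ?_⟩
  have h1 := NatTrans.naturality_apply φ.hom e.inv.op t'
  rw [h1, ht']
  have h2 : G.obj.map e.inv.op (G.obj.map e.hom.op s) = G.obj.map (e.hom.op ≫ e.inv.op) s := by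
    rw [G.obj.map_comp]; rfl
  rw [h2, ← op_comp, e.inv_hom_id, op_id, G.obj.map_id]
  rfl

/-- a disjoint union of weakly contractible objects is weakly contractible -/
theorem isWC_of_disjoint_cover {U : X.ProEt} {ι : Type w} (W : ι → U.left.Opens)
    (hdisj : Pairwise (fun k l => Disjoint (W k : Set ↥U.left) (W l)))
    (hcov : (⋃ k, (W k : Set ↥U.left)) = Set.univ)
    (hW : ∀ k, ProEtS.IsWC (openObj U W k)) : ProEtS.IsWC U := by
  intro F G φ hφ s
  have hex : ∀ k, ∃ t : F.obj.obj (op (openObj U W k)),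
      φ.hom.app _ t = G.obj.map (openHom U W k).op s := fun k => hW k F G φ hφ _
  choose x hx using hex
  obtain ⟨t, ht, -⟩ := existsUnique_glue F hdisj hcov x
  refine ⟨t, ?_⟩
  obtain ⟨t', -, huniq⟩ := existsUnique_glue G hdisj hcov
    (fun k => G.obj.map (openHom U W k).op s)
  rw [huniq (φ.hom.app (op U) t) ?_, huniq s (fun k => rfl)]
  intro k
  have := NatTrans.naturality_apply φ.hom (openHom U W k).op t
  rw [← this, ht k]
  exact hx k

end Groth.Agent.Lib.Helper4.ProEtWC
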