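import Groth.Agent.Lib.Helper4.ProEtWC
import Groth.Agent.S0177
import Groth.Agent.S0736

/-!
# Covers of objects of the small pro-étale site by affine w-contractible objects
-/

set_option autoImplicit false
set_option linter.style.haveILetI false
universe u w
open CategoryTheory AlgebraicGeometry Opposite Limits
open Groth.Agent.Lib.Helper4.ProEtCov Groth.Agent.Lib.Helper4.ProEtAff Groth.Agent.Lib.Helper4.ProEtWC

namespace Groth.Agent.Lib.Helper4.ProEtWCov

theorem isWContractible_of_ringEquiv {A A' : Type u} [CommRing A] [CommRing A'] (e : A ≃+* A')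
    (hA : EtPBC.IsWContractible A) : EtPBC.IsWContractible A' := by
  intro B' _ _ hff hwe
  letI algAA' : Algebra A A' := e.toRingHom.toAlgebra
  letI algAB' : Algebra A B' := ((algebraMap A' B').comp e.toRingHom).toAlgebra
  haveI : IsScalarTower A A' B' := IsScalarTower.of_algebraMap_eq' rfl
  let eₐ : A ≃ₐ[A] A' := AlgEquiv.ofRingEquiv (f := e) (fun x => rfl)
  haveI : Algebra.Etale A A' := Algebra.Etale.of_equiv eₐ
  haveI : Algebra.WeaklyEtale A A' := inferInstance
  haveI : Algebra.WeaklyEtale A B' := Algebra.WeaklyEtale.trans A A' B'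
  haveI : Module.FaithfullyFlat A A' := Module.FaithfullyFlat.of_linearEquiv A A eₐ.toLinearEquiv.symm
  haveI : Module.FaithfullyFlat A B' := Module.FaithfullyFlat.trans A A' B'
  obtain ⟨r⟩ := hA B' inferInstance inferInstance
  refine ⟨{ toRingHom := e.toRingHom.comp r.toRingHom, commutes' := fun a' => ?_ }⟩
  have h1 : algebraMap A' B' a' = algebraMap A B' (e.symm a') := by
    show _ = algebraMap A' B' (e (e.symm a'))
    rw [e.apply_symm_apply]
  show e (r (algebraMap A' B' a')) = a'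
  rw [h1, r.commutes]
  exact e.apply_symm_apply a'

/-- every affine scheme has a weakly étale surjective quasi-compact map from the spectrum of a
w-contractible ring -/
theorem exists_wContractible_over_affine (Y : Scheme.{u}) [IsAffine Y] :
    ∃ (D : Type u) (_ : CommRing D) (b : Spec (CommRingCat.of D) ⟶ Y),
      WeaklyEtale b ∧ Surjective b ∧ QuasiCompact b ∧ EtPBC.IsWContractible D := by
  obtain ⟨D, _, _, hff, hie, hwc⟩ := Groth.Agent.S0177.result ↥(Γ(Y, ⊤))
  let φ : Γ(Y, ⊤) ⟶ CommRingCat.of D := CommRingCat.ofHom (algebraMap _ D)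
  have hwe : Algebra.WeaklyEtale ↥(Γ(Y, ⊤)) D := Groth.Agent.S0736.result _ _ hie
  haveI h1 : WeaklyEtale (Spec.map φ) :=
    Groth.Agent.Lib.Helper98.WESch.weaklyEtale_SpecMap_iff.2 hwe
  haveI h2 : Surjective (Spec.map φ) :=
    ⟨PrimeSpectrum.comap_surjective_of_faithfullyFlat (A := ↥(Γ(Y, ⊤))) (B := D)⟩
  exact ⟨D, inferInstance, Spec.map φ ≫ Y.isoSpec.inv, inferInstance, inferInstance,
    inferInstance, hwc⟩

variable {X : Scheme.{u}}

set_option backward.isDefEq.respectTransparency.types false in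
theorem exists_affine_wContractible_family (U : X.ProEt) :
    ∃ (ι : Type u) (V : ι → X.ProEt) (g : ∀ i, V i ⟶ U),
      Sieve.generate (Presieve.ofArrows V g) ∈ Scheme.ProEt.topology X U ∧
        ∀ i, IsAffine (V i).left ∧ EtPBC.IsWContractible ↥(Γ((V i).left, ⊤)) := by
  let 𝒜 : U.left.OpenCover := U.left.affineCover
  let 𝒜' : Scheme.Cover.{u} (Scheme.precoverage @WeaklyEtale) U.left :=
    𝒜.weaken (Scheme.precoverage_mono (fun _ _ f hf => by
      have : IsOpenImmersion f := hf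
      infer_instance))
  have hex := fun x : 𝒜.I₀ => exists_wContractible_over_affine (𝒜.X x)
  choose D hD b hbwe hbsurj hbqc hwc using hex
  haveI := hbsurj
  haveI := hbqc
  let 𝒲 : Scheme.Cover.{u} (Scheme.precoverage @WeaklyEtale) U.left :=
    𝒜'.bind (fun x => (b x).cover (hbwe x))
  haveI : QuasiCompactCover 𝒜'.toPreZeroHypercover :=
    inferInstanceAs (QuasiCompactCover 𝒜.toPreZeroHypercover)
  haveI h1 : ∀ x, QuasiCompactCover ((b x).cover (hbwe x)).toPreZeroHypercover :=
    fun x => QuasiCompactCover.homCover (b x) (hbwe x)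
  haveI : QuasiCompactCover 𝒲.toPreZeroHypercover :=
    @QuasiCompactCover.instBindScheme _ 𝒜'.toPreZeroHypercover _
      (fun x => ((b x).cover (hbwe x)).toPreZeroHypercover) h1
  refine ⟨𝒲.I₀, fun i => Scheme.ProEt.mk (𝒲.f i ≫ U.hom),
    fun i => MorphismProperty.Over.homMk (𝒲.f i) rfl trivial, ?_, ?_⟩
  · exact mem_of_cover 𝒲 (fun i => Sieve.le_generate _ _ _ (Presieve.ofArrows.mk i))
  · intro i
    refine ⟨inferInstanceAs (IsAffine (Spec (CommRingCat.of (D i.1)))), ?_⟩
    exact isWContractible_of_ringEquiv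
      (Scheme.ΓSpecIso (CommRingCat.of (D i.1))).commRingCatIsoToRingEquiv.symm (hwc i.1)

set_option backward.isDefEq.respectTransparency.types false in
theorem exists_cover_affine_wc (U : X.ProEt) [CompactSpace ↥U.left] :
    ∃ (V : X.ProEt) (g : V ⟶ U),
      Sieve.generate (Presieve.singleton g) ∈ Scheme.ProEt.topology X U ∧ IsAffine V.left ∧
        ProEtS.IsWC V := by
  let 𝒜 : U.left.OpenCover := U.left.affineCover.finiteSubcover
  let 𝒜' : Scheme.Cover (Scheme.precoverage @WeaklyEtale) U.left :=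
    𝒜.weaken (Scheme.precoverage_mono (fun _ _ f hf => by
      have : IsOpenImmersion f := hf
      infer_instance))
  haveI : QuasiCompactCover 𝒜'.toPreZeroHypercover :=
    inferInstanceAs (QuasiCompactCover 𝒜.toPreZeroHypercover)
  let 𝒮 : Scheme.Cover (Scheme.precoverage @WeaklyEtale) U.left := 𝒜'.sigma
  haveI : QuasiCompactCover 𝒮.toPreZeroHypercover := QuasiCompactCover.of_hom 𝒜'.toSigma
  haveI : Finite 𝒜.I₀ := inferInstance
  haveI : ∀ i, IsAffine (𝒜.X i) := inferInstance
  haveI : IsAffine (∐ 𝒜'.X) := inferInstanceAs (IsAffine (∐ 𝒜.X))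
  obtain ⟨D, _, b, hbwe, hbsurj, hbqc, hwc⟩ := exists_wContractible_over_affine (∐ 𝒜'.X)
  let 𝒲 : Scheme.Cover (Scheme.precoverage @WeaklyEtale) U.left :=
    𝒮.bind (fun _ => b.cover hbwe)
  haveI h1 : ∀ x : 𝒮.I₀, QuasiCompactCover (b.cover hbwe).toPreZeroHypercover :=
    fun _ => QuasiCompactCover.homCover b hbwe
  haveI : QuasiCompactCover 𝒲.toPreZeroHypercover :=
    @QuasiCompactCover.instBindScheme _ 𝒮.toPreZeroHypercover _
      (fun _ => (b.cover hbwe).toPreZeroHypercover) h1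
  let i₀ : 𝒲.I₀ := ⟨PUnit.unit, PUnit.unit⟩
  let V : X.ProEt := Scheme.ProEt.mk (𝒲.f i₀ ≫ U.hom)
  let g : V ⟶ U := MorphismProperty.Over.homMk (𝒲.f i₀) rfl trivial
  refine ⟨V, g, ?_, inferInstanceAs (IsAffine (Spec (CommRingCat.of D))), ?_⟩
  · refine mem_of_cover 𝒲 (fun i => ?_)
    obtain ⟨⟨⟩, ⟨⟩⟩ := i
    exact Sieve.le_generate _ _ _ (Presieve.singleton.mk)
  · haveI : IsAffine V.left := inferInstanceAs (IsAffine (Spec (CommRingCat.of D)))
    refine isWC_of_isWContractible V ?_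
    exact isWContractible_of_ringEquiv
      (Scheme.ΓSpecIso (CommRingCat.of D)).commRingCatIsoToRingEquiv.symm hwc

/-- isomorphisms in the pro-étale site from isomorphisms of underlying schemes -/
noncomputable def isoOfLeftIso {A B : X.ProEt} (e : A.left ≅ B.left) (h : e.hom ≫ B.hom = A.hom) :
    A ≅ B where
  hom := MorphismProperty.Over.homMk e.hom h trivial
  inv := MorphismProperty.Over.homMk e.inv (by rw [← h, e.inv_hom_id_assoc]) trivial
  hom_inv_id := by
    apply MorphismProperty.Over.Hom.ext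
    exact e.hom_inv_id
  inv_hom_id := by
    apply MorphismProperty.Over.Hom.ext
    exact e.inv_hom_id

set_option backward.isDefEq.respectTransparency.types false in
theorem exists_wContractible_cover (U : X.ProEt) :
    ∃ (𝒲 : Scheme.Cover.{u} (Scheme.precoverage @WeaklyEtale) U.left),
      QuasiCompactCover 𝒲.toPreZeroHypercover ∧ ∃ _ : ∀ i, IsAffine (𝒲.X i),
        ∀ i, EtPBC.IsWContractible ↥(Γ(𝒲.X i, ⊤)) := by
  let 𝒜 : U.left.OpenCover := U.left.affineCover
  let 𝒜' : Scheme.Cover.{u} (Scheme.precoverage @WeaklyEtale) U.left :=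
    𝒜.weaken (Scheme.precoverage_mono (fun _ _ f hf => by
      have : IsOpenImmersion f := hf
      infer_instance))
  have hex := fun x : 𝒜.I₀ => exists_wContractible_over_affine (𝒜.X x)
  choose D hD b hbwe hbsurj hbqc hwc using hex
  haveI := hbsurj
  haveI := hbqc
  let 𝒲 : Scheme.Cover.{u} (Scheme.precoverage @WeaklyEtale) U.left :=
    𝒜'.bind (fun x => (b x).cover (hbwe x))
  haveI : QuasiCompactCover 𝒜'.toPreZeroHypercover :=
    inferInstanceAs (QuasiCompactCover 𝒜.toPreZeroHypercover)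
  haveI h1 : ∀ x, QuasiCompactCover ((b x).cover (hbwe x)).toPreZeroHypercover :=
    fun x => QuasiCompactCover.homCover (b x) (hbwe x)
  haveI : QuasiCompactCover 𝒲.toPreZeroHypercover :=
    @QuasiCompactCover.instBindScheme _ 𝒜'.toPreZeroHypercover _
      (fun x => ((b x).cover (hbwe x)).toPreZeroHypercover) h1
  refine ⟨𝒲, inferInstance,
    fun i => inferInstanceAs (IsAffine (Spec (CommRingCat.of (D i.1)))), fun i => ?_⟩
  exact isWContractible_of_ringEquiv
    (Scheme.ΓSpecIso (CommRingCat.of (D i.1))).commRingCatIsoToRingEquiv.symm (hwc i.1)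

set_option backward.isDefEq.respectTransparency.types false in
theorem exists_cover_wc (U : X.ProEt) :
    ∃ (V : X.ProEt) (g : V ⟶ U),
      Sieve.generate (Presieve.singleton g) ∈ Scheme.ProEt.topology X U ∧ ProEtS.IsWC V := by
  obtain ⟨𝒲, hqc, haff, hwc⟩ := exists_wContractible_cover U
  let 𝒮 : Scheme.Cover (Scheme.precoverage @WeaklyEtale) U.left := 𝒲.sigma
  haveI : QuasiCompactCover 𝒮.toPreZeroHypercover := QuasiCompactCover.of_hom 𝒲.toSigma
  let i₀ : 𝒮.I₀ := PUnit.unit
  let V : X.ProEt := Scheme.ProEt.mk (𝒮.f i₀ ≫ U.hom)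
  let g : V ⟶ U := MorphismProperty.Over.homMk (𝒮.f i₀) rfl trivial
  refine ⟨V, g, ?_, ?_⟩
  · refine mem_of_cover 𝒮 (fun i => ?_)
    obtain ⟨⟩ := i
    exact Sieve.le_generate _ _ _ (Presieve.singleton.mk)
  · let W : 𝒲.I₀ → V.left.Opens := fun i => (Sigma.ι 𝒲.X i).opensRange
    have hcover : ∀ x : ↥(∐ 𝒲.X), ∃ k, x ∈ (Sigma.ι 𝒲.X k).opensRange := by
      intro x
      have := (sigmaOpenCover 𝒲.X).iUnion_range
      have hx : x ∈ ⋃ i, Set.range ((sigmaOpenCover 𝒲.X).f i) := by rw [this]; trivial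
      obtain ⟨k, hk⟩ := Set.mem_iUnion.1 hx
      exact ⟨k, hk⟩
    refine isWC_of_disjoint_cover W ?_ ?_ ?_
    · intro k l hkl
      rw [Set.disjoint_left]
      intro x hxk hxl
      have := disjoint_opensRange_sigmaι 𝒲.X k l hkl
      exact (disjoint_iff.1 this).le ⟨hxk, hxl⟩
    · rw [Set.eq_univ_iff_forall]
      intro x
      obtain ⟨k, hk⟩ := hcover x
      exact Set.mem_iUnion.2 ⟨k, hk⟩
    · intro k
      let Vk : X.ProEt := Scheme.ProEt.mk (𝒲.f k ≫ U.hom)
      haveI : IsAffine Vk.left := haff k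
      have hVk : ProEtS.IsWC Vk := isWC_of_isWContractible Vk (hwc k)
      refine isWC_of_iso (isoOfLeftIso (Scheme.Hom.isoOpensRange (Sigma.ι 𝒲.X k)) ?_) hVk
      show (Scheme.Hom.isoOpensRange (Sigma.ι 𝒲.X k)).hom ≫
        ((Sigma.ι 𝒲.X k).opensRange.ι ≫ (Sigma.desc 𝒲.f ≫ U.hom)) = 𝒲.f k ≫ U.hom
      rw [Scheme.Hom.isoOpensRange_hom_ι_assoc, Sigma.ι_desc_assoc]

end Groth.Agent.Lib.Helper4.ProEtWCov
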