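import Mathlib
import Groth.Prelude.Def_ProEtS
import Groth.Agent.Lib.Helper4.ProEtWCov
import Groth.Agent.Lib.Helper4.ProEtWC
import Groth.Agent.S0679

/-!
# Pushforward along a finite, finitely presented morphism is exact on abelian pro-étale sheaves

* `surjective_of_isWC_of_epi`: epi of abelian sheaves is surjective on sections over IsWC objects
* `isAffine_pullback`, `isWContractible_pullback`, `isAffine_bcP`, `isWContractible_bcP`
* `epi_pushP_map`, `main`
-/

set_option autoImplicit false
open CategoryTheory CategoryTheory.Limits AlgebraicGeometry Opposite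
universe u
open ProEtS
namespace Groth.Agent.Lib.Helper4.ProEtFin

theorem isAffine_pullback {Z X V : Scheme.{u}} (f : Z ⟶ X) [IsFinite f] (v : V ⟶ X) [IsAffine V] :
    IsAffine (pullback v f) := by
  have : IsAffineHom (pullback.fst v f) := inferInstance
  exact isAffine_of_isAffineHom (pullback.fst v f)

theorem isWContractible_pullback {Z X V : Scheme.{u}} (f : Z ⟶ X) [IsFinite f]
    [LocallyOfFinitePresentation f] (v : V ⟶ X) [IsAffine V]
    (hV : EtPBC.IsWContractible ↥(Γ(V, ⊤))) :
    EtPBC.IsWContractible ↥(Γ(pullback v f, ⊤)) := by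
  let p : pullback v f ⟶ V := pullback.fst v f
  have : IsAffine (pullback v f) := isAffine_pullback f v
  let _ : Algebra ↥(Γ(V, ⊤)) ↥(Γ(pullback v f, ⊤)) := p.appTop.hom.toAlgebra
  have hfin : p.appTop.hom.Finite := by
    have : IsFinite p := inferInstance
    exact Scheme.Hom.finite_appTop p
  have hfp : p.appTop.hom.FinitePresentation := by
    have : LocallyOfFinitePresentation p := inferInstance
    exact (HasRingHomProperty.iff_of_isAffine (P := @LocallyOfFinitePresentation)).1 this
  have : Module.Finite ↥(Γ(V, ⊤)) ↥(Γ(pullback v f, ⊤)) := hfin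
  have : Algebra.FinitePresentation ↥(Γ(V, ⊤)) ↥(Γ(pullback v f, ⊤)) := hfp
  exact Groth.Agent.S0679.result _ _ hV

theorem isAffine_bcP {Z X : Scheme.{u}} (f : Z ⟶ X) [IsFinite f] (V : X.ProEt) [IsAffine V.left] :
    IsAffine ((bcP f).obj V).left := 
  isAffine_pullback (V := V.left) f V.hom

theorem isWContractible_bcP {Z X : Scheme.{u}} (f : Z ⟶ X) [IsFinite f]
    [LocallyOfFinitePresentation f] (V : X.ProEt) [IsAffine V.left]
    (hV : EtPBC.IsWContractible ↥(Γ(V.left, ⊤))) :
    EtPBC.IsWContractible ↥(Γ(((bcP f).obj V).left, ⊤)) := 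
  isWContractible_pullback (V := V.left) f V.hom hV

theorem surjective_of_isWC_of_epi {Z : Scheme.{u}} {F G : AbP Z} (φ : F ⟶ G) [Epi φ]
    (W : Z.ProEt) (hW : IsWC W) : Function.Surjective (φ.hom.app (op W)) := by
  have h1 : Sheaf.IsLocallySurjective φ := (Sheaf.isLocallySurjective_iff_epi' (φ := φ)).2 inferInstance
  have h2 : Sheaf.IsLocallySurjective
      ((sheafCompose (Scheme.ProEt.topology Z) (forget AddCommGrpCat.{u+1})).map φ) := inferInstance
  have h3 : Epi ((sheafCompose (Scheme.ProEt.topology Z) (forget AddCommGrpCat.{u+1})).map φ) :=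
    (Sheaf.isLocallySurjective_iff_epi _).1 h2
  exact hW _ _ _ h3

theorem epi_pushP_map {Z X : Scheme.{u}} (f : Z ⟶ X) [IsFinite f] [LocallyOfFinitePresentation f]
    [PCont f] {F G : AbP Z} (φ : F ⟶ G) [Epi φ] : Epi ((pushP f).map φ) := by
  rw [← Sheaf.isLocallySurjective_iff_epi']
  constructor
  intro U s
  obtain ⟨ι, V, g, hcov, hV⟩ := Groth.Agent.Lib.Helper4.ProEtWCov.exists_affine_wContractible_family U
  refine (Scheme.ProEt.topology X).superset_covering ?_ hcov
  rintro W h ⟨Y, a, b, ⟨i⟩, rfl⟩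
  apply Sieve.downward_closed
  have := (hV i).1
  have := isAffine_bcP f (V i)
  have hwc : IsWC ((bcP f).obj (V i)) :=
    Groth.Agent.Lib.Helper4.ProEtWC.isWC_of_isWContractible _ (isWContractible_bcP f (V i) (hV i).2)
  obtain ⟨t, ht⟩ := surjective_of_isWC_of_epi φ _ hwc (G.obj.map ((bcP f).map (g i)).op s)
  exact ⟨t, ht⟩

theorem main {Z X : Scheme.{u}} (f : Z ⟶ X) [IsFinite f]
    [LocallyOfFinitePresentation f] [ProEtS.PCont f] :
    PreservesFiniteLimits (ProEtS.pushP f) ∧ PreservesFiniteColimits (ProEtS.pushP f) := by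
  have hl : PreservesFiniteLimits (ProEtS.pushP f) := by
    have : PreservesLimitsOfSize.{0, 0} (ProEtS.pushP f) := (pullPushAdjP f).rightAdjoint_preservesLimits
    exact PreservesLimitsOfSize.preservesFiniteLimits _
  refine ⟨hl, ?_⟩
  rw [Functor.preservesFiniteColimits_iff_forall_exact_map_and_epi]
  intro S hS
  refine ⟨((Functor.preservesFiniteLimits_iff_forall_exact_map_and_mono _).1 hl S hS).1, ?_⟩
  have := hS.epi_g
  exact epi_pushP_map f S.g

end Groth.Agent.Lib.Helper4.ProEtFin
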