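import Mathlib
import Groth.Prelude.Def_ProEtS
import Groth.Agent.Lib.Helper4.ProEtWCov
import Groth.Agent.Lib.Helper4.ProEtWC
import Groth.Agent.Lib.Helper4.ProEtFin
import Groth.Agent.S0679

/-!
# Pushforward along a closed immersion with retrocompact complement is exact on abelian
pro-étale sheaves

* `isWContractible_of_surjective_of_isCompact`: quotient of a w-contractible ring by an ideal whose
  open complement is quasi-compact is w-contractible
* `exact_of`: general criterion (`bcP f` sends affine w-contractibles to weakly contractibles)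
* `main`
-/

set_option autoImplicit false
open CategoryTheory CategoryTheory.Limits AlgebraicGeometry Opposite
universe u
open ProEtS
namespace Groth.Agent.Lib.Helper4.ProEtClosed

open Groth.Agent.Lib.Helper4

theorem isWContractible_of_surjective_of_isCompact {A B : Type u} [CommRing A] [CommRing B]
    (φ : A →+* B) (hφ : Function.Surjective φ)
    (hc : IsCompact (PrimeSpectrum.zeroLocus (RingHom.ker φ : Set A))ᶜ)
    (hA : EtPBC.IsWContractible A) : EtPBC.IsWContractible B := by
  obtain ⟨t, ht⟩ := PrimeSpectrum.isCompact_isOpen_iff.1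
    ⟨hc, (PrimeSpectrum.isClosed_zeroLocus _).isOpen_compl⟩
  have ht' : PrimeSpectrum.zeroLocus (t : Set A) = PrimeSpectrum.zeroLocus (RingHom.ker φ : Set A) :=
    compl_injective ht
  let I' : Ideal A := Ideal.span (t : Set A)
  have hfg : I'.FG := ⟨t, rfl⟩
  have hfp : Algebra.FinitePresentation A (A ⧸ I') := Algebra.FinitePresentation.quotient hfg
  have hB' : EtPBC.IsWContractible (A ⧸ I') := Groth.Agent.S0679.result A (A ⧸ I') hA
  obtain ⟨hwA, hedA, hshA⟩ := (Groth.Agent.S0677.result A).1 hA
  obtain ⟨hwB', hedB', hshB'⟩ := (Groth.Agent.S0677.result (A ⧸ I')).1 hB'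
  have hhA : ∀ (m : Ideal A) [m.IsMaximal], HenselianLocalRing (Localization.AtPrime m) :=
    fun m _ => (hshA m).1
  let _ : Algebra A B := φ.toAlgebra
  have hfin : Module.Finite A B := Module.Finite.of_surjective (Algebra.linearMap A B) hφ
  have hwB : ProEtW.IsWLocal (PrimeSpectrum B) := FinWContr.isWLocal_of_finite hwA hhA
  refine (Groth.Agent.S0677.result B).2 ⟨hwB, ?_, ?_⟩
  · have hembB := PrimeSpectrum.isClosedEmbedding_comap_of_surjective B φ hφ
    have hembB' := PrimeSpectrum.isClosedEmbedding_comap_of_surjective (A ⧸ I') (Ideal.Quotient.mk I')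
      Ideal.Quotient.mk_surjective
    have hrange : Set.range (PrimeSpectrum.comap φ) = Set.range (PrimeSpectrum.comap (Ideal.Quotient.mk I')) := by
      rw [_root_.range_comap_of_surjective _ _ hφ,
        _root_.range_comap_of_surjective _ _ Ideal.Quotient.mk_surjective, Ideal.mk_ker, ← ht',
        PrimeSpectrum.zeroLocus_span]
    let h : PrimeSpectrum B ≃ₜ PrimeSpectrum (A ⧸ I') :=
      hembB.isEmbedding.toHomeomorph.trans ((Homeomorph.setCongr hrange).trans
        hembB'.isEmbedding.toHomeomorph.symm)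
    let h0 : _root_.ConnectedComponents (PrimeSpectrum B) ≃ₜ
        _root_.ConnectedComponents (PrimeSpectrum (A ⧸ I')) :=
      h.isQuotientMap.isCoinducing.connectedComponentsHomeomorph (fun y => by
        have : h ⁻¹' {y} = {h.symm y} := by
          ext x; simp [Homeomorph.eq_symm_apply]
        rw [this]; exact isConnected_singleton)
    exact extremallyDisconnected_of_homeo h0.symm
  · intro n hn
    have : Algebra.IsIntegral A B := Algebra.IsIntegral.of_finite A B
    have hm : (n.comap (algebraMap A B)).IsMaximal :=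
      Ideal.isMaximal_comap_of_isIntegral_of_isMaximal (R := A) n
    exact FinHensel.isStrictlyHenselian_localization
      (n.comap (algebraMap A B)) (hshA _) n rfl

theorem isRetrocompact_preimage {X Y : Scheme.{u}} (f : X ⟶ Y) {t : Set Y} (ht : IsOpen t)
    (ht' : IsRetrocompact t) : IsRetrocompact (f ⁻¹' t) :=
  IsRetrocompact_iff_isSpectralMap_subtypeVal.mpr
    (quasiCompact_iff_isSpectralMap.mp
    (MorphismProperty.of_isPullback (P := @QuasiCompact)
    (isPullback_morphismRestrict f ⟨t, ht⟩)
    (quasiCompact_iff_isSpectralMap.mpr (IsRetrocompact_iff_isSpectralMap_subtypeVal.mp ht'))))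

theorem isCompact_compl_range_fst {Z X V : Scheme.{u}} (i : Z ⟶ X) (v : V ⟶ X) [CompactSpace V]
    (ho : IsOpen (Set.range i)ᶜ) (hr : IsRetrocompact (Set.range i)ᶜ) :
    IsCompact (Set.range (pullback.fst v i))ᶜ := by
  rw [Scheme.Pullback.range_fst]
  have := isRetrocompact_preimage v ho hr isCompact_univ isOpen_univ
  rwa [Set.inter_univ] at this

theorem isCompact_compl_zeroLocus_ker {P V : Scheme.{u}} [IsAffine V] [IsAffine P] (p : P ⟶ V)
    (hsurj : Function.Surjective p.appTop.hom) (hc : IsCompact (Set.range p)ᶜ) :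
    IsCompact (PrimeSpectrum.zeroLocus (RingHom.ker p.appTop.hom : Set Γ(V, ⊤)))ᶜ := by
  have hnat : p ≫ V.isoSpec.hom = P.isoSpec.hom ≫ Spec.map p.appTop :=
    (Scheme.isoSpec_hom_naturality p).symm
  have hr : Set.range (Spec.map p.appTop) = V.isoSpec.hom '' Set.range p := by
    have h1 : Set.range (P.isoSpec.hom ≫ Spec.map p.appTop) = Set.range (Spec.map p.appTop) := by
      rw [Scheme.Hom.comp_base, TopCat.coe_comp, Set.range_comp]
      have : Function.Surjective P.isoSpec.hom := P.isoSpec.hom.homeomorph.surjective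
      rw [this.range_eq, Set.image_univ]
    rw [← h1, ← hnat, Scheme.Hom.comp_base, TopCat.coe_comp, Set.range_comp]
  have hz : PrimeSpectrum.zeroLocus (RingHom.ker p.appTop.hom : Set Γ(V, ⊤)) =
      Set.range (Spec.map p.appTop) := by
    rw [← _root_.range_comap_of_surjective _ _ hsurj]
    rfl
  have hcompl : (Set.range (Spec.map p.appTop))ᶜ = V.isoSpec.hom '' (Set.range p)ᶜ := by
    rw [hr]
    exact (Set.image_compl_eq V.isoSpec.hom.homeomorph.bijective).symm
  have h3 : IsCompact ((Set.range (Spec.map p.appTop))ᶜ) := by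
    rw [hcompl]; exact hc.image V.isoSpec.hom.continuous
  rw [hz]; exact h3

theorem epi_pushP_map_of {Z X : Scheme.{u}} (f : Z ⟶ X) [PCont f]
    (H : ∀ (V : X.ProEt) [IsAffine V.left], EtPBC.IsWContractible ↥(Γ(V.left, ⊤)) →
      IsWC ((bcP f).obj V))
    {F G : AbP Z} (φ : F ⟶ G) [Epi φ] : Epi ((pushP f).map φ) := by
  rw [← Sheaf.isLocallySurjective_iff_epi']
  constructor
  intro U s
  obtain ⟨ι, V, g, hcov, hV⟩ := Groth.Agent.Lib.Helper4.ProEtWCov.exists_affine_wContractible_family U
  refine (Scheme.ProEt.topology X).superset_covering ?_ hcov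
  rintro W h ⟨Y, a, b, ⟨i⟩, rfl⟩
  apply Sieve.downward_closed
  have := (hV i).1
  have hwc : IsWC ((bcP f).obj (V i)) := H (V i) (hV i).2
  obtain ⟨t, ht⟩ := ProEtFin.surjective_of_isWC_of_epi φ _ hwc (G.obj.map ((bcP f).map (g i)).op s)
  exact ⟨t, ht⟩

theorem exact_of {Z X : Scheme.{u}} (f : Z ⟶ X) [ProEtS.PCont f]
    (H : ∀ (V : X.ProEt) [IsAffine V.left], EtPBC.IsWContractible ↥(Γ(V.left, ⊤)) →
      IsWC ((bcP f).obj V)) :
    PreservesFiniteLimits (ProEtS.pushP f) ∧ PreservesFiniteColimits (ProEtS.pushP f) := by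
  have hl : PreservesFiniteLimits (ProEtS.pushP f) := by
    have : PreservesLimitsOfSize.{0, 0} (ProEtS.pushP f) := (pullPushAdjP f).rightAdjoint_preservesLimits
    exact PreservesLimitsOfSize.preservesFiniteLimits _
  refine ⟨hl, ?_⟩
  rw [Functor.preservesFiniteColimits_iff_forall_exact_map_and_epi]
  intro S hS
  refine ⟨((Functor.preservesFiniteLimits_iff_forall_exact_map_and_mono _).1 hl S hS).1, ?_⟩
  have := hS.epi_g
  exact epi_pushP_map_of f H S.g

theorem isWC_bcP_of_isClosedImmersion {Z X : Scheme.{u}} (i : Z ⟶ X)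
    [IsClosedImmersion i] (hr : IsRetrocompact (Set.range i.base)ᶜ)
    (V : X.ProEt) [IsAffine V.left] (hV : EtPBC.IsWContractible ↥(Γ(V.left, ⊤))) :
    IsWC ((bcP i).obj V) := by
  let p : pullback V.hom i ⟶ V.left := pullback.fst V.hom i
  have hp : IsClosedImmersion p := inferInstance
  obtain ⟨haff, hsurj⟩ := IsClosedImmersion.isAffine_surjective_of_isAffine p
  have ho : IsOpen (Set.range i)ᶜ := i.isClosedEmbedding.isClosed_range.isOpen_compl
  have hcs : CompactSpace ↥V.left := inferInstance
  have hc1 : IsCompact (Set.range p)ᶜ :=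
    @isCompact_compl_range_fst Z X V.left i V.hom hcs ho hr
  have hc2 := isCompact_compl_zeroLocus_ker p hsurj hc1
  have hwc : EtPBC.IsWContractible ↥(Γ(pullback V.hom i, ⊤)) :=
    isWContractible_of_surjective_of_isCompact p.appTop.hom hsurj hc2 hV
  have : IsAffine ((bcP i).obj V).left := haff
  exact Groth.Agent.Lib.Helper4.ProEtWC.isWC_of_isWContractible _ hwc

theorem main {Z X : Scheme.{u}} (i : Z ⟶ X)
    [IsClosedImmersion i] (hr : IsRetrocompact (Set.range i.base)ᶜ) [ProEtS.PCont i] :
    PreservesFiniteLimits (ProEtS.pushP i) ∧ PreservesFiniteColimits (ProEtS.pushP i) :=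
  exact_of i (fun V _ hV => isWC_bcP_of_isClosedImmersion i hr V hV)

end Groth.Agent.Lib.Helper4.ProEtClosed
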