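import Mathlib
import Groth.Prelude.Def_ProEtS

/-!
# Covering sieves of the small pro-étale site

* `mem_topology_iff_raw`: a sieve on `U : X.ProEt` is covering iff it "contains" a family of the
  pro-étale precoverage of `U.left`.
* `exists_cover_of_mem`, `mem_of_cover`, `generate_singleton_mem`, `arrows_of_factor`.
-/

set_option autoImplicit false
universe u w
open CategoryTheory AlgebraicGeometry Opposite Limits

namespace Groth.Agent.Lib.Helper4.ProEtCov

variable {X : Scheme.{u}} (U : X.ProEt) (R : Sieve U)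

set_option backward.isDefEq.respectTransparency.types false in
theorem mem_topology_iff_raw : R ∈ Scheme.ProEt.topology X U ↔
    ∃ T ∈ Scheme.proetalePrecoverage.coverings U.left,
      ∀ ⦃Z : Scheme.{u}⦄ (f : Z ⟶ U.left), T f →
        ∃ (V : X.ProEt) (g : V ⟶ U) (h : Z ⟶ V.left), R.arrows g ∧ h ≫ g.left = f := by
  have h := MorphismProperty.toGrothendieck_comap_forget_eq_restrictedTopology (S := X)
    Scheme.proetalePrecoverage Scheme.proetalePrecoverage_le_precoverage_weaklyEtale
  have h' : Scheme.ProEt.topology X = (Scheme.ProEt.forget X).restrictedTopology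
      (Scheme.proetaleTopology.over X) := h
  rw [h', Functor.mem_restrictedTopology_iff,
    GrothendieckTopology.mem_over_iff, Precoverage.mem_toGrothendieck_iff_of_isStableUnderComposition]
  refine exists_congr fun T => and_congr_right fun hT => ?_
  constructor
  · intro hle Z f hf
    have := hle _ _ hf
    rw [Sieve.overEquiv_iff] at this
    obtain ⟨V, g, h, hg, hh⟩ := this
    refine ⟨V, g, h.left, hg, ?_⟩
    have := congrArg CommaMorphism.left hh
    exact this.symm
  · intro H Z f hf
    obtain ⟨V, g, h, hg, hh⟩ := H f hf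
    rw [Sieve.overEquiv_iff]
    refine ⟨V, g, Over.homMk h (by
      have := MorphismProperty.Over.w g
      subst hh
      exact ((Category.assoc h g.left U.hom).trans (congrArg (fun t => h ≫ t) this)).symm), hg, ?_⟩
    ext
    exact hh.symm

variable {U R}

/-- a weakly étale map to `U` factoring through a member of the sieve belongs to the sieve -/
theorem arrows_of_factor {Z : Scheme.{u}} (j : Z ⟶ U.left) [WeaklyEtale j] {V : X.ProEt}
    (g : V ⟶ U) (hg : R.arrows g) (h : Z ⟶ V.left) (hh : h ≫ g.left = j) :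
    R.arrows (MorphismProperty.Over.homMk j rfl trivial :
      Scheme.ProEt.mk (j ≫ U.hom) ⟶ U) := by
  have hw : h ≫ V.hom = j ≫ U.hom := by
    subst hh
    have := MorphismProperty.Over.w g
    exact ((Category.assoc h g.left U.hom).trans (congrArg (fun t => h ≫ t) this)).symm
  let a : Scheme.ProEt.mk (j ≫ U.hom) ⟶ V := MorphismProperty.Over.homMk h hw trivial
  have : (MorphismProperty.Over.homMk j rfl trivial :
      Scheme.ProEt.mk (j ≫ U.hom) ⟶ U) = a ≫ g := by
    ext
    exact hh.symm
  rw [this]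
  exact R.downward_closed hg a

theorem exists_cover_of_mem (hR : R ∈ Scheme.ProEt.topology X U) :
    ∃ (𝒰 : Scheme.Cover.{u + 1} (Scheme.precoverage @WeaklyEtale) U.left),
      QuasiCompactCover 𝒰.toPreZeroHypercover ∧
      ∀ i, R.arrows (MorphismProperty.Over.homMk (𝒰.f i) rfl trivial :
        Scheme.ProEt.mk (𝒰.f i ≫ U.hom) ⟶ U) := by
  obtain ⟨T, hT, H⟩ := (mem_topology_iff_raw U R).1 hR
  obtain ⟨𝒰, hqc, rfl⟩ := Scheme.mem_propQCPrecoverage_iff_exists_quasiCompactCover.1 hT
  refine ⟨𝒰, hqc, fun i => ?_⟩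
  obtain ⟨V, g, h, hg, hh⟩ := H (𝒰.f i) ⟨i⟩
  exact arrows_of_factor (𝒰.f i) g hg h hh

instance weaklyEtale_left {V : X.ProEt} (g : V ⟶ U) : WeaklyEtale g.left := by
  have : WeaklyEtale (g.left ≫ U.hom) := by
    rw [MorphismProperty.Over.w g]; infer_instance
  exact WeaklyEtale.of_comp g.left U.hom

/-- a family of weakly étale maps forming a quasi-compact cover generates a covering sieve -/
theorem mem_of_cover (𝒲 : Scheme.Cover.{w} (Scheme.precoverage @WeaklyEtale) U.left)
    [QuasiCompactCover 𝒲.toPreZeroHypercover]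
    (H : ∀ i, R.arrows (MorphismProperty.Over.homMk (𝒲.f i) rfl trivial :
        Scheme.ProEt.mk (𝒲.f i ≫ U.hom) ⟶ U)) : R ∈ Scheme.ProEt.topology X U := by
  rw [mem_topology_iff_raw]
  refine ⟨𝒲.presieve₀, ?_, ?_⟩
  · refine ⟨?_, 𝒲.mem₀⟩
    rw [Scheme.presieve₀_mem_qcPrecoverage_iff]
    infer_instance
  · rintro Z f ⟨i⟩
    exact ⟨_, _, 𝟙 _, H i, Category.id_comp _⟩

theorem generate_singleton_mem {V : X.ProEt} (g : V ⟶ U) [Surjective g.left]
    [QuasiCompact g.left] :
    Sieve.generate (Presieve.singleton g) ∈ Scheme.ProEt.topology X U := by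
  rw [mem_topology_iff_raw]
  refine ⟨Presieve.singleton g.left,
    Scheme.Hom.singleton_mem_propQCPrecoverage (P := @WeaklyEtale) (inferInstance : WeaklyEtale g.left), ?_⟩
  rintro Z f ⟨⟩
  exact ⟨V, g, 𝟙 _, Sieve.le_generate _ _ _ (Presieve.singleton.mk), Category.id_comp _⟩

end Groth.Agent.Lib.Helper4.ProEtCov
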