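import Mathlib
import Groth.Prelude.Def_ProEtS
import Groth.Agent.Lib.Helper4.ProEtCov

/-!
# Continuity of `ProEtS.bcP f` and `ProEtS.eps X`

* `pCont f : ProEtS.PCont f`, `epsCont X : ProEtS.EpsCont X`
* `preservesFiniteLimits_bcP`, `preservesFiniteLimits_eps`, `coverPreserving_bcP`, `coverPreserving_eps`
* `bcP_map_left_fst`, `bcP_map_left_snd`
-/

set_option autoImplicit false
open CategoryTheory CategoryTheory.Limits AlgebraicGeometry Opposite
universe u
open ProEtS
namespace Groth.Agent.Lib.Helper4.ProEtCont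

open Groth.Agent.Lib.Helper4.ProEtCov

set_option backward.isDefEq.respectTransparency.types false in
noncomputable instance preservesFiniteLimits_bcP {X Y : Scheme.{u}} (f : X ⟶ Y) :
    PreservesFiniteLimits (bcP f) := by
  have h : PreservesFiniteLimits (bcP f ⋙ Scheme.ProEt.forget X) := by
    let e : bcP f ⋙ Scheme.ProEt.forget X ≅ Scheme.ProEt.forget Y ⋙ Over.pullback f :=
      MorphismProperty.Over.pullbackCompForgetIso (P := @WeaklyEtale) (Q := ⊤) f
    exact preservesFiniteLimits_of_natIso e.symm
  exact preservesFiniteLimits_of_reflects_of_preserves (bcP f) (Scheme.ProEt.forget X)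

noncomputable instance representablyFlat_bcP {X Y : Scheme.{u}} (f : X ⟶ Y) :
    RepresentablyFlat (bcP f) :=
  flat_of_preservesFiniteLimits _

set_option backward.isDefEq.respectTransparency.types false in
theorem bcP_map_left_fst {X Y : Scheme.{u}} (f : X ⟶ Y) {U V : Y.ProEt} (g : V ⟶ U) :
    ((bcP f).map g).left ≫ pullback.fst U.hom f = pullback.fst V.hom f ≫ g.left := by
  dsimp [bcP]
  exact pullback.lift_fst _ _ _

set_option backward.isDefEq.respectTransparency.types false in
theorem bcP_map_left_snd {X Y : Scheme.{u}} (f : X ⟶ Y) {U V : Y.ProEt} (g : V ⟶ U) :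
    ((bcP f).map g).left ≫ pullback.snd U.hom f = pullback.snd V.hom f := by
  dsimp [bcP]
  exact pullback.lift_snd _ _ _

set_option backward.isDefEq.respectTransparency.types false in
theorem coverPreserving_bcP {X Y : Scheme.{u}} (f : X ⟶ Y) :
    CoverPreserving (Scheme.ProEt.topology Y) (Scheme.ProEt.topology X) (bcP f) := by
  constructor
  intro U S hS
  obtain ⟨𝒰, hqc, H⟩ := exists_cover_of_mem hS
  let p : ((bcP f).obj U).left ⟶ U.left := pullback.fst U.hom f
  have : QuasiCompactCover (𝒰.pullback₁ p).toPreZeroHypercover :=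
    inferInstanceAs (QuasiCompactCover (𝒰.toPreZeroHypercover.pullback₁ p))
  refine mem_of_cover (𝒰.pullback₁ p) ?_
  intro i
  let gi : Scheme.ProEt.mk (𝒰.f i ≫ U.hom) ⟶ U := MorphismProperty.Over.homMk (𝒰.f i) rfl trivial
  have hg : (S.functorPushforward (bcP f)).arrows ((bcP f).map gi) :=
    Sieve.image_mem_functorPushforward _ _ (H i)
  obtain ⟨l, hl1, hl2⟩ : ∃ l : pullback p (𝒰.f i) ⟶ pullback (𝒰.f i ≫ U.hom) f,
      l ≫ pullback.fst (𝒰.f i ≫ U.hom) f = pullback.snd p (𝒰.f i) ∧
      l ≫ pullback.snd (𝒰.f i ≫ U.hom) f = pullback.fst p (𝒰.f i) ≫ pullback.snd U.hom f := by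
    have hc : pullback.snd p (𝒰.f i) ≫ 𝒰.f i ≫ U.hom =
        (pullback.fst p (𝒰.f i) ≫ pullback.snd U.hom f) ≫ f := by
      rw [← Category.assoc, ← pullback.condition, Category.assoc, Category.assoc]
      congr 1
      exact pullback.condition
    exact ⟨pullback.lift _ _ hc, pullback.lift_fst _ _ _, pullback.lift_snd _ _ _⟩
  refine arrows_of_factor _ ((bcP f).map gi) hg l ?_
  show _ = pullback.fst p (𝒰.f i)
  apply pullback.hom_ext
  · calc (l ≫ ((bcP f).map gi).left) ≫ pullback.fst U.hom f
        = l ≫ (((bcP f).map gi).left ≫ pullback.fst U.hom f) := Category.assoc _ _ _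
      _ = l ≫ (pullback.fst (𝒰.f i ≫ U.hom) f ≫ 𝒰.f i) := congrArg (l ≫ ·) (bcP_map_left_fst f gi)
      _ = (l ≫ pullback.fst (𝒰.f i ≫ U.hom) f) ≫ 𝒰.f i := (Category.assoc _ _ _).symm
      _ = pullback.snd p (𝒰.f i) ≫ 𝒰.f i := congrArg (· ≫ 𝒰.f i) hl1
      _ = pullback.fst p (𝒰.f i) ≫ p := pullback.condition.symm
  · calc (l ≫ ((bcP f).map gi).left) ≫ pullback.snd U.hom f
        = l ≫ (((bcP f).map gi).left ≫ pullback.snd U.hom f) := Category.assoc _ _ _
      _ = l ≫ pullback.snd (𝒰.f i ≫ U.hom) f := congrArg (l ≫ ·) (bcP_map_left_snd f gi)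
      _ = pullback.fst p (𝒰.f i) ≫ pullback.snd U.hom f := hl2

theorem pCont {X Y : Scheme.{u}} (f : X ⟶ Y) : ProEtS.PCont f :=
  Functor.isContinuous_of_coverPreserving (compatiblePreservingOfFlat _ _) (coverPreserving_bcP f)

set_option backward.isDefEq.respectTransparency.types false in
noncomputable instance preservesFiniteLimits_eps (X : Scheme.{u}) :
    PreservesFiniteLimits (eps X) := by
  have h : PreservesFiniteLimits (eps X ⋙ Scheme.ProEt.forget X) := by
    show PreservesFiniteLimits (Scheme.Etale.forget X)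
    infer_instance
  exact preservesFiniteLimits_of_reflects_of_preserves (eps X) (Scheme.ProEt.forget X)

noncomputable instance representablyFlat_eps (X : Scheme.{u}) :
    RepresentablyFlat (eps X) :=
  flat_of_preservesFiniteLimits _

set_option backward.isDefEq.respectTransparency.types false in
theorem coverPreserving_eps (X : Scheme.{u}) :
    CoverPreserving X.smallEtaleTopology (Scheme.ProEt.topology X) (eps X) := by
  constructor
  intro U S hS
  have eX : X.smallEtaleTopology = (X.smallPretopology (P := EtCoh.etaleMP) (Q := EtCoh.etaleMP)).toGrothendieck :=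
    Scheme.smallGrothendieckTopology_eq_toGrothendieck_smallPretopology X le_rfl
  rw [eX] at hS
  replace hS := (Scheme.mem_toGrothendieck_smallPretopology U S).1 hS
  choose V g v hg hV hv using hS
  have hwe : ∀ x, WeaklyEtale (g x).left := fun x => by
    have : Etale (g x).left := hV x
    infer_instance
  let 𝒲 : Scheme.Cover.{u} (Scheme.precoverage @WeaklyEtale) ((eps X).obj U).left :=
    { I₀ := U.left
      X := fun x => (V x).left
      f := fun x => (g x).left
      mem₀ := by
        rw [Scheme.presieve₀_mem_precoverage_iff]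
        exact ⟨fun x => ⟨x, v x, hv x⟩, fun x => hwe x⟩ }
  have : QuasiCompactCover 𝒲.toPreZeroHypercover :=
    QuasiCompactCover.of_isOpenMap fun x => by
      have : Etale (g x).left := hV x
      exact (g x).left.isOpenMap
  refine mem_of_cover 𝒲 ?_
  intro x
  have : WeaklyEtale (𝒲.f x) := hwe x
  exact arrows_of_factor _ ((eps X).map (g x)) (Sieve.image_mem_functorPushforward _ _ (hg x)) (𝟙 _)
    (Category.id_comp _)

theorem epsCont (X : Scheme.{u}) : ProEtS.EpsCont X :=
  Functor.isContinuous_of_coverPreserving (compatiblePreservingOfFlat _ _) (coverPreserving_eps X)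

end Groth.Agent.Lib.Helper4.ProEtCont
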