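import Mathlib
import Groth.Prelude.Def_ProEtS
import Groth.Agent.Lib.Helper4.ProEtWC

/-!
# Finite disjoint open covers are coproducts in `X.ProEt`; product-preserving presheaves

* `existsUnique_desc`, `isColimitCofan`: `U` is the coproduct of a disjoint open cover
* `bijective_restrict`: a finite-product-preserving presheaf of types sends finite disjoint open covers
  to products
* `main`: `F(W) → F^#(W)` bijective for `W` affine weakly contractible (S0725)
-/

set_option autoImplicit false
open CategoryTheory CategoryTheory.Limits AlgebraicGeometry Opposite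
universe u w
open ProEtS
namespace Groth.Agent.Lib.Helper4.ProEtProd

open Groth.Agent.Lib.Helper4.ProEtWC Groth.Agent.Lib.Helper4.ProEtCov Groth.Agent.Lib.Helper4.ProEtAff

variable {X : Scheme.{u}} {U : X.ProEt} {ι : Type w} {W : ι → U.left.Opens}

/-- morphisms out of a disjoint open cover glue -/
theorem existsUnique_desc (hdisj : Pairwise (fun k l => Disjoint (W k : Set ↥U.left) (W l)))
    (hcov : (⋃ k, (W k : Set ↥U.left)) = Set.univ) (T : X.ProEt)
    (a : ∀ k, openObj U W k ⟶ T) :
    ∃! m : U ⟶ T, ∀ k, openHom U W k ≫ m = a k := by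
  have hcover : TopologicalSpace.IsOpenCover W := by
    rw [TopologicalSpace.IsOpenCover]
    apply TopologicalSpace.Opens.ext
    simpa using hcov
  let 𝒲 : U.left.OpenCover := U.left.openCoverOfIsOpenCover W hcover
  have compat : ∀ k l, pullback.fst (𝒲.f k) (𝒲.f l) ≫ (a k).left =
      pullback.snd (𝒲.f k) (𝒲.f l) ≫ (a l).left := by
    intro k l
    by_cases h : k = l
    · subst h
      have : pullback.fst (𝒲.f k) (𝒲.f k) = pullback.snd (𝒲.f k) (𝒲.f k) := by
        have h3 : pullback.fst (𝒲.f k) (𝒲.f k) ≫ (W k).ι = pullback.snd (𝒲.f k) (𝒲.f k) ≫ (W k).ι :=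
          pullback.condition
        exact (cancel_mono (W k).ι).1 h3
      rw [this]
    · have : IsEmpty ↥(pullback (𝒲.f k) (𝒲.f l)) := by
        constructor
        intro z
        have h3 : pullback.fst (𝒲.f k) (𝒲.f l) ≫ (W k).ι = pullback.snd (𝒲.f k) (𝒲.f l) ≫ (W l).ι :=
          pullback.condition
        have h4 : (pullback.fst (𝒲.f k) (𝒲.f l) ≫ (W k).ι) z ∈ (W k : Set ↥U.left) :=
          ((pullback.fst (𝒲.f k) (𝒲.f l)) z).2
        have h5 : (pullback.fst (𝒲.f k) (𝒲.f l) ≫ (W k).ι) z ∈ (W l : Set ↥U.left) := by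
          rw [h3]
          exact ((pullback.snd (𝒲.f k) (𝒲.f l)) z).2
        exact (Set.disjoint_left.1 (hdisj h)) h4 h5
      exact (isInitialOfIsEmpty (X := pullback (𝒲.f k) (𝒲.f l))).hom_ext _ _
  let m₀ : U.left ⟶ T.left := 𝒲.glueMorphisms (fun k => (a k).left) compat
  have hm₀ : ∀ k, (W k).ι ≫ m₀ = (a k).left := fun k => 𝒲.ι_glueMorphisms _ compat k
  have hw : m₀ ≫ T.hom = U.hom := by
    apply Scheme.Cover.hom_ext 𝒲
    intro k
    have e1 : (W k).ι ≫ m₀ ≫ T.hom = ((W k).ι ≫ m₀) ≫ T.hom := (Category.assoc _ _ _).symm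
    have e2 : ((W k).ι ≫ m₀) ≫ T.hom = (a k).left ≫ T.hom := congrArg (· ≫ T.hom) (hm₀ k)
    have e3 : (a k).left ≫ T.hom = (W k).ι ≫ U.hom := MorphismProperty.Over.w (a k)
    exact e1.trans (e2.trans e3)
  refine ⟨MorphismProperty.Over.homMk m₀ hw trivial, ?_, ?_⟩
  · intro k
    apply MorphismProperty.Over.Hom.ext
    exact hm₀ k
  · intro m' hm'
    apply MorphismProperty.Over.Hom.ext
    apply Scheme.Cover.hom_ext 𝒲
    intro k
    have e1 : (W k).ι ≫ m'.left = (a k).left := congrArg (fun t => t.left) (hm' k)
    exact e1.trans (hm₀ k).symm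

/-- `U` is the coproduct of the members of a disjoint open cover -/
noncomputable def isColimitCofan (hdisj : Pairwise (fun k l => Disjoint (W k : Set ↥U.left) (W l)))
    (hcov : (⋃ k, (W k : Set ↥U.left)) = Set.univ) :
    IsColimit (Cofan.mk U (openHom U W)) :=
  Cofan.IsColimit.mk _ (fun t => (existsUnique_desc hdisj hcov t.pt t.inj).exists.choose)
    (fun t k => (existsUnique_desc hdisj hcov t.pt t.inj).exists.choose_spec k)
    (fun t _ hm => (existsUnique_desc hdisj hcov t.pt t.inj).unique hm
      (existsUnique_desc hdisj hcov t.pt t.inj).exists.choose_spec)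

/-- a finite-product-preserving presheaf turns finite disjoint open covers into products -/
theorem bijective_restrict {n : ℕ} {W : Fin n → U.left.Opens} (F : X.ProEtᵒᵖ ⥤ Type (u + 1))
    [PreservesFiniteProducts F]
    (hdisj : Pairwise (fun k l => Disjoint (W k : Set ↥U.left) (W l)))
    (hcov : (⋃ k, (W k : Set ↥U.left)) = Set.univ) :
    Function.Bijective (fun (s : F.obj (op U)) (k : Fin n) => F.map (openHom U W k).op s) := by
  have hl : IsLimit (Fan.mk (F.obj (op U)) fun k => F.map (openHom U W k).op) :=
    isLimitFanMkObjOfIsLimit F _ (fun k => (openHom U W k).op)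
      (Cofan.IsColimit.op (isColimitCofan hdisj hcov))
  constructor
  · intro s t hst
    have : (↾(fun _ : PUnit.{u + 2} => s) : PUnit.{u + 2} ⟶ F.obj (op U)) = ↾(fun _ => t) := by
      refine hl.hom_ext ?_
      rintro ⟨k⟩
      ext z
      exact congrFun hst k
    exact types_congr_hom this PUnit.unit
  · intro x
    let c : Fan (fun k => F.obj (op (openObj U W k))) :=
      Fan.mk PUnit.{u + 2} (fun k => ↾(fun _ => x k))
    refine ⟨hl.lift c PUnit.unit, ?_⟩
    funext k
    exact types_congr_hom (hl.fac c ⟨k⟩) PUnit.unit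

theorem main (F : X.ProEtᵒᵖ ⥤ Type (u + 1))
    [PreservesFiniteProducts F] (W : X.ProEt) [IsAffine W.left] (hW : ProEtS.IsWC W) :
    Function.Bijective ((toSheafify (Scheme.ProEt.topology X) F).app (op W)) := by
  have hA := isWContractible_of_isWC W hW
  set η := toSheafify (Scheme.ProEt.topology X) F with hη
  have hinj : Presheaf.IsLocallyInjective (Scheme.ProEt.topology X) η := inferInstance
  have hsurj : Presheaf.IsLocallySurjective (Scheme.ProEt.topology X) η := inferInstance
  constructor
  · intro s t hst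
    have hR := Presheaf.equalizerSieve_mem (Scheme.ProEt.topology X) η (X := op W) s t hst
    obtain ⟨n, V, hclopen, hdisj, hcov, hV⟩ := exists_clopen_of_isWContractible W hA _ hR
    apply (bijective_restrict F hdisj hcov).1
    funext k
    exact hV k
  · intro σ
    have hR := Presheaf.imageSieve_mem (Scheme.ProEt.topology X) η (U := op W) σ
    obtain ⟨n, V, hclopen, hdisj, hcov, hV⟩ := exists_clopen_of_isWContractible W hA _ hR
    choose t ht using hV
    obtain ⟨s, hs⟩ := (bijective_restrict F hdisj hcov).2 t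
    refine ⟨s, ?_⟩
    let G : Sheaf (Scheme.ProEt.topology X) (Type (u + 1)) :=
      (presheafToSheaf (Scheme.ProEt.topology X) (Type (u + 1))).obj F
    obtain ⟨z, -, hz⟩ := existsUnique_glue G hdisj hcov
      (fun k => G.obj.map (openHom W V k).op σ)
    have h1 := hz (η.app (op W) s) (fun k => by
      have e1 : G.obj.map (openHom W V k).op (η.app (op W) s) =
          η.app (op (openObj W V k)) (F.map (openHom W V k).op s) :=
        (NatTrans.naturality_apply η (openHom W V k).op s).symm
      have e2 : η.app (op (openObj W V k)) (F.map (openHom W V k).op s) =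
          η.app (op (openObj W V k)) (t k) := congrArg _ (congrFun hs k)
      exact e1.trans (e2.trans (ht k)))
    have h2 := hz σ (fun k => rfl)
    exact h1.trans h2.symm

end Groth.Agent.Lib.Helper4.ProEtProd
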