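import Mathlib
import Groth.Prelude.Def_ProEtS
import Groth.Agent.Lib.Helper4.ProEtProd
import Groth.Agent.Lib.Helper4.ProEtCont

/-!
# Left Kan extension along base change on weakly contractible objects (S7285)

* `lmk`, `lmk_surjective`, `map_lmk`, `lmk_comp`, `lmk_common`, `lmk_eq_iff`: elements of a pointwise
  left Kan extension of a presheaf of types along a functor with filtered comma categories
* `sigmaObj`, `sigmaIncl`, `sigmaDesc`, `bijective_sigma`: finite coproducts in `Y.ProEt`
* `bijective_restrict_lan`: the left Kan extension presheaf of a sheaf along `bcP f` turns finite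
  disjoint open covers into products
* `main`
-/

set_option autoImplicit false
open CategoryTheory CategoryTheory.Limits AlgebraicGeometry Opposite
universe u
open ProEtS
namespace Groth.Agent.Lib.Helper4.ProEtLan

open Groth.Agent.Lib.Helper4.ProEtWC Groth.Agent.Lib.Helper4.ProEtCov Groth.Agent.Lib.Helper4.ProEtAff
open Groth.Agent.Lib.Helper4.ProEtProd

section Lan

variable {C D : Type (u + 1)} [Category.{u} C] [Category.{u} D] (L : C ⥤ D)
  (F : Cᵒᵖ ⥤ Type (u + 1))

/-- the canonical cocone computing the left Kan extension at `T` -/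
noncomputable abbrev lanCocone (T : D) :
    Cocone (CostructuredArrow.proj L.op (op T) ⋙ F) :=
  (Functor.LeftExtension.mk _ (L.op.lanUnit.app F)).coconeAt (op T)

noncomputable def lanIsColimit (T : D) : IsColimit (lanCocone L F T) :=
  Functor.isPointwiseLeftKanExtensionOfIsLeftKanExtension (L.op.lan.obj F) (L.op.lanUnit.app F) (op T)

/-- elements of the left Kan extension -/
noncomputable def lmk {T : D} (V : C) (a : T ⟶ L.obj V) (t : F.obj (op V)) :
    (L.op.lan.obj F).obj (op T) :=
  (lanCocone L F T).ι.app (CostructuredArrow.mk (Y := op V) a.op) t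

theorem lmk_surjective {T : D} (x : (L.op.lan.obj F).obj (op T)) :
    ∃ (V : C) (a : T ⟶ L.obj V) (t : F.obj (op V)), lmk L F V a t = x := by
  obtain ⟨j, y, hy⟩ := Types.jointly_surjective_of_isColimit (lanIsColimit L F T) x
  obtain ⟨Vop, a', rfl⟩ := j.mk_surjective
  exact ⟨Vop.unop, a'.unop, y, hy⟩

theorem map_lmk {T T' : D} (m : T' ⟶ T) (V : C) (a : T ⟶ L.obj V) (t : F.obj (op V)) :
    (L.op.lan.obj F).map m.op (lmk L F V a t) = lmk L F V (m ≫ a) t := by
  show (L.op.lan.obj F).map m.op ((L.op.lan.obj F).map a.op ((L.op.lanUnit.app F).app (op V) t)) =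
    (L.op.lan.obj F).map (m ≫ a).op ((L.op.lanUnit.app F).app (op V) t)
  rw [← Functor.map_comp_apply]
  rfl

theorem lmk_comp {T : D} {V₁ V₂ : C} (b : V₂ ⟶ V₁) (a₂ : T ⟶ L.obj V₂) (t : F.obj (op V₁)) :
    lmk L F V₁ (a₂ ≫ L.map b) t = lmk L F V₂ a₂ (F.map b.op t) := by
  let j₁ : CostructuredArrow L.op (op T) := CostructuredArrow.mk (Y := op V₁) (a₂ ≫ L.map b).op
  let j₂ : CostructuredArrow L.op (op T) := CostructuredArrow.mk (Y := op V₂) a₂.op
  let φ : j₁ ⟶ j₂ := CostructuredArrow.homMk b.op (by simp [j₁, j₂])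
  have := (lanCocone L F T).w φ
  exact (types_congr_hom this t).symm

variable [∀ T : D, IsFiltered (CostructuredArrow L.op (op T))]

theorem lmk_common {T : D} (x x' : (L.op.lan.obj F).obj (op T)) :
    ∃ (V : C) (a : T ⟶ L.obj V) (t t' : F.obj (op V)), lmk L F V a t = x ∧ lmk L F V a t' = x' := by
  obtain ⟨j, y, hy⟩ := Types.jointly_surjective_of_isColimit (lanIsColimit L F T) x
  obtain ⟨j', y', hy'⟩ := Types.jointly_surjective_of_isColimit (lanIsColimit L F T) x'
  let k := IsFiltered.max j j'
  let φ : j ⟶ k := IsFiltered.leftToMax j j'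
  let φ' : j' ⟶ k := IsFiltered.rightToMax j j'
  obtain ⟨Vop, a', hk⟩ := k.mk_surjective
  refine ⟨Vop.unop, a'.unop, ?_, ?_, ?_, ?_⟩
  · exact (CostructuredArrow.proj L.op (op T) ⋙ F).map (φ ≫ eqToHom hk) y
  · exact (CostructuredArrow.proj L.op (op T) ⋙ F).map (φ' ≫ eqToHom hk) y'
  · rw [← hy]
    exact types_congr_hom ((lanCocone L F T).w (φ ≫ eqToHom hk)) y
  · rw [← hy']
    exact types_congr_hom ((lanCocone L F T).w (φ' ≫ eqToHom hk)) y'

theorem lmk_eq_iff {T : D} (V : C) (a : T ⟶ L.obj V) (t t' : F.obj (op V)) :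
    lmk L F V a t = lmk L F V a t' ↔
      ∃ (V₃ : C) (b : V₃ ⟶ V) (a₃ : T ⟶ L.obj V₃), a₃ ≫ L.map b = a ∧
        F.map b.op t = F.map b.op t' := by
  constructor
  · intro h
    obtain ⟨k, φ, hφ⟩ := (Types.FilteredColimit.isColimit_eq_iff' (lanIsColimit L F T)
      (i := CostructuredArrow.mk (Y := op V) a.op) t t').1 h
    obtain ⟨Vop, a', rfl⟩ := k.mk_surjective
    refine ⟨Vop.unop, φ.left.unop, a'.unop, ?_, hφ⟩
    have := CostructuredArrow.w φ
    exact Quiver.Hom.op_inj this
  · rintro ⟨V₃, b, a₃, rfl, h⟩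
    rw [lmk_comp, lmk_comp, h]

end Lan

section Sigma

variable {Y : Scheme.{u}} {n : ℕ} (V : Fin n → Y.ProEt)

instance : WeaklyEtale (Sigma.desc fun k => (V k).hom) :=
  IsZariskiLocalAtSource.sigmaDesc (fun _ => inferInstance)

/-- finite coproducts in the pro-étale site -/
noncomputable def sigmaObj : Y.ProEt := Scheme.ProEt.mk (Sigma.desc fun k => (V k).hom)

noncomputable def sigmaIncl (k : Fin n) : V k ⟶ sigmaObj V :=
  MorphismProperty.Over.homMk (Sigma.ι (fun k => (V k).left) k) (Sigma.ι_desc _ _) trivial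

noncomputable def sigmaDesc {T : Y.ProEt} (c : ∀ k, V k ⟶ T) : sigmaObj V ⟶ T :=
  MorphismProperty.Over.homMk (Sigma.desc fun k => (c k).left) (by
    apply Sigma.hom_ext
    intro k
    show Sigma.ι (fun k => (V k).left) k ≫ (Sigma.desc fun k => (c k).left) ≫ T.hom =
      Sigma.ι (fun k => (V k).left) k ≫ Sigma.desc fun k => (V k).hom
    rw [Sigma.ι_desc_assoc, Sigma.ι_desc]
    exact MorphismProperty.Over.w (c k)) trivial

theorem sigmaIncl_desc {T : Y.ProEt} (c : ∀ k, V k ⟶ T) (k : Fin n) :
    sigmaIncl V k ≫ sigmaDesc V c = c k := by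
  apply MorphismProperty.Over.Hom.ext
  exact Sigma.ι_desc _ _

instance (k : Fin n) : Mono (sigmaIncl V k) := by
  constructor
  intro T a b hab
  apply MorphismProperty.Over.Hom.ext
  have h2 := congrArg (fun t => t.left) hab
  have h3 : a.left ≫ Sigma.ι (fun k => (V k).left) k = b.left ≫ Sigma.ι (fun k => (V k).left) k := h2
  exact (cancel_mono (Sigma.ι (fun k => (V k).left) k)).1 h3

set_option backward.isDefEq.respectTransparency.types false in
theorem generate_sigmaIncl_mem :
    Sieve.generate (Presieve.ofArrows V (sigmaIncl V)) ∈ Scheme.ProEt.topology Y (sigmaObj V) := by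
  let 𝒲 : (∐ fun k => (V k).left).OpenCover := sigmaOpenCover fun k => (V k).left
  let 𝒲' : Scheme.Cover.{0} (Scheme.precoverage @WeaklyEtale) (sigmaObj V).left :=
    𝒲.weaken (Scheme.precoverage_mono (fun _ _ f hf => by
      have : IsOpenImmersion f := hf
      infer_instance))
  have : QuasiCompactCover 𝒲'.toPreZeroHypercover :=
    inferInstanceAs (QuasiCompactCover 𝒲.toPreZeroHypercover)
  refine mem_of_cover 𝒲' (fun k => ?_)
  have : WeaklyEtale (𝒲'.f k) := by
    show WeaklyEtale (Sigma.ι (fun k => (V k).left) k)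
    infer_instance
  exact arrows_of_factor (𝒲'.f k) (sigmaIncl V k)
    (Sieve.le_generate _ _ _ (Presieve.ofArrows.mk k)) (𝟙 _) (Category.id_comp _)

theorem bijective_sigma (F : Sheaf (Scheme.ProEt.topology Y) (Type (u + 1))) :
    Function.Bijective (fun (s : F.obj.obj (op (sigmaObj V))) (k : Fin n) =>
      F.obj.map (sigmaIncl V k).op s) := by
  have hF := (isSheaf_iff_isSheaf_of_type _ _).1 F.2
  have h1 := hF _ (generate_sigmaIncl_mem V)
  rw [← Presieve.isSheafFor_iff_generate, Presieve.isSheafFor_arrows_iff] at h1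
  have hcompat : ∀ x : ∀ k, F.obj.obj (op (V k)),
      Presieve.Arrows.Compatible F.obj (sigmaIncl V) x := by
    intro x k l Z gk gl hkl
    by_cases h : k = l
    · subst h
      have : gk = gl := (cancel_mono (sigmaIncl V k)).1 hkl
      rw [this]
    · have : IsEmpty Z.left := by
        constructor
        intro z
        have h2 := congrArg (fun t => t.left) hkl
        have h3 : gk.left ≫ Sigma.ι (fun k => (V k).left) k =
            gl.left ≫ Sigma.ι (fun k => (V k).left) l := h2
        have h4 : (gk.left ≫ Sigma.ι (fun k => (V k).left) k) z ∈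
            (Sigma.ι (fun k => (V k).left) k).opensRange := ⟨gk.left z, rfl⟩
        have h5 : (gk.left ≫ Sigma.ι (fun k => (V k).left) k) z ∈
            (Sigma.ι (fun k => (V k).left) l).opensRange := by
          rw [h3]
          exact ⟨gl.left z, rfl⟩
        have := disjoint_opensRange_sigmaι (fun k => (V k).left) k l h
        exact (disjoint_iff.1 this).le ⟨h4, h5⟩
      exact (subsingleton_of_isEmpty F Z).elim _ _
  constructor
  · intro s s' hss
    obtain ⟨t, -, ht⟩ := h1 (fun k => F.obj.map (sigmaIncl V k).op s) (hcompat _)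
    exact (ht s (fun k => rfl)).trans (ht s' (fun k => (congrFun hss k).symm)).symm
  · intro x
    obtain ⟨t, ht, -⟩ := h1 x (hcompat x)
    exact ⟨t, funext ht⟩

end Sigma

variable {X Y : Scheme.{u}} (f : X ⟶ Y)

instance isFiltered_costructuredArrow (T : X.ProEt) :
    IsFiltered (CostructuredArrow (bcP f).op (op T)) := by
  have : RepresentablyFlat (bcP f) := ProEtCont.representablyFlat_bcP f
  have : IsCofiltered (StructuredArrow T (bcP f)) := RepresentablyFlat.cofiltered T
  exact IsFiltered.of_equivalence (structuredArrowOpEquivalence (bcP f) T)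

theorem bijective_restrict_lan (F : Sheaf (Scheme.ProEt.topology Y) (Type (u + 1)))
    (W : X.ProEt) {n : ℕ} (Wk : Fin n → W.left.Opens)
    (hdisj : Pairwise (fun k l => Disjoint (Wk k : Set ↥W.left) (Wk l)))
    (hcov : (⋃ k, (Wk k : Set ↥W.left)) = Set.univ) :
    Function.Bijective (fun (s : ((bcP f).op.lan.obj F.obj).obj (op W)) (k : Fin n) =>
      ((bcP f).op.lan.obj F.obj).map (openHom W Wk k).op s) := by
  constructor
  · intro s s' hss
    obtain ⟨V, a, t, t', rfl, rfl⟩ := lmk_common (bcP f) F.obj s s'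
    have hk : ∀ k, ∃ (V₃ : Y.ProEt) (b : V₃ ⟶ V) (a₃ : openObj W Wk k ⟶ (bcP f).obj V₃),
        a₃ ≫ (bcP f).map b = openHom W Wk k ≫ a ∧ F.obj.map b.op t = F.obj.map b.op t' := by
      intro k
      have := congrFun hss k
      simp only [map_lmk] at this
      exact (lmk_eq_iff (bcP f) F.obj V _ t t').1 this
    choose V₃ b a₃ hb ht using hk
    obtain ⟨a'', ha'', hu⟩ := existsUnique_desc hdisj hcov ((bcP f).obj (sigmaObj V₃))
      (fun k => a₃ k ≫ (bcP f).map (sigmaIncl V₃ k))
    refine (lmk_eq_iff (bcP f) F.obj V a t t').2 ⟨sigmaObj V₃, sigmaDesc V₃ b, a'', ?_, ?_⟩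
    · obtain ⟨m, -, hm⟩ := existsUnique_desc hdisj hcov ((bcP f).obj V) (fun k => openHom W Wk k ≫ a)
      rw [hm a (fun k => rfl)]
      apply hm
      intro k
      rw [← Category.assoc, ha'' k, Category.assoc, ← Functor.map_comp, sigmaIncl_desc, hb k]
    · apply (bijective_sigma V₃ F).1
      funext k
      show F.obj.map (sigmaIncl V₃ k).op (F.obj.map (sigmaDesc V₃ b).op t) =
        F.obj.map (sigmaIncl V₃ k).op (F.obj.map (sigmaDesc V₃ b).op t')
      rw [← Functor.map_comp_apply, ← Functor.map_comp_apply, ← op_comp, sigmaIncl_desc]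
      exact ht k
  · intro x
    have hk : ∀ k, ∃ (V' : Y.ProEt) (a : openObj W Wk k ⟶ (bcP f).obj V') (t : F.obj.obj (op V')),
        lmk (bcP f) F.obj V' a t = x k := fun k => lmk_surjective (bcP f) F.obj (x k)
    choose V' a t hx using hk
    obtain ⟨t₀, ht₀⟩ := (bijective_sigma V' F).2 t
    obtain ⟨a'', ha'', -⟩ := existsUnique_desc hdisj hcov ((bcP f).obj (sigmaObj V'))
      (fun k => a k ≫ (bcP f).map (sigmaIncl V' k))
    refine ⟨lmk (bcP f) F.obj (sigmaObj V') a'' t₀, ?_⟩
    funext k
    show ((bcP f).op.lan.obj F.obj).map (openHom W Wk k).op (lmk (bcP f) F.obj (sigmaObj V') a'' t₀) = x k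
    rw [map_lmk, ha'' k, lmk_comp, ← hx k]
    congr 1
    exact congrFun ht₀ k

/-- version of `ProEtProd.main` with the product property as a hypothesis -/
theorem bijective_toSheafify_of_prod {X : Scheme.{u}} (F : X.ProEtᵒᵖ ⥤ Type (u + 1))
    (W : X.ProEt) [IsAffine W.left] (hW : ProEtS.IsWC W)
    (hprod : ∀ {n : ℕ} (V : Fin n → W.left.Opens),
      Pairwise (fun k l => Disjoint (V k : Set ↥W.left) (V l)) →
      (⋃ k, (V k : Set ↥W.left)) = Set.univ →
      Function.Bijective (fun (s : F.obj (op W)) (k : Fin n) => F.map (openHom W V k).op s)) :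
    Function.Bijective ((toSheafify (Scheme.ProEt.topology X) F).app (op W)) := by
  have hA := isWContractible_of_isWC W hW
  set η := toSheafify (Scheme.ProEt.topology X) F with hη
  have hinj : Presheaf.IsLocallyInjective (Scheme.ProEt.topology X) η := inferInstance
  have hsurj : Presheaf.IsLocallySurjective (Scheme.ProEt.topology X) η := inferInstance
  constructor
  · intro s t hst
    have hR := Presheaf.equalizerSieve_mem (Scheme.ProEt.topology X) η (X := op W) s t hst
    obtain ⟨n, V, hclopen, hdisj, hcov, hV⟩ := exists_clopen_of_isWContractible W hA _ hR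
    apply (hprod V hdisj hcov).1
    funext k
    exact hV k
  · intro σ
    have hR := Presheaf.imageSieve_mem (Scheme.ProEt.topology X) η (U := op W) σ
    obtain ⟨n, V, hclopen, hdisj, hcov, hV⟩ := exists_clopen_of_isWContractible W hA _ hR
    choose t ht using hV
    obtain ⟨s, hs⟩ := (hprod V hdisj hcov).2 t
    refine ⟨s, ?_⟩
    let G : Sheaf (Scheme.ProEt.topology X) (Type (u + 1)) :=
      (presheafToSheaf (Scheme.ProEt.topology X) (Type (u + 1))).obj F
    obtain ⟨z, -, hz⟩ := existsUnique_glue G hdisj hcov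
      (fun k => G.obj.map (openHom W V k).op σ)
    have h1 := hz (η.app (op W) s) (fun k => by
      have e1 : G.obj.map (openHom W V k).op (η.app (op W) s) =
          η.app (op (openObj W V k)) (F.map (openHom W V k).op s) :=
        (NatTrans.naturality_apply η (openHom W V k).op s).symm
      have e2 : η.app (op (openObj W V k)) (F.map (openHom W V k).op s) =
          η.app (op (openObj W V k)) (t k) := congrArg _ (congrFun hs k)
      exact e1.trans (e2.trans (ht k)))
    have h2 := hz σ (fun k => rfl)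
    exact h1.trans h2.symm

theorem main {X Y : Scheme.{u}} (f : X ⟶ Y)
    (F : Sheaf (Scheme.ProEt.topology Y) (Type (u + 1))) (W : X.ProEt) [IsAffine W.left]
    (hW : ProEtS.IsWC W) :
    Function.Bijective
      ((toSheafify (Scheme.ProEt.topology X) ((ProEtS.bcP f).op.lan.obj F.obj)).app (op W)) :=
  bijective_toSheafify_of_prod _ W hW (fun V hdisj hcov => bijective_restrict_lan f F W V hdisj hcov)

end Groth.Agent.Lib.Helper4.ProEtLan
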