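import Mathlib
import Groth.Prelude.Def_ProEtS
import Groth.Agent.Lib.Helper4.ProEtCov

/-!
# Open immersions and the pro-étale site (S0742)

* `adjSite j : compP j ⊣ bcP j` with invertible unit
* `adjSheaf j : restrP j ⊣ pushP j` with invertible counit
* `main`: `j_!` and `j_*` are fully faithful
-/

set_option autoImplicit false
open CategoryTheory CategoryTheory.Limits AlgebraicGeometry Opposite
universe u
open ProEtS
namespace Groth.Agent.Lib.Helper4.ProEtOpen

variable {U X : Scheme.{u}} (j : U ⟶ X) [IsOpenImmersion j]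

set_option backward.isDefEq.respectTransparency.types false in
/-- `compP j ⊣ bcP j` -/
noncomputable def adjSite : compP j ⊣ bcP j :=
  MorphismProperty.Over.mapPullbackAdj (@WeaklyEtale) ⊤ j (inferInstance : WeaklyEtale j) trivial

set_option backward.isDefEq.respectTransparency.types false in
theorem unit_left (V : U.ProEt) :
    ((adjSite j).unit.app V).left = pullback.lift (𝟙 _) V.hom (by simp) := by
  rfl

theorem fst_lift {V U X : Scheme.{u}} (v : V ⟶ U) (j : U ⟶ X) [Mono j] :
    pullback.fst (v ≫ j) j ≫ pullback.lift (𝟙 V) v (by simp) = 𝟙 (pullback (v ≫ j) j) := by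
  have hc : pullback.fst (v ≫ j) j ≫ v = pullback.snd (v ≫ j) j := by
    rw [← cancel_mono j, Category.assoc]
    exact pullback.condition
  apply pullback.hom_ext
  · rw [Category.assoc, pullback.lift_fst, Category.comp_id, Category.id_comp]
  · rw [Category.assoc, pullback.lift_snd, Category.id_comp]
    exact hc

set_option backward.isDefEq.respectTransparency.types false in
instance isIso_unit_app (V : U.ProEt) : IsIso ((adjSite j).unit.app V) := by
  let W := (bcP j).obj ((compP j).obj V)
  have hc : pullback.fst (V.hom ≫ j) j ≫ V.hom = pullback.snd (V.hom ≫ j) j := by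
    rw [← cancel_mono j, Category.assoc]
    exact pullback.condition
  let inv : W ⟶ V := MorphismProperty.Over.homMk (pullback.fst (V.hom ≫ j) j) hc trivial
  refine ⟨⟨inv, ?_, ?_⟩⟩
  · apply MorphismProperty.Over.Hom.ext
    show ((adjSite j).unit.app V).left ≫ pullback.fst (V.hom ≫ j) j = 𝟙 _
    rw [unit_left]
    exact pullback.lift_fst _ _ _
  · apply MorphismProperty.Over.Hom.ext
    show pullback.fst (V.hom ≫ j) j ≫ ((adjSite j).unit.app V).left = 𝟙 _
    rw [unit_left]
    exact fst_lift V.hom j


variable [ProEtS.JPCont j] [ProEtS.PCont j]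

/-- the presheaf-level adjunction: restriction along `compP j` is left adjoint to `(bcP j)^*` -/
noncomputable def adjPre :
    (Functor.whiskeringLeft U.ProEtᵒᵖ X.ProEtᵒᵖ AddCommGrpCat.{u + 1}).obj (compP j).op ⊣
      (Functor.whiskeringLeft X.ProEtᵒᵖ U.ProEtᵒᵖ AddCommGrpCat.{u + 1}).obj (bcP j).op :=
  Adjunction.whiskerLeft AddCommGrpCat.{u + 1} (adjSite j).op

/-- `j⁻¹ ⊣ j_*` on abelian sheaves -/
noncomputable def adjSheaf : restrP j ⊣ pushP j :=
  (adjPre j).restrictFullyFaithful (fullyFaithfulSheafToPresheaf _ _)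
    (fullyFaithfulSheafToPresheaf _ _) (Iso.refl _) (Iso.refl _)

instance isIso_counit_adjSheaf (G : AbP U) : IsIso ((adjSheaf j).counit.app G) := by
  have h := Adjunction.map_restrictFullyFaithful_counit_app (adjPre j)
    (fullyFaithfulSheafToPresheaf (Scheme.ProEt.topology X) AddCommGrpCat.{u + 1})
    (fullyFaithfulSheafToPresheaf (Scheme.ProEt.topology U) AddCommGrpCat.{u + 1})
    (L := restrP j) (R := pushP j) (Iso.refl _) (Iso.refl _) G
  have h2 : IsIso ((adjPre j).counit.app G.obj) := by
    rw [NatTrans.isIso_iff_isIso_app]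
    intro V
    have : (((adjPre j).counit.app G.obj).app V) = G.obj.map ((adjSite j).unit.app V.unop).op := by
      simp [adjPre]
    rw [this]
    infer_instance
  have h3 : IsIso ((sheafToPresheaf _ _).map ((adjSheaf j).counit.app G)) := by
    rw [adjSheaf, h]
    simp only [Iso.refl_inv, NatTrans.id_app, Functor.map_id, Category.id_comp]
    exact h2
  exact isIso_of_reflects_iso _ (sheafToPresheaf _ _)

theorem main (F G : ProEtS.AbP U) :
    IsIso ((ProEtS.extZeroPAdj j).unit.app F) ∧ IsIso ((ProEtS.pullPushAdjP j).counit.app G) := by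
  have hc : IsIso (adjSheaf j).counit := NatIso.isIso_of_isIso_app _
  have hff : (pushP j).FullyFaithful := (adjSheaf j).fullyFaithfulROfIsIsoCounit
  have : (pushP j).Full := hff.full
  have : (pushP j).Faithful := hff.faithful
  refine ⟨?_, inferInstance⟩
  let t : Adjunction.Triple (extZeroP j) (restrP j) (pushP j) := ⟨extZeroPAdj j, adjSheaf j⟩
  have : IsIso t.adj₁.unit := t.isIso_unit_iff_isIso_counit.2 hc
  exact inferInstanceAs (IsIso (t.adj₁.unit.app F))

end Groth.Agent.Lib.Helper4.ProEtOpen
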