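import Mathlib
import Groth.Prelude.Def_ProEtS
import Groth.Agent.Lib.Helper4.ProEtWC
import Groth.Agent.Lib.Helper4.ProEtWCov

/-!
# The small pro-étale site has enough points

For an affine object `W` of `X.ProEt` with `Γ(W)` w-contractible and a point `w` of `W`, the
pro-object of clopen neighbourhoods of `w` in `W` defines a point `pt W hA w` of the pro-étale site
(`Point.ofIsCofiltered`).  These points form a conservative family (`conservative`), hence
`hasEnoughPoints`.
-/

set_option autoImplicit false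
open CategoryTheory CategoryTheory.Limits AlgebraicGeometry Opposite
universe u
open ProEtS
namespace Groth.Agent.Lib.Helper4.ProEtPoints

open Groth.Agent.Lib.Helper4.ProEtWC Groth.Agent.Lib.Helper4.ProEtCov Groth.Agent.Lib.Helper4.ProEtAff

variable {X : Scheme.{u}}

/-- clopen neighbourhoods of a point -/
def Nbhd (W : X.ProEt) (w : ↥W.left) : Type u :=
  {U : W.left.Opens // IsClosed (U : Set ↥W.left) ∧ w ∈ U}

instance (W : X.ProEt) (w : ↥W.left) : PartialOrder (Nbhd W w) :=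
  inferInstanceAs (PartialOrder {U : W.left.Opens // IsClosed (U : Set ↥W.left) ∧ w ∈ U})

instance (W : X.ProEt) (w : ↥W.left) : Nonempty (Nbhd W w) :=
  ⟨⟨⊤, isClosed_univ, trivial⟩⟩

instance (W : X.ProEt) (w : ↥W.left) : IsDirected (Nbhd W w) (· ≥ ·) where
  directed a b := ⟨⟨a.1 ⊓ b.1, a.2.1.inter b.2.1, ⟨a.2.2, b.2.2⟩⟩,
    (inf_le_left : a.1 ⊓ b.1 ≤ a.1), (inf_le_right : a.1 ⊓ b.1 ≤ b.1)⟩

variable (W : X.ProEt) (w : ↥W.left)

noncomputable abbrev oObj (U : W.left.Opens) : X.ProEt := Scheme.ProEt.mk (U.ι ≫ W.hom)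

noncomputable abbrev oHom (U : W.left.Opens) : oObj W U ⟶ W :=
  MorphismProperty.Over.homMk U.ι rfl trivial

noncomputable def oMap {U V : W.left.Opens} (h : U ≤ V) : oObj W U ⟶ oObj W V :=
  MorphismProperty.Over.homMk (W.left.homOfLE h)
    (by
      show W.left.homOfLE h ≫ V.ι ≫ W.hom = U.ι ≫ W.hom
      rw [← Category.assoc, Scheme.homOfLE_ι]) trivial

theorem oMap_oHom {U V : W.left.Opens} (h : U ≤ V) : oMap W h ≫ oHom W V = oHom W U := by
  apply MorphismProperty.Over.Hom.ext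
  exact Scheme.homOfLE_ι _ h

instance (U : W.left.Opens) : Mono (oHom W U) := by
  constructor
  intro T a b hab
  apply MorphismProperty.Over.Hom.ext
  have h2 := congrArg (fun t => t.left) hab
  have h3 : a.left ≫ U.ι = b.left ≫ U.ι := h2
  exact (cancel_mono U.ι).1 h3

noncomputable def nb : Nbhd W w ⥤ X.ProEt where
  obj U := oObj W U.1
  map {U V} f := oMap W (leOfHom f)
  map_id U := by
    rw [← cancel_mono (oHom W U.1), oMap_oHom, Category.id_comp]
  map_comp {U V T} f g := by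
    rw [← cancel_mono (oHom W T.1), oMap_oHom, Category.assoc, oMap_oHom, oMap_oHom]

instance : LocallySmall.{u + 1} X.ProEt := inferInstance
instance : InitiallySmall.{u + 1} (Nbhd W w) := initiallySmall_of_essentiallySmall _

/-- if a morphism into `W` from a nonempty-at-`w` open lands in `U`... : factorization gives `≤` -/
theorem le_of_factor {U V : W.left.Opens} (h' : oObj W V ⟶ oObj W U)
    (hh : h' ≫ oHom W U = oHom W V) : V ≤ U := by
  intro x hx
  have h2 := congrArg (fun t => t.left) hh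
  have h3 : h'.left ≫ U.ι = V.ι := h2
  have : (h'.left ≫ U.ι) ⟨x, hx⟩ = x := by rw [h3]; rfl
  rw [← this]
  exact (h'.left ⟨x, hx⟩).2

variable {W w}

theorem hp_aux [IsAffine W.left] (hA : EtPBC.IsWContractible ↥(Γ(W.left, ⊤)))
    ⦃Y : X.ProEt⦄ (R : Sieve Y) (hR : R ∈ Scheme.ProEt.topology X Y) ⦃U : Nbhd W w⦄
    (f : (nb W w).obj U ⟶ Y) :
    ∃ (Y' : X.ProEt) (g : Y' ⟶ Y) (_ : R g) (V : Nbhd W w) (q : V ⟶ U) (a : (nb W w).obj V ⟶ Y'),
      a ≫ g = (nb W w).map q ≫ f := by
  -- the complement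
  let Uc : W.left.Opens := ⟨(U.1 : Set ↥W.left)ᶜ, U.2.1.isOpen_compl⟩
  let R'' : Sieve W :=
    { arrows := fun T h => (∃ h' : T ⟶ oObj W Uc, h' ≫ oHom W Uc = h) ∨
        (∃ h' : T ⟶ oObj W U.1, h' ≫ oHom W U.1 = h ∧ R.arrows (h' ≫ f))
      downward_closed := by
        rintro T T' h (⟨h', rfl⟩ | ⟨h', rfl, hR'⟩) m
        · exact Or.inl ⟨m ≫ h', Category.assoc _ _ _⟩
        · refine Or.inr ⟨m ≫ h', Category.assoc _ _ _, ?_⟩
          exact (congrArg (fun t => R.arrows t) (Category.assoc m h' f)).mpr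
            (R.downward_closed hR' m) }
  have hR'' : R'' ∈ Scheme.ProEt.topology X W := by
    let Wb : Bool → W.left.Opens := fun b => if b then U.1 else Uc
    have hcov : (⋃ k, (Wb k : Set ↥W.left)) = Set.univ := by
      rw [Set.eq_univ_iff_forall]
      intro x
      by_cases hx : x ∈ U.1
      · exact Set.mem_iUnion.2 ⟨true, hx⟩
      · exact Set.mem_iUnion.2 ⟨false, hx⟩
    refine (Scheme.ProEt.topology X).transitive (generate_openHom_mem (W := Wb) hcov) R'' ?_
    rintro T h ⟨T', a, b, ⟨k⟩, rfl⟩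
    cases k
    · -- complement
      refine (Scheme.ProEt.topology X).superset_covering ?_ ((Scheme.ProEt.topology X).top_mem T)
      intro T'' m _
      exact Or.inl ⟨m ≫ a, by rw [Category.assoc]; rfl⟩
    · have h1 : (R.pullback f).pullback a ∈ Scheme.ProEt.topology X T :=
        (Scheme.ProEt.topology X).pullback_stable a ((Scheme.ProEt.topology X).pullback_stable f hR)
      refine (Scheme.ProEt.topology X).superset_covering ?_ h1
      intro T'' m hm
      refine Or.inr ⟨m ≫ a, by rw [Category.assoc]; rfl, ?_⟩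
      have : R.arrows (m ≫ a ≫ f) := hm
      exact (congrArg (fun t => R.arrows t) (Category.assoc m a f)).mpr this
  obtain ⟨n, Wk, hclopen, hdisj, hcov, hV⟩ := exists_clopen_of_isWContractible W hA R'' hR''
  obtain ⟨k₀, hk₀⟩ : ∃ k, w ∈ Wk k := by
    have : w ∈ (⋃ k, (Wk k : Set ↥W.left)) := by rw [hcov]; trivial
    exact Set.mem_iUnion.1 this
  rcases hV k₀ with ⟨h', hh'⟩ | ⟨h', hh', hR'⟩
  · exfalso
    have hle : Wk k₀ ≤ Uc := le_of_factor W h' hh'
    exact hle hk₀ U.2.2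
  · have hle : Wk k₀ ≤ U.1 := le_of_factor W h' hh'
    let V : Nbhd W w := ⟨Wk k₀, (hclopen k₀).1, hk₀⟩
    let q : V ⟶ U := homOfLE hle
    have hq : (nb W w).map q = h' := by
      apply (cancel_mono (oHom W U.1)).1
      exact (oMap_oHom W _).trans hh'.symm
    refine ⟨(nb W w).obj V, (nb W w).map q ≫ f, ?_, V, q, 𝟙 _, Category.id_comp _⟩
    exact (congrArg (fun t => R.arrows (t ≫ f)) hq).mpr hR'


/-- the point of the pro-étale site attached to a point of an affine w-contractible object -/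
noncomputable def pt (W : X.ProEt) [IsAffine W.left] (hA : EtPBC.IsWContractible ↥(Γ(W.left, ⊤)))
    (w : ↥W.left) : GrothendieckTopology.Point.{u + 1} (Scheme.ProEt.topology X) :=
  GrothendieckTopology.Point.ofIsCofiltered (nb W w) (fun _ R hR _ f => hp_aux hA R hR f)

/-- the index type of the family of points -/
def Idx (X : Scheme.{u}) : Type (u + 1) :=
  Σ (W : {W : X.ProEt // IsAffine W.left ∧ EtPBC.IsWContractible ↥(Γ(W.left, ⊤))}), ↥W.1.left

noncomputable def ptOf (i : Idx X) : GrothendieckTopology.Point.{u + 1} (Scheme.ProEt.topology X) :=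
  haveI := i.1.2.1
  pt i.1.1 i.1.2.2 i.2

open GrothendieckTopology.Point.ofIsCofiltered in
theorem conservative (X : Scheme.{u}) :
    (ObjectProperty.ofObj (ptOf (X := X))).IsConservativeFamilyOfPoints := by
  apply ObjectProperty.IsConservativeFamilyOfPoints.mk'
  intro Y₀ S hS
  obtain ⟨ι, V, g, hcov, hV⟩ := Groth.Agent.Lib.Helper4.ProEtWCov.exists_affine_wContractible_family Y₀
  refine (Scheme.ProEt.topology X).transitive hcov S ?_
  rintro T h ⟨T', a, b, ⟨i⟩, rfl⟩
  -- suffices: the pullback along `g i` is covering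
  suffices hsuff : S.pullback (g i) ∈ Scheme.ProEt.topology X (V i) by
    have := (Scheme.ProEt.topology X).pullback_stable a hsuff
    rwa [← Sieve.pullback_comp] at this
  have haff := (hV i).1
  have hwc := (hV i).2
  -- for each point of `V i` a clopen neighbourhood in the pullback sieve
  have key : ∀ w : ↥(V i).left, ∃ U : (V i).left.Opens, w ∈ U ∧ (S.pullback (g i)).arrows (oHom (V i) U) := by
    intro w
    let Φ : (ObjectProperty.ofObj (ptOf (X := X))).FullSubcategory :=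
      ⟨ptOf ⟨⟨V i, haff, hwc⟩, w⟩, ObjectProperty.ofObj_apply _ _⟩
    let Utop : Nbhd (V i) w := ⟨⊤, isClosed_univ, trivial⟩
    let b₀ : (nb (V i) w).obj Utop ⟶ Y₀ := oHom (V i) ⊤ ≫ g i
    obtain ⟨Y', g', hg', y, hy⟩ := hS Φ (fiberMk b₀)
    obtain ⟨U₁, a₁, rfl⟩ := fiberMk_jointly_surjective y
    have h1 : fiberMk (a₁ ≫ g') = fiberMk ((nb (V i) w).map (homOfLE (le_top : U₁.1 ≤ ⊤) : U₁ ⟶ Utop) ≫ b₀) := by
      rw [fiberMk_map_comp]
      exact (fiber_map_fiberMk _ a₁ g').symm.trans hy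
    obtain ⟨V₁, r, hr⟩ := exists_of_fiberMk_eq_fiberMk h1
    refine ⟨V₁.1, V₁.2.2, ?_⟩
    show S.arrows (oHom (V i) V₁.1 ≫ g i)
    have h2 : oHom (V i) V₁.1 ≫ g i = ((nb (V i) w).map r ≫ a₁) ≫ g' := by
      rw [Category.assoc, hr]
      have e1 : (nb (V i) w).map (homOfLE (le_top : U₁.1 ≤ ⊤) : U₁ ⟶ Utop) ≫ oHom (V i) ⊤ =
          oHom (V i) U₁.1 := oMap_oHom (V i) _
      have e2 : (nb (V i) w).map r ≫ oHom (V i) U₁.1 = oHom (V i) V₁.1 := oMap_oHom (V i) _
      let m_r := (nb (V i) w).map r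
      let m_q := (nb (V i) w).map (homOfLE (le_top : U₁.1 ≤ ⊤) : U₁ ⟶ Utop)
      have s1 : m_r ≫ (m_q ≫ (oHom (V i) ⊤ ≫ g i)) = m_r ≫ ((m_q ≫ oHom (V i) ⊤) ≫ g i) :=
        congrArg (m_r ≫ ·) (Category.assoc m_q (oHom (V i) ⊤) (g i)).symm
      have s2 : m_r ≫ ((m_q ≫ oHom (V i) ⊤) ≫ g i) = m_r ≫ (oHom (V i) U₁.1 ≫ g i) :=
        congrArg (fun t => m_r ≫ (t ≫ g i)) e1
      have s3 : m_r ≫ (oHom (V i) U₁.1 ≫ g i) = (m_r ≫ oHom (V i) U₁.1) ≫ g i :=
        (Category.assoc _ _ _).symm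
      have s4 : (m_r ≫ oHom (V i) U₁.1) ≫ g i = oHom (V i) V₁.1 ≫ g i :=
        congrArg (· ≫ g i) e2
      exact (s1.trans (s2.trans (s3.trans s4))).symm
    exact (congrArg (fun t => S.arrows t) h2).mpr (S.downward_closed hg' _)
  choose Uw hUw hUw' using key
  have hcov' : (⋃ w, (Uw w : Set ↥(V i).left)) = Set.univ := by
    rw [Set.eq_univ_iff_forall]
    intro x
    exact Set.mem_iUnion.2 ⟨x, hUw x⟩
  refine (Scheme.ProEt.topology X).superset_covering ?_ (generate_openHom_mem (W := Uw) hcov')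
  rw [Sieve.generate_le_iff]
  rintro T f ⟨w⟩
  exact hUw' w

theorem hasEnoughPoints (X : Scheme.{u}) :
    GrothendieckTopology.HasEnoughPoints.{u + 1} (Scheme.ProEt.topology X) :=
  ⟨⟨ObjectProperty.ofObj (ptOf (X := X)), inferInstance, conservative X⟩⟩

end Groth.Agent.Lib.Helper4.ProEtPoints
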