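import Groth.Agent.Lib.Helper4.ProEtAff
import Groth.Agent.Lib.Helper10.WEField

/-!
# Geometric points of the small pro-étale site

* `exists_algHom_of_weaklyEtale`: a nonzero weakly étale algebra over a separably closed field has
  a rational point.
* `exists_section_of_weaklyEtale`: scheme version.
* `exists_geometric_lift`: geometric points lift along pro-étale covering sieves.
-/

set_option autoImplicit false
set_option linter.style.haveILetI false
universe u w
open CategoryTheory AlgebraicGeometry Opposite Limits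
open Groth.Agent.Lib.Helper4.ProEtCov Groth.Agent.Lib.Helper4.ProEtAff

namespace Groth.Agent.Lib.Helper4.ProEtPt

/-- a nonzero weakly étale algebra over a separably closed field has a rational point -/
theorem exists_algHom_of_weaklyEtale (k : Type u) [Field k] [IsSepClosed k] (C : Type u) [CommRing C]
    [Nontrivial C] [Algebra k C] [Algebra.WeaklyEtale k C] : Nonempty (C →ₐ[k] k) := by
  obtain ⟨q, hq⟩ := Ideal.exists_maximal C
  haveI := hq.isPrime
  haveI : Algebra.IsSeparable k q.ResidueField :=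
    Groth.Agent.Lib.Helper10.WE.isSeparable_residueField_of_field k C q
  have hbij : Function.Bijective (algebraMap k q.ResidueField) :=
    IsSepClosed.algebraMap_bijective k q.ResidueField
  let e : k ≃ₐ[k] q.ResidueField := AlgEquiv.ofBijective (Algebra.ofId k q.ResidueField) hbij
  exact ⟨(e.symm : q.ResidueField →ₐ[k] k).comp (IsScalarTower.toAlgHom k C q.ResidueField)⟩

/-- a nonempty affine scheme weakly étale over a separably closed field has a rational point -/
theorem exists_section_of_weaklyEtale_affine (k : Type u) [Field k] [IsSepClosed k] {Y : Scheme.{u}}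
    [IsAffine Y] (fj : Y ⟶ Spec (CommRingCat.of k)) [WeaklyEtale fj] (y : Y) :
    ∃ s : Spec (CommRingCat.of k) ⟶ Y, s ≫ fj = 𝟙 _ := by
  let ψ : CommRingCat.of k ⟶ Γ(Y, ⊤) := (Scheme.ΓSpecIso (CommRingCat.of k)).inv ≫ fj.appTop
  have hfj : fj = Y.isoSpec.hom ≫ Spec.map ψ := by
    have h1 := Scheme.isoSpec_hom_naturality fj
    rw [Scheme.isoSpec_Spec_hom] at h1
    have h2 : fj = (fj ≫ Spec.map (Scheme.ΓSpecIso (CommRingCat.of k)).hom) ≫
        Spec.map (Scheme.ΓSpecIso (CommRingCat.of k)).inv := by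
      rw [Category.assoc, ← Spec.map_comp, Iso.inv_hom_id, Spec.map_id, Category.comp_id]
    rw [h2, ← h1, Category.assoc, ← Spec.map_comp]
  have hwe : WeaklyEtale (Spec.map ψ) := by
    have : Spec.map ψ = Y.isoSpec.inv ≫ fj := by rw [hfj, Iso.inv_hom_id_assoc]
    rw [this]
    infer_instance
  letI : Algebra k ↥(Γ(Y, ⊤)) := ψ.hom.toAlgebra
  haveI : Algebra.WeaklyEtale k ↥(Γ(Y, ⊤)) :=
    (Groth.Agent.Lib.Helper98.WESch.weaklyEtale_SpecMap_iff' ψ).1 hwe
  haveI : Nontrivial ↥(Γ(Y, ⊤)) := by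
    by_contra hnt
    rw [not_nontrivial_iff_subsingleton] at hnt
    exact (PrimeSpectrum.isEmpty_iff_subsingleton.2 hnt).false (Y.isoSpec.hom.base y)
  obtain ⟨ρ⟩ := exists_algHom_of_weaklyEtale k ↥(Γ(Y, ⊤))
  refine ⟨Spec.map (CommRingCat.ofHom ρ.toRingHom) ≫ Y.isoSpec.inv, ?_⟩
  have h3 : ψ ≫ CommRingCat.ofHom ρ.toRingHom = 𝟙 _ := by
    ext x
    exact ρ.commutes x
  calc (Spec.map (CommRingCat.ofHom ρ.toRingHom) ≫ Y.isoSpec.inv) ≫ fj
      = Spec.map (CommRingCat.ofHom ρ.toRingHom) ≫ Spec.map ψ := by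
        rw [hfj, Category.assoc, Iso.inv_hom_id_assoc]
    _ = 𝟙 _ := by rw [← Spec.map_comp, h3, Spec.map_id]

/-- a nonempty scheme weakly étale over a separably closed field has a rational point -/
theorem exists_section_of_weaklyEtale (k : Type u) [Field k] [IsSepClosed k] {P : Scheme.{u}}
    (f : P ⟶ Spec (CommRingCat.of k)) [WeaklyEtale f] (z : P) :
    ∃ s : Spec (CommRingCat.of k) ⟶ P, s ≫ f = 𝟙 _ := by
  obtain ⟨y, hy⟩ := P.affineCover.covers z
  obtain ⟨s, hs⟩ := exists_section_of_weaklyEtale_affine k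
    (P.affineCover.f (P.affineCover.idx z) ≫ f) y
  exact ⟨s ≫ P.affineCover.f (P.affineCover.idx z), by rw [Category.assoc, hs]⟩

variable {X : Scheme.{u}}

set_option backward.isDefEq.respectTransparency.types false in
theorem exists_geometric_lift (U : X.ProEt) (R : Sieve U)
    (hR : R ∈ Scheme.ProEt.topology X U) {k : Type u} [Field k] [IsSepClosed k]
    (ξ : Spec (CommRingCat.of k) ⟶ U.left) :
    ∃ (V : X.ProEt) (g : V ⟶ U) (ξ' : Spec (CommRingCat.of k) ⟶ V.left),
      R g ∧ ξ' ≫ g.left = ξ := by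
  obtain ⟨𝒰, hqc, H⟩ := exists_cover_of_mem hR
  let pt : ↥(Spec (CommRingCat.of k)) := Classical.arbitrary _
  obtain ⟨i, y, hy⟩ := 𝒰.exists_eq (ξ.base pt)
  obtain ⟨z, -, -⟩ := Scheme.Pullback.exists_preimage_pullback (f := 𝒰.f i) (g := ξ) y pt hy
  obtain ⟨s, hs⟩ := exists_section_of_weaklyEtale k (pullback.snd (𝒰.f i) ξ) z
  refine ⟨_, _, s ≫ pullback.fst (𝒰.f i) ξ, H i, ?_⟩
  show (s ≫ pullback.fst (𝒰.f i) ξ) ≫ 𝒰.f i = ξ
  rw [Category.assoc, pullback.condition, ← Category.assoc, hs, Category.id_comp]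

end Groth.Agent.Lib.Helper4.ProEtPt
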