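import Mathlib
import Groth.Prelude.Def_ProEtS
import Groth.Agent.Lib.Helper47.SiteTransport3
import Groth.Agent.Lib.Helper4.ProEtCov

/-!
# Finite coverings by qcqs objects in (a small model of) the small pro-étale site (helper4)

Port of helper47's `EtQc` (étale site) to the pro-étale site `X.ProEt`.
-/

set_option autoImplicit false
universe u
open CategoryTheory CategoryTheory.Limits AlgebraicGeometry Opposite

namespace Groth.Agent.Lib.Helper4.ProEtQc

variable (X : Scheme.{u})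

/-- small model of the pro-étale site -/
abbrev Cs : Type (u + 1) := ULiftHom.{u + 1} X.ProEt

/-- the equivalence with the small model -/
abbrev eqv : X.ProEt ≌ Cs X := ULiftHom.equiv

/-- topology on the small model -/
abbrev Ks : GrothendieckTopology (Cs X) :=
  (eqv X).inverse.inducedTopology (Scheme.ProEt.topology X)

instance : (ULiftHom.down : Cs X ⥤ X.ProEt).IsEquivalence := (eqv X).isEquivalence_inverse

instance : HasPullbacks (Cs X) :=
  Adjunction.hasLimitsOfShape_of_equivalence (ULiftHom.down : Cs X ⥤ X.ProEt)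

/-- the underlying scheme -/
abbrev Φ : Cs X ⥤ Scheme.{u} := ULiftHom.down ⋙ Scheme.ProEt.forget X ⋙ Over.forget X

instance : PreservesLimitsOfShape WalkingCospan (Φ X) := inferInstance

/-- quasi-compact quasi-separated weakly étale schemes -/
def B : Set (Cs X) := {U | CompactSpace ((Φ X).obj U) ∧ QuasiSeparatedSpace ((Φ X).obj U)}

variable {X}

lemma mem_B_of_iso {U V : Cs X} (e : U ≅ V) (hV : V ∈ B X) : U ∈ B X := by
  obtain ⟨h1, h2⟩ := hV
  let a : (Φ X).obj U ≅ (Φ X).obj V := (Φ X).mapIso e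
  exact ⟨QuasiCompact.compactSpace_of_compactSpace a.hom,
    quasiSeparatedSpace_of_quasiSeparated a.hom⟩

lemma isPullback_mem_B {P V W U : Cs X} {f : P ⟶ V} {g : P ⟶ W} {a : V ⟶ U} {b : W ⟶ U}
    (h : IsPullback f g a b) (hV : V ∈ B X) (hW : W ∈ B X) (hU : U ∈ B X) : P ∈ B X := by
  obtain ⟨hV1, hV2⟩ := hV
  obtain ⟨hW1, hW2⟩ := hW
  obtain ⟨hU1, hU2⟩ := hU
  have h' := h.map (Φ X)
  let e := h'.isoPullback
  have : QuasiCompact ((Φ X).map a) := inferInstance
  have : QuasiSeparated ((Φ X).map a) := inferInstance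
  have c1 : CompactSpace ↥(pullback ((Φ X).map a) ((Φ X).map b)) := inferInstance
  have c2 : QuasiSeparatedSpace ↥(pullback ((Φ X).map a) ((Φ X).map b)) :=
    quasiSeparatedSpace_of_quasiSeparated (pullback.snd ((Φ X).map a) ((Φ X).map b))
  exact ⟨QuasiCompact.compactSpace_of_compactSpace e.hom,
    quasiSeparatedSpace_of_quasiSeparated e.hom⟩

section Products

variable {U : Cs X}

/-- the object property on `Over U` -/
def PB (U : Cs X) : ObjectProperty (Over U) := fun V => V.left ∈ B X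

lemma isPullback_of_isLimit_pairDiagram {𝒞 : Type*} [Category 𝒞] {U : 𝒞}
    (F : Discrete WalkingPair ⥤ Over U) (c : Cone F) (hc : IsLimit c) :
    IsPullback (c.π.app ⟨.left⟩).left (c.π.app ⟨.right⟩).left
      (F.obj ⟨.left⟩).hom (F.obj ⟨.right⟩).hom := by
  let c' : BinaryFan (F.obj ⟨.left⟩) (F.obj ⟨.right⟩) :=
    BinaryFan.mk (c.π.app ⟨.left⟩) (c.π.app ⟨.right⟩)
  have hc' : IsLimit c' :=
    IsLimit.ofIsoLimit ((IsLimit.postcomposeHomEquiv (diagramIsoPair F) c).symm hc)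
      (Cone.ext (Iso.refl _) (by rintro ⟨_ | _⟩ <;> simp [c']))
  exact Over.isPullback_of_binaryFan_isLimit c' hc'

lemma PB_binary (hU : U ∈ B X) : (PB U).IsClosedUnderBinaryProducts where
  limitsOfShape_le := by
    rintro V ⟨p⟩
    have h := isPullback_of_isLimit_pairDiagram p.diag (Cone.mk V p.π) p.isLimit
    exact isPullback_mem_B h (p.prop_diag_obj ⟨.left⟩) (p.prop_diag_obj ⟨.right⟩) hU

lemma PB_terminal (hU : U ∈ B X) :
    (PB U).IsClosedUnderLimitsOfShape (Discrete.{0} PEmpty) where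
  limitsOfShape_le := by
    rintro V ⟨p⟩
    have hV : IsTerminal V :=
      (IsLimit.equivOfNatIsoOfIso p.diag.uniqueFromEmpty _ _
        (by exact Cone.ext (Iso.refl _) (by rintro ⟨⟨⟩⟩))).1 p.isLimit
    let e : V ≅ Over.mk (𝟙 U) := hV.uniqueUpToIso Over.mkIdTerminal
    exact mem_B_of_iso ((Over.forget U).mapIso e) hU

lemma prod_mem_B (hU : U ∈ B X) {n : ℕ} (Y : Fin n → Over U)
    (hY : ∀ i, (Y i).left ∈ B X) : (∏ᶜ Y).left ∈ B X := by
  have := PB_binary hU
  have := PB_terminal hU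
  have : (PB U).IsClosedUnderFiniteProducts := ObjectProperty.IsClosedUnderFiniteProducts.mk'
  exact (PB U).prop_product hY

end Products

/-- the class of finite coverings by quasi-compact quasi-separated objects -/
def Cov (U : Cs X) (ι : Type (u + 1)) (Y : ι → Over U) : Prop :=
  Finite ι ∧ U ∈ B X ∧ (∀ i, (Y i).left ∈ B X) ∧
    Sieve.ofArrows (fun i => (Y i).left) (fun i => (Y i).hom) ∈ Ks X U

lemma Cov_h1 (U : Cs X) (ι : Type (u + 1)) (Y : ι → Over U) (h : Cov U ι Y) :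
    Finite ι ∧ U ∈ B X ∧ Sieve.ofArrows (fun i => (Y i).left) (fun i => (Y i).hom) ∈ Ks X U ∧
    ∀ (p : ℕ) (a : Fin (p + 1) → ι), (∏ᶜ fun k => Y (a k)).left ∈ B X :=
  ⟨h.1, h.2.1, h.2.2.2, fun _ a => prod_mem_B h.2.1 _ (fun k => h.2.2.1 (a k))⟩

lemma Cov_h2 (U : Cs X) (hU : U ∈ B X) (T : Sieve U) (hT : T ∈ Ks X U) :
    ∃ (ι : Type (u + 1)) (Y : ι → Over U), Cov U ι Y ∧ ∀ i, T.arrows (Y i).hom := by
  have hU' := hU
  obtain ⟨hU1, hU2⟩ := hU
  let W : X.ProEt := (ULiftHom.down : Cs X ⥤ X.ProEt).obj U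
  have hT' : T.functorPushforward (ULiftHom.down : Cs X ⥤ X.ProEt) ∈
      Scheme.ProEt.topology X W :=
    (Functor.mem_inducedTopology_iff_of_isCoverDense (G := (ULiftHom.down : Cs X ⥤ X.ProEt))
      (K := Scheme.ProEt.topology X) T).1 hT
  obtain ⟨𝒰, hqc, h𝒰⟩ := ProEtCov.exists_cover_of_mem hT'
  have : CompactSpace W.left := hU1
  have : QuasiSeparatedSpace W.left := hU2
  have : MorphismProperty.RespectsLeft (@WeaklyEtale) @IsOpenImmersion :=
    ⟨fun i hi f hf => by
      have : IsOpenImmersion i := hi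
      have : WeaklyEtale f := hf
      infer_instance⟩
  obtain ⟨𝒱, f, hfin, hf⟩ : ∃ (𝒱 : Scheme.AffineCover.{u + 1} @WeaklyEtale W.left)
      (f : 𝒱.cover ⟶ 𝒰), Finite 𝒱.I₀ ∧ ∀ j, IsOpenImmersion (f.h₀ j) :=
    QuasiCompactCover.exists_hom 𝒰
  have hj : ∀ j : 𝒱.I₀, WeaklyEtale (𝒱.f j) := fun j => 𝒱.map_prop j
  let Z : 𝒱.I₀ → X.ProEt := fun j => Scheme.ProEt.mk (𝒱.f j ≫ W.hom)
  let g : ∀ j, Z j ⟶ W := fun j => MorphismProperty.Over.homMk (𝒱.f j) rfl trivial
  let Yf : 𝒱.I₀ → Over U := fun j =>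
    Over.mk (Y := (ULiftHom.objUp (Z j) : Cs X))
      (ULift.up (g j) : (ULiftHom.objUp (Z j) : Cs X) ⟶ U)
  refine ⟨𝒱.I₀, Yf, ⟨hfin, hU', ?_, ?_⟩, ?_⟩
  · intro j
    exact ⟨inferInstanceAs (CompactSpace (Spec (𝒱.X j))),
      inferInstanceAs (QuasiSeparatedSpace (Spec (𝒱.X j)))⟩
  · have h1 : Sieve.ofArrows Z g ∈ Scheme.ProEt.topology X W := by
      have : Finite 𝒱.cover.I₀ := hfin
      have : ∀ i, QuasiCompact (𝒱.cover.f i) := fun i => by
        have : CompactSpace ↥(𝒱.cover.X i) := inferInstanceAs (CompactSpace (Spec (𝒱.X i)))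
        infer_instance
      have : Scheme.JointlySurjective (Scheme.precoverage (@WeaklyEtale.{u})) :=
        @Scheme.instJointlySurjectivePrecoverage @WeaklyEtale
      have : QuasiCompactCover 𝒱.cover.toPreZeroHypercover := QuasiCompactCover.of_finite
      refine ProEtCov.mem_of_cover (U := W) 𝒱.cover (fun i => ?_)
      exact Sieve.ofArrows_mk Z g i
    refine (Functor.mem_inducedTopology_iff_of_isCoverDense
      (G := (ULiftHom.down : Cs X ⥤ X.ProEt)) (K := Scheme.ProEt.topology X) _).2 ?_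
    refine (Scheme.ProEt.topology X).superset_covering ?_ h1
    rw [Sieve.ofArrows, Sieve.generate_le_iff]
    rintro _ _ ⟨j⟩
    exact ⟨(Yf j).left, (Yf j).hom, 𝟙 _, Sieve.ofArrows_mk _ _ j,
      (Category.id_comp _).symm⟩
  · intro j
    obtain ⟨V', a, b, ha, hab⟩ := h𝒰 (f.s₀ j)
    have hw : f.h₀ j ≫ (𝒰.f (f.s₀ j) ≫ W.hom) = 𝒱.f j ≫ W.hom := by
      have h1 : f.h₀ j ≫ 𝒰.f (f.s₀ j) = 𝒱.f j := f.w₀ j
      exact (Category.assoc _ _ _).symm.trans (congrArg (fun t => t ≫ W.hom) h1)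
    let c₀ : Z j ⟶ Scheme.ProEt.mk (𝒰.f (f.s₀ j) ≫ W.hom) :=
      MorphismProperty.Over.homMk (f.h₀ j) hw trivial
    have hg : g j = c₀ ≫ (MorphismProperty.Over.homMk (𝒰.f (f.s₀ j)) rfl trivial :
        Scheme.ProEt.mk (𝒰.f (f.s₀ j) ≫ W.hom) ⟶ W) := by
      apply MorphismProperty.Over.Hom.ext
      exact (f.w₀ j).symm
    have : (Yf j).hom = (ULift.up (c₀ ≫ b) : (ULiftHom.objUp (Z j) : Cs X) ⟶ V') ≫ a := by
      apply ULift.ext
      change g j = (c₀ ≫ b) ≫ a.down
      rw [hg, hab]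
      exact (Category.assoc _ _ _).symm
    rw [this]
    exact T.downward_closed ha _

/-- the terminal object of the pro-étale site -/
noncomputable def topIsTerminal (X : Scheme.{u}) : IsTerminal (ProEtS.topP X) :=
  IsTerminal.isTerminalOfObj (Scheme.ProEt.forget X) (ProEtS.topP X) Over.mkIdTerminal

/-- pro-étale cohomology of a qcqs scheme commutes with filtered colimits indexed by categories
which are small with respect to the universe of the coefficients -/
theorem preservesColimitsOfShape_HPF (X : Scheme.{u}) [CompactSpace X] [QuasiSeparatedSpace X]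
    (n : ℕ) (I : Type (u + 1)) [SmallCategory I] [IsFiltered I] :
    PreservesColimitsOfShape I (ProEtS.HPF X n) := by
  have hT : IsTerminal (ProEtS.topP X) := topIsTerminal X
  have hB : (eqv X).functor.obj (ProEtS.topP X) ∈ B X :=
    ⟨inferInstanceAs (CompactSpace X), inferInstanceAs (QuasiSeparatedSpace X)⟩
  exact Groth.Agent.Lib.Helper47.SiteTransport.preservesColimitsOfShape_functorH_of_cov.{u + 1}
      (Scheme.ProEt.topology X) (Ks X) (eqv X) (B X) Cov Cov_h1 Cov_h2 hT hB n I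

end Groth.Agent.Lib.Helper4.ProEtQc
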