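import Mathlib
import Groth.Prelude.Def_ProEtS
import Groth.Agent.Lib.Helper4.ProEtWC

/-!
# Vanishing of sections of `j_!` (S0732)

* `subsingleton_lan_of_isEmpty`: a left Kan extension vanishes where the comma category is empty
* `subsingleton_sheafify`: presheaf-level statement
* `main`
-/

set_option autoImplicit false
open CategoryTheory CategoryTheory.Limits AlgebraicGeometry Opposite
universe u
open ProEtS
namespace Groth.Agent.Lib.Helper4.ProEtShriek

open Groth.Agent.Lib.Helper4.ProEtWC Groth.Agent.Lib.Helper4.ProEtCov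

/-- sections of a left Kan extension over an object with empty comma category vanish -/
theorem subsingleton_lan_of_isEmpty {C D : Type (u + 1)} [Category.{u} C] [Category.{u} D]
    (L : C ⥤ D) (F : Cᵒᵖ ⥤ AddCommGrpCat.{u + 1}) (T : D)
    (h : IsEmpty (CostructuredArrow L.op (op T))) :
    Subsingleton ((L.op.lan.obj F).obj (op T)) := by
  have hcol := Functor.isPointwiseLeftKanExtensionOfIsLeftKanExtension (L.op.lan.obj F)
    (L.op.lanUnit.app F) (op T)
  have hinit : IsInitial ((L.op.lan.obj F).obj (op T)) :=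
    (isColimitEquivIsInitialOfIsEmpty _ _) hcol
  have hz : IsZero ((L.op.lan.obj F).obj (op T)) :=
    (isZero_zero _).of_iso (hinit.uniqueUpToIso (isZero_zero _).isInitial)
  exact AddCommGrpCat.subsingleton_of_isZero hz

variable {U X : Scheme.{u}} (j : U ⟶ X) [WeaklyEtale j]

/-- no map to `U` means the comma category is empty -/
theorem isEmpty_costructuredArrow (T : X.ProEt)
    (hT : ¬ ∃ φ : T.left ⟶ U, φ ≫ j = T.hom) :
    IsEmpty (CostructuredArrow (compP j).op (op T)) := by
  constructor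
  intro c
  apply hT
  let a : T ⟶ (compP j).obj c.left.unop := c.hom.unop
  refine ⟨a.left ≫ c.left.unop.hom, ?_⟩
  have h1 : a.left ≫ ((compP j).obj (unop c.left)).hom = T.hom := MorphismProperty.Over.w a
  exact (Category.assoc _ _ _).trans h1

omit [WeaklyEtale j] in
set_option backward.isDefEq.respectTransparency.types false in
/-- the presheaf-level statement -/
theorem subsingleton_sheafify {Z : Scheme.{u}} (i : Z ⟶ X)
    (hUZ : Disjoint (Set.range j.base) (Set.range i.base))
    (V : X.ProEt) [IsAffine V.left]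
    (hV : ∀ v : ↥V.left, ∃ z : ↥V.left, V.hom.base z ∈ Set.range i.base ∧ v ⤳ z)
    (P : X.ProEtᵒᵖ ⥤ AddCommGrpCat.{u + 1})
    (hP : ∀ T : X.ProEt, (¬ ∃ φ : T.left ⟶ U, φ ≫ j = T.hom) → Subsingleton (P.obj (op T))) :
    Subsingleton ((sheafify (Scheme.ProEt.topology X) P).obj (op V)) := by
  set K := Scheme.ProEt.topology X
  set η := toSheafify K P with hη
  let G : Sheaf K AddCommGrpCat.{u + 1} := (presheafToSheaf K AddCommGrpCat.{u + 1}).obj P
  suffices h0 : ∀ s : G.obj.obj (op V), s = 0 from ⟨fun a b => (h0 a).trans (h0 b).symm⟩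
  intro s
  have hsurj : Presheaf.IsLocallySurjective K η := inferInstance
  have hR := Presheaf.imageSieve_mem K η (U := op V) s
  obtain ⟨𝒰, hqc, H⟩ := exists_cover_of_mem hR
  obtain ⟨n, f, O, hO, hcov⟩ := QuasiCompactCover.exists_isAffineOpen_of_isCompact
    𝒰.toPreZeroHypercover (U := ⊤) isCompact_univ
  let pk : ∀ k, (↑(O k) : Scheme.{u}) ⟶ V.left := fun k => (O k).ι ≫ 𝒰.f (f k)
  have hrange : ∀ k, Set.range (pk k) = 𝒰.f (f k) '' (O k) := by
    intro k
    simp only [pk, Scheme.Hom.comp_base, TopCat.coe_comp, Set.range_comp]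
    congr 1
    exact (O k).range_ι
  -- the "bad" indices
  let B : Type := {k : Fin n // ¬ ∃ φ : (↑(O k) : Scheme.{u}) ⟶ U, φ ≫ j = pk k ≫ V.hom}
  have hwe : ∀ k, WeaklyEtale (pk k) := fun k => inferInstance
  have hjs : ∀ v : ↥V.left, ∃ b : B, v ∈ Set.range (pk b.1) := by
    intro v
    obtain ⟨z, hz, hvz⟩ := hV v
    have hzmem : z ∈ (⋃ k, 𝒰.f (f k) '' (O k)) := by
      rw [hcov]; trivial
    obtain ⟨k, hk⟩ := Set.mem_iUnion.1 hzmem
    rw [← hrange k] at hk
    obtain ⟨y, hy⟩ := hk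
    have hkB : ¬ ∃ φ : (↑(O k) : Scheme.{u}) ⟶ U, φ ≫ j = pk k ≫ V.hom := by
      rintro ⟨φ, hφ⟩
      have h1 : j (φ y) = V.hom z := by
        rw [← hy, ← Scheme.Hom.comp_apply, ← Scheme.Hom.comp_apply, hφ]
      exact (Set.disjoint_left.1 hUZ) ⟨φ y, h1⟩ hz
    have hgen : GeneralizingMap (pk k) := Flat.generalizingMap (pk k)
    obtain ⟨y', -, hy'⟩ := hgen (a := y) (b := v) (by rw [hy]; exact hvz)
    exact ⟨⟨k, hkB⟩, y', hy'⟩
  let 𝒲 : Scheme.Cover.{0} (Scheme.precoverage @WeaklyEtale) V.left :=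
    { I₀ := B
      X := fun b => ↑(O b.1)
      f := fun b => pk b.1
      mem₀ := by
        rw [Scheme.presieve₀_mem_precoverage_iff]
        exact ⟨hjs, fun b => hwe b.1⟩ }
  have haffX : ∀ b : B, IsAffine (𝒲.X b) := fun b => hO b.1
  have hqcf : ∀ b : B, QuasiCompact (𝒲.f b) := fun b => inferInstance
  have hfin : Finite 𝒲.I₀ := inferInstanceAs (Finite B)
  have hqcW : QuasiCompactCover 𝒲.toPreZeroHypercover := QuasiCompactCover.of_finite
  -- the equalizer sieve of `s` and `0` is covering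
  have hmem : Presheaf.equalizerSieve (F := G.obj) (X := op V) s 0 ∈ K V := by
    refine mem_of_cover 𝒲 ?_
    intro b
    have h1 : (Presheaf.imageSieve η s).arrows (MorphismProperty.Over.homMk (pk b.1) rfl trivial :
        Scheme.ProEt.mk (pk b.1 ≫ V.hom) ⟶ V) :=
      arrows_of_factor (pk b.1) _ (H (f b.1)) (O b.1).ι rfl
    obtain ⟨t, ht⟩ := h1
    have hsub := hP (Scheme.ProEt.mk (pk b.1 ≫ V.hom)) b.2
    have ht0 : t = 0 := Subsingleton.elim _ _
    show G.obj.map _ s = G.obj.map _ 0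
    rw [map_zero, ← ht, ht0, map_zero]
  -- separatedness
  have hF := (isSheaf_iff_isSheaf_of_type _ _).1
    ((sheafCompose K (forget AddCommGrpCat.{u + 1})).obj G).2
  have hsep := (hF _ hmem).isSeparatedFor
  exact hsep.ext (fun Y f hf => hf)


theorem main {Z : Scheme.{u}} (i : Z ⟶ X)
    (hUZ : Disjoint (Set.range j.base) (Set.range i.base)) [ProEtS.JPCont j]
    (V : X.ProEt) [IsAffine V.left]
    (hV : ∀ v : ↥V.left, ∃ z : ↥V.left, V.hom.base z ∈ Set.range i.base ∧ v ⤳ z)
    (F : ProEtS.AbP U) :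
    Subsingleton (ProEtS.sectP ((ProEtS.extZeroP j).obj F) V) := by
  let P : X.ProEtᵒᵖ ⥤ AddCommGrpCat.{u + 1} := (compP j).op.lan.obj F.obj
  have h1 : Subsingleton ((sheafify (Scheme.ProEt.topology X) P).obj (op V)) :=
    subsingleton_sheafify j i hUZ V hV P (fun T hT =>
      subsingleton_lan_of_isEmpty (compP j) F.obj T (isEmpty_costructuredArrow j T hT))
  let e := (Functor.sheafPullbackConstruction.sheafPullbackIso (compP j) AddCommGrpCat.{u + 1}
    (Scheme.ProEt.topology U) (Scheme.ProEt.topology X)).app F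
  let e' : ((ProEtS.extZeroP j).obj F).obj.obj (op V) ≅
      (sheafify (Scheme.ProEt.topology X) P).obj (op V) :=
    ((sheafToPresheaf _ _).mapIso e).app (op V)
  exact e'.addCommGroupIsoToAddEquiv.toEquiv.subsingleton

end Groth.Agent.Lib.Helper4.ProEtShriek
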