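import Mathlib.AlgebraicGeometry.Morphisms.Proper
import Mathlib.AlgebraicGeometry.Morphisms.Immersion
import Mathlib.AlgebraicGeometry.IdealSheaf.Subscheme
import Mathlib.AlgebraicGeometry.PullbackCarrier
import Groth.Prelude.Def_ClSub2

/-!
# Helper library (helper4): closed subsets proper over a base

General descent lemmas for properness along finite jointly surjective families of universally
closed morphisms, and the basic API for `ClSub.IsProperOver`.
-/

set_option autoImplicit false

universe u

open CategoryTheory CategoryTheory.Limits AlgebraicGeometry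

namespace Groth.Agent.Lib.Helper4

variable {T S : Scheme.{u}}

/-- Universal closedness descends along a finite jointly surjective family. -/
theorem universallyClosed_of_jointly_surjective {ι : Type*} [Finite ι] {Ti : ι → Scheme.{u}}
    (a : ∀ i, Ti i ⟶ T) (t : T ⟶ S) (hsurj : ∀ x : T, ∃ i, x ∈ Set.range (a i))
    (h : ∀ i, UniversallyClosed (a i ≫ t)) : UniversallyClosed t := by
  constructor
  intro T' S' i₁ i₂ t' H
  have hcl : ∀ i, IsClosedMap (pullback.fst i₁ (a i) ≫ t') := fun i =>
    UniversallyClosed.universally_isClosedMap _ _ _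
      ((IsPullback.of_hasPullback i₁ (a i)).paste_horiz H)
  intro C hC
  have : t' '' C = ⋃ i, (pullback.fst i₁ (a i) ≫ t') '' ((pullback.fst i₁ (a i)) ⁻¹' C) := by
    ext s
    simp only [Set.mem_image, Set.mem_iUnion, Set.mem_preimage]
    constructor
    · rintro ⟨x, hx, rfl⟩
      obtain ⟨i, y, hy⟩ := hsurj (i₁ x)
      obtain ⟨z, hz1, hz2⟩ := Scheme.Pullback.exists_preimage_pullback (f := i₁) (g := a i) x y hy.symm
      exact ⟨i, z, by rw [hz1]; exact hx, by simp [hz1]⟩
    · rintro ⟨i, z, hz, rfl⟩
      exact ⟨_, hz, by simp⟩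
  rw [this]
  exact isClosed_iUnion_of_finite fun i =>
    hcl i _ (hC.preimage (pullback.fst i₁ (a i)).continuous)

/-- Separatedness descends along a finite jointly surjective family of universally closed
morphisms. -/
theorem isSeparated_of_jointly_surjective {ι : Type*} [Finite ι] {Ti : ι → Scheme.{u}}
    (a : ∀ i, Ti i ⟶ T) (t : T ⟶ S) (hsurj : ∀ x : T, ∃ i, x ∈ Set.range (a i))
    (ha : ∀ i, UniversallyClosed (a i))
    (h : ∀ i, IsSeparated (a i ≫ t)) : IsSeparated t := by
  -- the comparison maps between the fibre squares
  let m : ∀ i, pullback (a i ≫ t) (a i ≫ t) ⟶ pullback t t := fun i =>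
    pullback.map (a i ≫ t) (a i ≫ t) t t (a i) (a i) (𝟙 S) (by simp) (by simp)
  have hm : ∀ i, UniversallyClosed (m i) := fun i =>
    MorphismProperty.pullbackMap (P := @UniversallyClosed) (ha i) (ha i) rfl rfl
  have hcomm : ∀ i, pullback.diagonal (a i ≫ t) ≫ m i = a i ≫ pullback.diagonal t := by
    intro i
    apply pullback.hom_ext
    · simp only [m, Category.assoc, pullback.lift_fst, pullback.map, pullback.diagonal_fst_assoc,
        pullback.diagonal_fst, Category.comp_id]
    · simp only [m, Category.assoc, pullback.lift_snd, pullback.map, pullback.diagonal_snd_assoc,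
        pullback.diagonal_snd, Category.comp_id]
  have hrange : Set.range (pullback.diagonal t) =
      ⋃ i, (m i) '' (Set.range (pullback.diagonal (a i ≫ t))) := by
    ext x
    simp only [Set.mem_range, Set.mem_iUnion, Set.mem_image]
    constructor
    · rintro ⟨y, rfl⟩
      obtain ⟨i, z, rfl⟩ := hsurj y
      refine ⟨i, _, ⟨z, rfl⟩, ?_⟩
      rw [← Scheme.Hom.comp_apply, hcomm i, Scheme.Hom.comp_apply]
    · rintro ⟨i, _, ⟨z, rfl⟩, rfl⟩
      refine ⟨a i z, ?_⟩
      rw [← Scheme.Hom.comp_apply, ← hcomm i, Scheme.Hom.comp_apply]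
  have hclosed : IsClosed (Set.range (pullback.diagonal t)) := by
    rw [hrange]
    refine isClosed_iUnion_of_finite fun i => ?_
    have := h i
    exact (m i).isClosedMap _ (pullback.diagonal (a i ≫ t)).isClosedEmbedding.isClosed_range
  exact ⟨IsClosedImmersion.of_isPreimmersion _ hclosed⟩

/-- Properness descends along a finite jointly surjective family of universally closed
morphisms, provided the target morphism is locally of finite type. -/
theorem isProper_of_jointly_surjective {ι : Type*} [Finite ι] {Ti : ι → Scheme.{u}}
    (a : ∀ i, Ti i ⟶ T) (t : T ⟶ S) [LocallyOfFiniteType t]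
    (hsurj : ∀ x : T, ∃ i, x ∈ Set.range (a i))
    (ha : ∀ i, UniversallyClosed (a i))
    (h : ∀ i, IsProper (a i ≫ t)) : IsProper t :=
  { toIsSeparated := isSeparated_of_jointly_surjective a t hsurj ha fun _ => inferInstance
    toUniversallyClosed := universallyClosed_of_jointly_surjective a t hsurj fun _ => inferInstance
    toLocallyOfFiniteType := inferInstance }

/-- Properness descends along a surjective universally closed morphism, provided the target
morphism is locally of finite type. -/
theorem isProper_of_comp_surjective {T' : Scheme.{u}} (a : T' ⟶ T) (t : T ⟶ S)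
    [LocallyOfFiniteType t] [Surjective a] [UniversallyClosed a] [IsProper (a ≫ t)] :
    IsProper t :=
  isProper_of_jointly_surjective (ι := Unit) (fun _ => a) t
    (fun x => ⟨(), a.surjective x⟩) (fun _ => inferInstance) (fun _ => inferInstance)

section ProperOver

open ClSub TopologicalSpace

variable {X : Scheme.{u}}

theorem range_vanishingIdeal_subschemeι (Z : Set X) (h : IsClosed Z) :
    Set.range (Scheme.IdealSheafData.vanishingIdeal ⟨Z, h⟩).subschemeι = Z := by
  rw [Scheme.IdealSheafData.range_subschemeι]
  simp

/-- For a closed immersion `i : T ⟶ X` with range `Z`, the closed set `Z` is proper over `S` iff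
`T` is proper over `S`. -/
theorem isProperOver_iff_of_isClosedImmersion (f : X ⟶ S) [LocallyOfFiniteType f]
    {T : Scheme.{u}} (i : T ⟶ X) [IsClosedImmersion i] (Z : Set X) (hZ : Set.range i = Z) :
    IsProperOver f Z ↔ IsProper (i ≫ f) := by
  have hcl : IsClosed Z := hZ ▸ i.isClosedEmbedding.isClosed_range
  set I := Scheme.IdealSheafData.vanishingIdeal ⟨Z, hcl⟩ with hI
  have H : i.ker ≤ I.subschemeι.ker := by
    rw [Scheme.IdealSheafData.ker_subschemeι]
    apply Scheme.IdealSheafData.le_support_iff_le_vanishingIdeal.mp
    intro z hz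
    rw [← SetLike.mem_coe, Scheme.Hom.support_ker, hZ]
    exact subset_closure hz
  let j := IsClosedImmersion.lift i I.subschemeι H
  have hj : j ≫ i = I.subschemeι := IsClosedImmersion.lift_fac _ _ _
  have : IsClosedImmersion (j ≫ i) := hj ▸ inferInstance
  have hjc : IsClosedImmersion j := IsClosedImmersion.of_comp j i
  have hjs : Surjective j := by
    constructor
    intro t
    have : i t ∈ Set.range I.subschemeι := by
      rw [range_vanishingIdeal_subschemeι, ← hZ]
      exact ⟨t, rfl⟩
    obtain ⟨z, hz⟩ := this
    refine ⟨z, i.isClosedEmbedding.injective ?_⟩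
    rw [← hz, ← hj, Scheme.Hom.comp_apply]
  constructor
  · rintro ⟨_, hp⟩
    have : IsProper (j ≫ i ≫ f) := by
      rw [← Category.assoc, hj]
      exact hp
    exact isProper_of_comp_surjective j (i ≫ f)
  · intro hp
    refine ⟨hcl, ?_⟩
    change IsProper (I.subschemeι ≫ f)
    rw [← hj, Category.assoc]
    infer_instance

end ProperOver

end Groth.Agent.Lib.Helper4
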