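import Groth.Agent.Lib.Cohomology.Helper3_EtMV5

/-!
# Relative étale Mayer–Vietoris, part 1 (helper4)

Complements to helper3's `EtMV`: `c j : j_! ℤ ⟶ ℤ` is a monomorphism, `sec` is bijective and natural,
the transition maps `m` are functorial and correspond to restriction of sections.
-/

set_option autoImplicit false
universe u
open CategoryTheory CategoryTheory.Limits Opposite AlgebraicGeometry

namespace Groth.Agent.Lib.Helper4.RelMV

open Groth.Agent.Lib.Cohomology.EtMV Groth.Agent.Lib.Cohomology.MVAbstract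

section Basic

variable {U X : Scheme.{u}} (j : U ⟶ X) [IsOpenImmersion j]

instance mono_c : Mono (c j) := by
  apply Preadditive.mono_of_cancel_zero
  intro K g hg
  obtain ⟨φ, hφ⟩ := exists_lift_of_injective j (Injective.under (P j)) (Injective.ι (P j))
  have h1 : g ≫ Injective.ι (P j) = 0 := by rw [← hφ, ← Category.assoc, hg, zero_comp]
  exact (cancel_mono (Injective.ι (P j))).1 (h1.trans zero_comp.symm)

lemma sec_bijective (G : EtCoh.Ab X) : Function.Bijective (sec j G) :=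
  (secX_bijective U _).comp ((EtShriek.extZeroAdj j).homEquiv _ _).bijective

lemma sec_comp {G G' : EtCoh.Ab X} (ψ : P j ⟶ G) (a : G ⟶ G') :
    sec j G' (ψ ≫ a) = (a.hom.app (op (Uo j))).hom (sec j G ψ) := by
  unfold sec
  rw [Adjunction.homEquiv_naturality_right]
  rfl

/-- the universal section of `j_! ℤ` over `U` -/
noncomputable def univ : (P j).obj.obj (op (Uo j)) := sec j (P j) (𝟙 _)

lemma sec_eq (G : EtCoh.Ab X) (ψ : P j ⟶ G) :
    sec j G ψ = (ψ.hom.app (op (Uo j))).hom (univ j) := by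
  have := sec_comp j (𝟙 (P j)) ψ
  rw [Category.id_comp] at this
  exact this

lemma c_univ : ((c j).hom.app (op (Uo j))).hom (univ j) =
    ((EtCoh.const X ℤ).obj.map (tU j).op).hom (one X) := by
  rw [← sec_eq]
  have := sec_c_comp j (EtCoh.const X ℤ) (𝟙 _)
  rw [Category.comp_id] at this
  rw [this]
  rfl

end Basic

section Opens

variable {X : Scheme.{u}}

/-- the transition map `j_{W'!} ℤ ⟶ j_{W!} ℤ` for opens `W' ≤ W` -/
noncomputable def mm {W' W : X.Opens} (h : W' ≤ W) : P W'.ι ⟶ P W.ι :=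
  m (X.homOfLE h) W.ι W'.ι (X.homOfLE_ι h)

lemma mm_def {W' W : X.Opens} (h : W' ≤ W) :
    mm h = m (X.homOfLE h) W.ι W'.ι (X.homOfLE_ι h) := rfl

lemma mm_comp_c {W' W : X.Opens} (h : W' ≤ W) : mm h ≫ c W.ι = c W'.ι := m_comp_c _ _ _ _

lemma mm_trans {W'' W' W : X.Opens} (h' : W'' ≤ W') (h : W' ≤ W) :
    mm h' ≫ mm h = mm (h'.trans h) := by
  rw [← cancel_mono (c W.ι), Category.assoc, mm_comp_c, mm_comp_c, mm_comp_c]

lemma mm_refl (W : X.Opens) : mm (le_refl W) = 𝟙 _ := by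
  rw [← cancel_mono (c W.ι), mm_comp_c, Category.id_comp]

/-- the inclusion `W' ⟶ W` in the small étale site -/
noncomputable def ρ {W' W : X.Opens} (h : W' ≤ W) : Uo W'.ι ⟶ Uo W.ι :=
  MorphismProperty.Over.homMk (X.homOfLE h)
    (by
      change X.homOfLE h ≫ 𝟙 _ ≫ W.ι = 𝟙 _ ≫ W'.ι
      rw [Category.id_comp, Category.id_comp, X.homOfLE_ι])

lemma ρ_comp_tU {W' W : X.Opens} (h : W' ≤ W) : ρ h ≫ tU W.ι = tU W'.ι :=
  (EtCore.topIsTerminal X).hom_ext _ _

lemma hom_Uo_ext {W : X.Opens} {Z : X.Etale} (g g' : Z ⟶ Uo W.ι) : g = g' := by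
  have : Mono (tU W.ι) := inferInstance
  exact (cancel_mono (tU W.ι)).1 ((EtCore.topIsTerminal X).hom_ext _ _)

lemma injective_app_of_mono {G G' : EtCoh.Ab X} (a : G ⟶ G') [Mono a] (V : X.Etale) :
    Function.Injective (a.hom.app (op V)).hom := by
  have h1 : Mono ((sheafToPresheaf _ _).map a) := inferInstance
  have h2 : Mono (((sheafToPresheaf _ _).map a).app (op V)) :=
    (NatTrans.mono_iff_mono_app _).1 h1 (op V)
  exact (AddCommGrpCat.mono_iff_injective _).1 h2

lemma mm_univ {W' W : X.Opens} (h : W' ≤ W) :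
    ((mm h).hom.app (op (Uo W'.ι))).hom (univ W'.ι) =
      ((P W.ι).obj.map (ρ h).op).hom (univ W.ι) := by
  apply injective_app_of_mono (c W.ι)
  have h1 : ((c W.ι).hom.app (op (Uo W'.ι))).hom (((mm h).hom.app (op (Uo W'.ι))).hom (univ W'.ι)) =
      ((c W'.ι).hom.app (op (Uo W'.ι))).hom (univ W'.ι) := by
    rw [← mm_comp_c h]
    rfl
  rw [h1, c_univ]
  have h2 : ((c W.ι).hom.app (op (Uo W'.ι))).hom (((P W.ι).obj.map (ρ h).op).hom (univ W.ι)) =
      ((EtCoh.const X ℤ).obj.map (ρ h).op).hom (((c W.ι).hom.app (op (Uo W.ι))).hom (univ W.ι)) :=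
    congrArg (fun k => k.hom (univ W.ι)) ((c W.ι).hom.naturality (ρ h).op)
  rw [h2, c_univ, ← ConcreteCategory.comp_apply, ← Functor.map_comp, ← op_comp, ρ_comp_tU]

/-- `m` corresponds to restriction of sections -/
lemma sec_mm {W' W : X.Opens} (h : W' ≤ W) (G : EtCoh.Ab X) (ψ : P W.ι ⟶ G) :
    sec W'.ι G (mm h ≫ ψ) = (G.obj.map (ρ h).op).hom (sec W.ι G ψ) := by
  rw [sec_eq, sec_eq]
  have h2 : (ψ.hom.app (op (Uo W'.ι))).hom (((P W.ι).obj.map (ρ h).op).hom (univ W.ι)) =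
      (G.obj.map (ρ h).op).hom ((ψ.hom.app (op (Uo W.ι))).hom (univ W.ι)) :=
    congrArg (fun k => k.hom (univ W.ι)) (ψ.hom.naturality (ρ h).op)
  rw [← h2, ← mm_univ]
  rfl

end Opens

end Groth.Agent.Lib.Helper4.RelMV
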