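import Groth.Agent.Lib.Helper4.RelMVBasic
import Groth.Agent.Lib.Helper4.SepClosedSite

/-!
# Relative étale Mayer–Vietoris, part 2 (helper4)

For opens `U, V ≤ W` of a scheme `X` with `W ≤ U ⊔ V`: the sheaf condition for the cover `{U, V}` of
`W` in the small étale site and the short exact sequence
`0 → j_{U∩V!} ℤ → j_{U!} ℤ ⊞ j_{V!} ℤ → j_{W!} ℤ → 0`.
-/

set_option autoImplicit false
universe u
open CategoryTheory CategoryTheory.Limits Opposite AlgebraicGeometry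

namespace Groth.Agent.Lib.Helper4.RelMV

open Groth.Agent.Lib.Cohomology.EtMV Groth.Agent.Lib.Cohomology.MVAbstract

section Cover

variable {X : Scheme.{u}} {U V W : X.Opens} (hU : U ≤ W) (hV : V ≤ W) (hW : W ≤ U ⊔ V)

/-- the structure maps of the family `{U, V}` over `W` -/
noncomputable def πr : ∀ b, Yc U V b ⟶ Uo W.ι := fun b =>
  match b with
  | true => ρ hU
  | false => ρ hV

include hW in
lemma cover_mem_rel : Sieve.generate (Presieve.ofArrows (Yc U V) (πr hU hV)) ∈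
    X.smallEtaleTopology (Uo W.ι) := by
  rw [SepClosedSite.mem_smallEtaleTopology_iff]
  intro x
  let xw : ↥W := x
  have hx : xw.1 ∈ U ⊔ V := hW xw.2
  rcases hx with hx | hx
  · refine ⟨Yc U V true, πr hU hV true, (⟨xw.1, hx⟩ : U),
      Sieve.le_generate _ _ _ (Presieve.ofArrows.mk true), ?_⟩
    exact Subtype.ext (Scheme.homOfLE_apply hU _)
  · refine ⟨Yc U V false, πr hU hV false, (⟨xw.1, hx⟩ : V),
      Sieve.le_generate _ _ _ (Presieve.ofArrows.mk false), ?_⟩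
    exact Subtype.ext (Scheme.homOfLE_apply hV _)

include hW in
lemma isSheafFor_cover_rel (G : EtCoh.Ab X) :
    (Presieve.ofArrows (Yc U V) (πr hU hV)).IsSheafFor (G.obj ⋙ forget AddCommGrpCat.{u + 1}) := by
  have h1 : Presieve.IsSheaf X.smallEtaleTopology (G.obj ⋙ forget AddCommGrpCat.{u + 1}) :=
    (isSheaf_iff_isSheaf_of_type _ _).1
      ((Presheaf.isSheaf_iff_isSheaf_forget _ G.obj (forget AddCommGrpCat.{u + 1})).1 G.property)
  exact (Presieve.isSheafFor_iff_generate _).2 (h1 _ (cover_mem_rel hU hV hW))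

include hW in
/-- separatedness for the cover `{U, V}` of `W` -/
lemma sep_rel (G : EtCoh.Ab X) (s s' : G.obj.obj (op (Uo W.ι)))
    (h1 : (G.obj.map (ρ hU).op).hom s = (G.obj.map (ρ hU).op).hom s')
    (h2 : (G.obj.map (ρ hV).op).hom s = (G.obj.map (ρ hV).op).hom s') : s = s' := by
  refine (isSheafFor_cover_rel hU hV hW G).isSeparatedFor.ext ?_
  rintro Y f ⟨b⟩
  cases b
  · exact h2
  · exact h1

include hW in
/-- gluing for the cover `{U, V}` of `W` -/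
lemma glue_rel (G : EtCoh.Ab X) (s₁ : G.obj.obj (op (Uo U.ι))) (s₂ : G.obj.obj (op (Uo V.ι)))
    (h : (G.obj.map (ρ (inf_le_left : U ⊓ V ≤ U)).op).hom s₁ =
      (G.obj.map (ρ (inf_le_right : U ⊓ V ≤ V)).op).hom s₂) :
    ∃ s : G.obj.obj (op (Uo W.ι)),
      (G.obj.map (ρ hU).op).hom s = s₁ ∧ (G.obj.map (ρ hV).op).hom s = s₂ := by
  let P := G.obj ⋙ forget AddCommGrpCat.{u + 1}
  let xx : ∀ b, P.obj (op (Yc U V b)) := fun b =>
    match b with
    | true => s₁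
    | false => s₂
  have hmix : ∀ (Z : X.Etale) (gi : Z ⟶ Uo U.ι) (gj : Z ⟶ Uo V.ι),
      (G.obj.map gi.op).hom s₁ = (G.obj.map gj.op).hom s₂ := by
    intro Z gi gj
    obtain ⟨w⟩ := exists_to_inf U V Z gi gj
    have e1 : gi = w ≫ ρ (inf_le_left : U ⊓ V ≤ U) := hom_Uo_ext _ _
    have e2 : gj = w ≫ ρ (inf_le_right : U ⊓ V ≤ V) := hom_Uo_ext _ _
    rw [e1, e2, op_comp, op_comp, Functor.map_comp, Functor.map_comp]
    change (G.obj.map w.op).hom ((G.obj.map (ρ (inf_le_left : U ⊓ V ≤ U)).op).hom s₁) =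
      (G.obj.map w.op).hom ((G.obj.map (ρ (inf_le_right : U ⊓ V ≤ V)).op).hom s₂)
    rw [h]
  have hcompat : Presieve.Arrows.Compatible P (πr hU hV) xx := by
    intro i j Z gi gj hh
    cases i <;> cases j
    · change (G.obj.map gi.op).hom s₂ = (G.obj.map gj.op).hom s₂
      rw [hom_Uo_ext gi gj]
    · exact (hmix Z gj gi).symm
    · exact hmix Z gi gj
    · change (G.obj.map gi.op).hom s₁ = (G.obj.map gj.op).hom s₁
      rw [hom_Uo_ext gi gj]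
  obtain ⟨s, hs, -⟩ := (Presieve.isSheafFor_arrows_iff _ _).1 (isSheafFor_cover_rel hU hV hW G) xx hcompat
  exact ⟨s, hs true, hs false⟩

end Cover

section Generic

universe w' v' u'

variable {C : Type u'} [Category.{v'} C] [Abelian C]

/-- generic Mayer-Vietoris complex `P₃ ⟶ P₁ ⊞ P₂ ⟶ Z` -/
noncomputable def mvComplex {P₃ P₁ P₂ Z : C} (a : P₃ ⟶ P₁) (b : P₃ ⟶ P₂) (c : P₁ ⟶ Z) (d : P₂ ⟶ Z)
    (h : a ≫ c = b ≫ d) : ShortComplex C :=
  ShortComplex.mk (biprod.lift a (-b)) (biprod.desc c d) (by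
    rw [biprod.lift_desc, Preadditive.neg_comp, h]; exact add_neg_cancel _)

theorem mvComplex_shortExact [EnoughInjectives C] {P₃ P₁ P₂ Z : C} (a : P₃ ⟶ P₁) (b : P₃ ⟶ P₂)
    (c : P₁ ⟶ Z) (d : P₂ ⟶ Z) (h : a ≫ c = b ≫ d)
    (h1 : ∀ (I : C) [Injective I] (φ : Z ⟶ I), c ≫ φ = 0 → d ≫ φ = 0 → φ = 0)
    (h2 : ∀ (I : C) [Injective I] (ψ₁ : P₁ ⟶ I) (ψ₂ : P₂ ⟶ I), a ≫ ψ₁ = b ≫ ψ₂ →
      ∃ φ : Z ⟶ I, c ≫ φ = ψ₁ ∧ d ≫ φ = ψ₂)
    (h3 : ∀ (I : C) [Injective I] (χ : P₃ ⟶ I), ∃ ψ₁ : P₁ ⟶ I, a ≫ ψ₁ = χ) :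
    (mvComplex a b c d h).ShortExact := by
  apply shortExact_of_injective_test
  · intro I _ (φ : Z ⟶ I) hφ
    change biprod.desc c d ≫ φ = 0 at hφ
    apply h1 I φ
    · have := congrArg (fun t => biprod.inl ≫ t) hφ
      rw [biprod.inl_desc_assoc, comp_zero] at this
      exact this
    · have := congrArg (fun t => biprod.inr ≫ t) hφ
      rw [biprod.inr_desc_assoc, comp_zero] at this
      exact this
  · intro I _ (ψ : P₁ ⊞ P₂ ⟶ I) hψ
    change biprod.lift a (-b) ≫ ψ = 0 at hψ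
    have hm : a ≫ biprod.inl ≫ ψ = b ≫ biprod.inr ≫ ψ := by
      rw [biprod.lift_eq, Preadditive.add_comp, Category.assoc, Category.assoc,
        Preadditive.neg_comp, ← sub_eq_add_neg, sub_eq_zero] at hψ
      exact hψ
    obtain ⟨φ, hφ1, hφ2⟩ := h2 I _ _ hm
    refine ⟨φ, ?_⟩
    change biprod.desc c d ≫ φ = ψ
    apply biprod.hom_ext'
    · rw [biprod.inl_desc_assoc, hφ1]
    · rw [biprod.inr_desc_assoc, hφ2]
  · intro I _ (χ : P₃ ⟶ I)
    obtain ⟨ψ₁, hψ₁⟩ := h3 I χ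
    refine ⟨(biprod.fst ≫ ψ₁ : P₁ ⊞ P₂ ⟶ I), ?_⟩
    change biprod.lift a (-b) ≫ biprod.fst ≫ ψ₁ = χ
    rw [biprod.lift_fst_assoc, hψ₁]

open Abelian in
/-- the Mayer-Vietoris vanishing consequence -/
theorem ext_eq_zero_of_mv [HasExt.{w'} C] {P₃ P₁ P₂ Z F : C} (a : P₃ ⟶ P₁) (b : P₃ ⟶ P₂)
    (c : P₁ ⟶ Z) (d : P₂ ⟶ Z) (h : a ≫ c = b ≫ d) (hS : (mvComplex a b c d h).ShortExact) (n : ℕ)
    (h₃ : ∀ z : Ext.{w'} P₃ F n, z = 0) (y : Ext.{w'} Z F (n + 1))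
    (h₁ : (Ext.mk₀ c).comp y (zero_add (n + 1)) = 0)
    (h₂ : (Ext.mk₀ d).comp y (zero_add (n + 1)) = 0) : y = 0 := by
  have e1 : (Ext.mk₀ biprod.inl).comp ((Ext.mk₀ (biprod.desc c d)).comp y (zero_add (n + 1)))
      (zero_add (n + 1)) = 0 := by
    rw [Ext.mk₀_comp_mk₀_assoc, biprod.inl_desc, h₁]
  have e2 : (Ext.mk₀ biprod.inr).comp ((Ext.mk₀ (biprod.desc c d)).comp y (zero_add (n + 1)))
      (zero_add (n + 1)) = 0 := by
    rw [Ext.mk₀_comp_mk₀_assoc, biprod.inr_desc, h₂]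
  have h0 : (Ext.mk₀ (biprod.desc c d)).comp y (zero_add (n + 1)) = 0 := by
    rw [ext_biprod_decomp ((Ext.mk₀ (biprod.desc c d)).comp y (zero_add (n + 1))), e1, e2,
      Ext.comp_zero, Ext.comp_zero, add_zero]
  have h0' : (Ext.mk₀ (mvComplex a b c d h).g).comp y (zero_add (n + 1)) = 0 := h0
  obtain ⟨y₃, hy₃⟩ := Ext.contravariant_sequence_exact₃ hS F y h0' (add_comm 1 n)
  have hz : y₃ = 0 := h₃ y₃
  rw [← hy₃, hz, Ext.comp_zero]
  rfl

end Generic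

section SES

variable {X : Scheme.{u}} {U V W : X.Opens} (hU : U ≤ W) (hV : V ≤ W)

lemma mm_inf_comm : mm (inf_le_left : U ⊓ V ≤ U) ≫ mm hU =
    mm (inf_le_right : U ⊓ V ≤ V) ≫ mm hV := by
  rw [mm_trans, mm_trans]

variable (hW : W ≤ U ⊔ V)

include hW in
theorem ses_shortExact_rel :
    (mvComplex (mm (inf_le_left : U ⊓ V ≤ U)) (mm (inf_le_right : U ⊓ V ≤ V)) (mm hU) (mm hV)
      (mm_inf_comm hU hV)).ShortExact := by
  apply mvComplex_shortExact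
  · intro I _ φ h1 h2
    apply sec_injective W.ι I
    apply sep_rel hU hV hW I
    · rw [← sec_mm, ← sec_mm, h1, comp_zero]
    · rw [← sec_mm, ← sec_mm, h2, comp_zero]
  · intro I _ ψ₁ ψ₂ hm
    obtain ⟨s, hs1, hs2⟩ := glue_rel hU hV hW I (sec U.ι I ψ₁) (sec V.ι I ψ₂)
      (by rw [← sec_mm, ← sec_mm, hm])
    obtain ⟨φ, rfl⟩ := (sec_bijective W.ι I).2 s
    refine ⟨φ, ?_, ?_⟩
    · apply sec_injective U.ι I
      rw [sec_mm]
      exact hs1
    · apply sec_injective V.ι I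
      rw [sec_mm]
      exact hs2
  · intro I _ χ
    obtain ⟨φ, hφ⟩ := exists_lift_of_injective (U ⊓ V).ι I χ
    refine ⟨c U.ι ≫ φ, ?_⟩
    rw [← Category.assoc, mm_comp_c, hφ]

end SES

end Groth.Agent.Lib.Helper4.RelMV
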