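import Groth.Prelude.Def_Hensel
import Mathlib.FieldTheory.IsSepClosed
import Mathlib.RingTheory.LocalRing.ResidueField.Basic

/-!
# Functoriality of strict henselizations (helper4)

From the universal property in `Hensel.IsStrictHenselization`:
* `exists_tau` : residue field embeddings exist into any separably closed residue field;
* `exists_map` / `map_unique` : the universal property, with locality of the induced map;
* `exists_factor` : a local map `RZ → RX` of strict henselizations over `C → A → B` factors through
  any strict henselization `RY` of `A`.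
-/

set_option autoImplicit false
set_option linter.style.haveILetI false
universe u

namespace Groth.Agent.Lib.Helper4.SHensFunct

open IsLocalRing Polynomial

section One

variable {A : Type u} [CommRing A] [IsLocalRing A]
  (RA : Type u) [CommRing RA] [IsLocalRing RA] [Algebra A RA] [IsLocalHom (algebraMap A RA)]
  [hRA : Hensel.IsStrictHenselization A RA]

omit hRA in
lemma algebraMap_residueField_eq :
    algebraMap (ResidueField A) (ResidueField RA) = ResidueField.map (algebraMap A RA) := by
  refine RingHom.ext fun x => ?_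
  obtain ⟨x, rfl⟩ := residue_surjective x
  rfl

include hRA in
lemma isSepClosed_residueField : IsSepClosed (ResidueField RA) :=
  (Hensel.IsStrictHenselization.isSepClosure (R := A) (S := RA)).sep_closed

include hRA in
lemma isSeparable_residueField : Algebra.IsSeparable (ResidueField A) (ResidueField RA) :=
  (Hensel.IsStrictHenselization.isSepClosure (R := A) (S := RA)).separable

lemma exists_tau {T : Type u} [CommRing T] [IsLocalRing T] (hT : IsSepClosed (ResidueField T))
    (f : A →+* T) [IsLocalHom f] :
    ∃ τ : ResidueField RA →+* ResidueField T,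
      τ.comp (ResidueField.map (algebraMap A RA)) = ResidueField.map f := by
  letI : Algebra (ResidueField A) (ResidueField T) := (ResidueField.map f).toAlgebra
  haveI := isSeparable_residueField (A := A) RA
  haveI := hT
  let l : ResidueField RA →ₐ[ResidueField A] ResidueField T := IsSepClosed.lift
  refine ⟨l.toRingHom, ?_⟩
  rw [← algebraMap_residueField_eq]
  exact l.comp_algebraMap

lemma isLocalHom_of_residue {T : Type u} [CommRing T] [IsLocalRing T] (g : RA →+* T)
    (τ : ResidueField RA →+* ResidueField T)
    (hr : ∀ x, residue T (g x) = τ (residue RA x)) : IsLocalHom g := by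
  constructor
  intro x hx
  have h1 : residue T (g x) ≠ 0 := by
    rw [Ne, residue_eq_zero_iff, mem_maximalIdeal, mem_nonunits_iff, not_not]
    exact hx
  rw [hr] at h1
  have h2 : residue RA x ≠ 0 := fun h0 => h1 (by rw [h0, map_zero])
  rw [Ne, residue_eq_zero_iff, mem_maximalIdeal, mem_nonunits_iff, not_not] at h2
  exact h2

lemma exists_map {T : Type u} [CommRing T] [hT : HenselianLocalRing T] (f : A →+* T)
    [IsLocalHom f] (τ : ResidueField RA →+* ResidueField T)
    (hτ : τ.comp (ResidueField.map (algebraMap A RA)) = ResidueField.map f) :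
    ∃ g : RA →+* T, IsLocalHom g ∧ g.comp (algebraMap A RA) = f ∧
      ∀ x, residue T (g x) = τ (residue RA x) := by
  obtain ⟨g, ⟨h1, h2⟩, -⟩ := Hensel.IsStrictHenselization.universal (R := A) (S := RA) T f τ hτ
  exact ⟨g, isLocalHom_of_residue RA g τ h2, h1, h2⟩

lemma map_unique {T : Type u} [CommRing T] [hT : HenselianLocalRing T] (f : A →+* T)
    [IsLocalHom f] (τ : ResidueField RA →+* ResidueField T)
    (hτ : τ.comp (ResidueField.map (algebraMap A RA)) = ResidueField.map f)
    (g₁ g₂ : RA →+* T) (h₁ : g₁.comp (algebraMap A RA) = f) (h₂ : g₂.comp (algebraMap A RA) = f)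
    (r₁ : ∀ x, residue T (g₁ x) = τ (residue RA x))
    (r₂ : ∀ x, residue T (g₂ x) = τ (residue RA x)) : g₁ = g₂ :=
  (Hensel.IsStrictHenselization.universal (R := A) (S := RA) T f τ hτ).unique ⟨h₁, r₁⟩ ⟨h₂, r₂⟩

end One

section Factor

variable {C A B : Type u} [CommRing C] [IsLocalRing C] [CommRing A] [IsLocalRing A]
  [CommRing B] [IsLocalRing B] (ψ : C →+* A) [IsLocalHom ψ] (φ : A →+* B) [IsLocalHom φ]
  (RZ : Type u) [CommRing RZ] [IsLocalRing RZ] [Algebra C RZ] [IsLocalHom (algebraMap C RZ)]
  [Hensel.IsStrictHenselization C RZ]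
  (RY : Type u) [CommRing RY] [IsLocalRing RY] [Algebra A RY] [IsLocalHom (algebraMap A RY)]
  [Hensel.IsStrictHenselization A RY]
  (RX : Type u) [CommRing RX] [IsLocalRing RX] [Algebra B RX] [IsLocalHom (algebraMap B RX)]
  [Hensel.IsStrictHenselization B RX]

/-- A local map of strict henselizations over `A → B` exists. -/
lemma exists_over :
    ∃ β : RY →+* RX, IsLocalHom β ∧ β.comp (algebraMap A RY) = (algebraMap B RX).comp φ := by
  haveI : HenselianLocalRing RX := Hensel.IsStrictHenselization.henselian (R := B) (S := RX)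
  obtain ⟨τ, hτ⟩ := exists_tau (A := A) RY (isSepClosed_residueField (A := B) RX)
    ((algebraMap B RX).comp φ)
  obtain ⟨β, h1, h2, -⟩ := exists_map (A := A) RY ((algebraMap B RX).comp φ) τ hτ
  exact ⟨β, h1, h2⟩

lemma exists_factor (ρ : RZ →+* RX) [IsLocalHom ρ]
    (hρ : ρ.comp (algebraMap C RZ) = (algebraMap B RX).comp (φ.comp ψ)) :
    ∃ (α : RZ →+* RY) (β : RY →+* RX), IsLocalHom α ∧ IsLocalHom β ∧
      α.comp (algebraMap C RZ) = (algebraMap A RY).comp ψ ∧
      β.comp (algebraMap A RY) = (algebraMap B RX).comp φ ∧ β.comp α = ρ := by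
  haveI hX : HenselianLocalRing RX := Hensel.IsStrictHenselization.henselian (R := B) (S := RX)
  haveI hY : HenselianLocalRing RY := Hensel.IsStrictHenselization.henselian (R := A) (S := RY)
  -- β
  obtain ⟨τβ, hτβ⟩ := exists_tau (A := A) RY (isSepClosed_residueField (A := B) RX)
    ((algebraMap B RX).comp φ)
  obtain ⟨β, hβloc, hβ, hβr⟩ := exists_map (A := A) RY ((algebraMap B RX).comp φ) τβ hτβ
  -- τρ
  let τρ : ResidueField RZ →+* ResidueField RX := ResidueField.map ρ
  have hτρ : τρ.comp (ResidueField.map (algebraMap C RZ)) =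
      ResidueField.map ((algebraMap B RX).comp (φ.comp ψ)) := by
    refine RingHom.ext fun c => ?_
    obtain ⟨c, rfl⟩ := residue_surjective c
    exact congrArg (fun t => residue RX (t c)) hρ
  -- range inclusion
  have hrange : ∀ z : ResidueField RZ, τρ z ∈ τβ.range := by
    intro z
    haveI := isSeparable_residueField (A := C) RZ
    have hsep : IsSeparable (ResidueField C) z := Algebra.IsSeparable.isSeparable _ z
    set p := minpoly (ResidueField C) z with hp
    have hp0 : p ≠ 0 := minpoly.ne_zero hsep.isIntegral
    let i : ResidueField C →+* ResidueField RY :=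
      (ResidueField.map (algebraMap A RY)).comp (ResidueField.map ψ)
    haveI : IsSepClosed (ResidueField RY) := isSepClosed_residueField (A := A) RY
    have hsplit : (p.map i).Splits := IsSepClosed.splits_codomain p hsep
    have hq0 : p.map i ≠ 0 := (Polynomial.map_ne_zero_iff i.injective).mpr hp0
    refine hsplit.mem_range_of_isRoot hq0 (i := τβ) (x := τρ z) ?_
    rw [Polynomial.map_map]
    have hcomp : τβ.comp i = τρ.comp (ResidueField.map (algebraMap C RZ)) := by
      rw [hτρ]
      change (τβ.comp (ResidueField.map (algebraMap A RY))).comp (ResidueField.map ψ) = _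
      rw [hτβ, ← ResidueField.map_comp]
      rfl
    rw [hcomp, ← Polynomial.map_map, IsRoot.def, Polynomial.eval_map, ← algebraMap_residueField_eq,
      Polynomial.eval₂_hom]
    rw [Polynomial.eval_map, ← Polynomial.aeval_def, minpoly.aeval, map_zero]
  -- τα
  let e : ResidueField RY ≃+* τβ.range := RingEquiv.ofBijective τβ.rangeRestrict
    ⟨(RingHom.injective τβ.rangeRestrict), τβ.rangeRestrict_surjective⟩
  let τα : ResidueField RZ →+* ResidueField RY :=
    (e.symm : τβ.range →+* ResidueField RY).comp (τρ.codRestrict τβ.range hrange)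
  have hτβα : ∀ z, τβ (τα z) = τρ z := by
    intro z
    have h1 : (e (τα z) : ResidueField RX) = τρ z := by
      simp only [τα, RingHom.comp_apply, RingHom.coe_coe, RingEquiv.apply_symm_apply]
      rfl
    exact h1
  have hτα : τα.comp (ResidueField.map (algebraMap C RZ)) =
      ResidueField.map ((algebraMap A RY).comp ψ) := by
    refine RingHom.ext fun c => τβ.injective ?_
    obtain ⟨c, rfl⟩ := residue_surjective c
    rw [RingHom.comp_apply, hτβα]
    have e1 : τρ (ResidueField.map (algebraMap C RZ) (residue C c)) =
        residue RX (ρ (algebraMap C RZ c)) := rfl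
    have e2 : ResidueField.map ((algebraMap A RY).comp ψ) (residue C c) =
        residue RY (algebraMap A RY (ψ c)) := rfl
    rw [e1, e2, ← hβr]
    have e3 := congrArg (fun t => t c) hρ
    have e4 := congrArg (fun t => t (ψ c)) hβ
    simp only [RingHom.comp_apply] at e3 e4
    rw [e3, e4]
  obtain ⟨α, hαloc, hα, hαr⟩ := exists_map (A := C) RZ ((algebraMap A RY).comp ψ) τα hτα
  refine ⟨α, β, hαloc, hβloc, hα, hβ, ?_⟩
  refine map_unique (A := C) RZ ((algebraMap B RX).comp (φ.comp ψ)) τρ hτρ _ _ ?_ hρ ?_ ?_
  · rw [RingHom.comp_assoc, hα, ← RingHom.comp_assoc, hβ]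
    rfl
  · intro x
    rw [RingHom.comp_apply, hβr, hαr, hτβα]
  · intro x
    rfl

end Factor

end Groth.Agent.Lib.Helper4.SHensFunct
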