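import Mathlib
import Groth.Prelude.Def_BigSite
import Groth.Agent.Lib.Helper4.SepClosedSite

set_option autoImplicit false
open CategoryTheory CategoryTheory.Limits AlgebraicGeometry Opposite
universe u

namespace Groth.Agent.Lib.Helper4.SepClosedPropB

variable (k : Type u) [Field k] [IsSepClosed k]

/-- a section of an étale morphism is an open immersion -/
theorem isOpenImmersion_of_section {S P : Scheme.{u}} (π : P ⟶ S) [Etale π] (τ : S ⟶ P)
    (hτ : τ ≫ π = 𝟙 S) : IsOpenImmersion τ := by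
  have hmono : Mono τ := mono_of_mono_fac hτ
  have het : Etale τ := by
    let A : S.Etale := Scheme.Etale.mk (𝟙 S)
    let B : S.Etale := Scheme.Etale.mk π
    let φ : A ⟶ B := MorphismProperty.Over.homMk τ hτ trivial
    exact inferInstanceAs (Etale φ.left)
  exact IsOpenImmersion.of_flat_of_mono τ

/-- condition (B) holds for any morphism from the spectrum of a separably closed field -/
theorem propB {Y : Scheme.{u}} (h : Spec (CommRingCat.of k) ⟶ Y) : BigSite.PropB h := by
  intro V v _ ι U g hg hcov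
  refine ⟨PUnit, fun _ => V, fun _ => 𝟙 V, fun _ => inferInstance, fun y => ⟨⟨⟩, y, rfl⟩,
    fun _ => ?_⟩
  let m : pullback h (𝟙 V ≫ v) ⟶ pullback h v :=
    pullback.map h (𝟙 V ≫ v) h v (𝟙 _) (𝟙 V) (𝟙 Y) (by simp) (by simp)
  have hm : IsIso m := inferInstance
  have hmfst : m ≫ pullback.fst h v = pullback.fst h (𝟙 V ≫ v) := by
    have := pullback.lift_fst (pullback.fst h (𝟙 V ≫ v) ≫ 𝟙 _) (pullback.snd h (𝟙 V ≫ v) ≫ 𝟙 V)
      (by rw [Category.comp_id, Category.comp_id, pullback.condition, Category.id_comp] :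
        (pullback.fst h (𝟙 V ≫ v) ≫ 𝟙 _) ≫ h = (pullback.snd h (𝟙 V ≫ v) ≫ 𝟙 V) ≫ v)
    exact this.trans (Category.comp_id _)
  have hch : ∀ a : ↥(pullback h (𝟙 V ≫ v)), ∃ (i : ι) (σ : Spec (CommRingCat.of k) ⟶ U i),
      σ ≫ g i ≫ pullback.fst h v = 𝟙 _ ∧ m a ∈ Set.range (σ ≫ g i) := by
    intro a
    obtain ⟨i, u, hu⟩ := hcov (m a)
    have := hg i
    obtain ⟨σ, hσ, ⟨pt, hpt⟩⟩ :=
      Groth.Agent.Lib.Helper4.SepClosedSite.exists_section k (g i ≫ pullback.fst h v) u
    refine ⟨i, σ, hσ, ⟨pt, ?_⟩⟩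
    rw [Scheme.Hom.comp_base, TopCat.comp_app]
    erw [hpt]
    exact hu
  choose i σ hσ hmem using hch
  let τ : ∀ a : ↥(pullback h (𝟙 V ≫ v)), Spec (CommRingCat.of k) ⟶ pullback h (𝟙 V ≫ v) :=
    fun a => σ a ≫ g (i a) ≫ inv m
  have hτm : ∀ a, τ a ≫ m = σ a ≫ g (i a) := by
    intro a
    simp [τ]
  have hτ : ∀ a, τ a ≫ pullback.fst h (𝟙 V ≫ v) = 𝟙 _ := by
    intro a
    rw [← hmfst, ← Category.assoc, hτm, Category.assoc]
    exact hσ a
  have hoi : ∀ a, IsOpenImmersion (τ a) := fun a =>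
    isOpenImmersion_of_section (pullback.fst h (𝟙 V ≫ v)) (τ a) (hτ a)
  have hrange : ∀ a, Set.range (τ a) = {a} := by
    intro a
    obtain ⟨pt, hpt⟩ := hmem a
    have h1 : τ a pt = a := by
      have h2 : m (τ a pt) = m a := by
        have := congrArg (fun k' : Spec (CommRingCat.of k) ⟶ pullback h v => k'.base pt) (hτm a)
        exact this.trans hpt
      have hinj : Function.Injective m.base :=
        (ConcreteCategory.bijective_of_isIso m.base).1
      exact hinj h2
    ext x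
    constructor
    · rintro ⟨y, rfl⟩
      rw [Subsingleton.elim y pt, h1]
      rfl
    · rintro rfl
      exact ⟨pt, h1⟩
  refine ⟨↥(pullback h (𝟙 V ≫ v)), fun a => (τ a).opensRange, ?_, ?_, ?_⟩
  · intro a b hab
    rw [disjoint_iff]
    ext x
    simp only [TopologicalSpace.Opens.coe_inf, Scheme.Hom.coe_opensRange, hrange,
      TopologicalSpace.Opens.coe_bot, Set.mem_inter_iff, Set.mem_singleton_iff,
      Set.mem_empty_iff_false, iff_false, not_and]
    rintro rfl rfl
    exact hab rfl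
  · rw [eq_top_iff]
    intro x _
    rw [TopologicalSpace.Opens.mem_iSup]
    refine ⟨x, ?_⟩
    change x ∈ Set.range (τ x)
    rw [hrange]
    rfl
  · intro a
    refine ⟨i a, (τ a).isoOpensRange.inv ≫ σ a, ?_⟩
    rw [Category.assoc, ← hτm, ← Category.assoc, Scheme.Hom.isoOpensRange_inv_comp]

end Groth.Agent.Lib.Helper4.SepClosedPropB
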