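import Mathlib
import Groth.Agent.S0073
import Groth.Agent.S0101
import Groth.Agent.Lib.Helper4.SepClosedPropB
import Groth.Agent.Lib.Helper70.PushExact
import Groth.Agent.Lib.Helper47.ExtAdjShift
import Groth.Agent.Lib.Helper86.OlivierE

set_option autoImplicit false
open CategoryTheory CategoryTheory.Limits AlgebraicGeometry Opposite CategoryTheory.Abelian
universe u

namespace Groth.Agent.Lib.Helper4.SepClosedCoh

variable (k : Type u) [Field k] [IsSepClosed k]

/-- étale cohomology of the spectrum of a separably closed field vanishes in positive degrees -/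
theorem subsingleton_H_spec (F : EtCoh.Ab (Spec (CommRingCat.of k))) (n : ℕ) (hn : 1 ≤ n) :
    Subsingleton (EtCoh.H (Spec (CommRingCat.of k)) F n) := by
  have : IsSepClosed (IsLocalRing.ResidueField k) :=
    Groth.Agent.Lib.Helper86.Olivier.isSepClosed_of_ringEquiv (RingEquiv.ofBijective (IsLocalRing.residue k)
      ⟨(IsLocalRing.residue k).injective, Ideal.Quotient.mk_surjective⟩)
  exact Groth.Agent.S0073.result k F n hn

/-- the direct image from the spectrum of a separably closed field is exact -/
theorem preservesFiniteColimits_push {Y : Scheme.{u}} (g : Spec (CommRingCat.of k) ⟶ Y) :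
    PreservesFiniteColimits (EtCoh.push g) :=
  Groth.Agent.Lib.Helper70.PushExact.preservesFiniteColimits_push g
    (Groth.Agent.Lib.Helper4.SepClosedPropB.propB k g)

/-- cohomology of a direct image from the spectrum of a separably closed field vanishes in
positive degrees -/
theorem subsingleton_H_push {Y : Scheme.{u}} (g : Spec (CommRingCat.of k) ⟶ Y)
    (N : EtCoh.Ab (Spec (CommRingCat.of k))) (n : ℕ) (hn : 1 ≤ n) :
    Subsingleton (EtCoh.H Y ((EtCoh.push g).obj N) n) := by
  have cg := preservesFiniteColimits_push k g
  have lg : PreservesFiniteLimits (EtCoh.push g) := by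
    have : (EtCoh.push g).IsRightAdjoint := (EtCoh.pullPushAdj g).isRightAdjoint
    infer_instance
  have hpull : PreservesFiniteLimits (EtCoh.pull g) := Groth.Agent.S0101.result g
  have hacyc : Groth.Agent.Lib.Helper47.ExtAdjShift.Acyc (EtCoh.push g) N := fun q =>
    Groth.Agent.Lib.Helper70.PushExact.isZero_rightDerived_succ_of_exact (EtCoh.push g) N q
  have hb := Groth.Agent.Lib.Helper47.ExtAdjShift.Φ_bijective (EtCoh.pullPushAdj g)
    (EtCore.pullConst g ℤ).inv n N hacyc
  have hs := subsingleton_H_spec k N n hn
  exact hb.1.subsingleton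

end Groth.Agent.Lib.Helper4.SepClosedCoh
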