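import Mathlib
import Groth.Agent.Lib.Helper4.HenselCoreflection

/-!
# Helper library (helper4): étale algebras over strictly henselian local rings
-/

set_option autoImplicit false

universe u

open TensorProduct

namespace Groth.Agent.Lib.Helper4

/-- maps from an étale algebra to a field extension of a separably closed field `k` (over the
base) factor through `k` -/
theorem exists_factor_of_isSepClosed {R : Type u} [CommRing R] (k K : Type u) [Field k] [Field K]
    [Algebra R k] [Algebra R K] [IsSepClosed k] (ψ : k →ₐ[R] K) (E : Type u) [CommRing E]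
    [Algebra R E] [Algebra.Etale R E] (d : E →ₐ[R] K) : ∃ c : E →ₐ[R] k, ψ.comp c = d := by
  let _ : Algebra k K := ψ.toRingHom.toAlgebra
  have : IsScalarTower R k K := IsScalarTower.of_algebraMap_eq (fun r => (ψ.commutes r).symm)
  let db : k ⊗[R] E →ₐ[k] K :=
    Algebra.TensorProduct.lift (Algebra.ofId k K) d (fun _ _ => Commute.all _ _)
  let p : Ideal (k ⊗[R] E) := RingHom.ker db.toRingHom
  have hp : p.IsPrime := RingHom.ker_isPrime db.toRingHom
  have : Module.Finite k (k ⊗[R] E) := Algebra.FormallyUnramified.finite_of_free k (k ⊗[R] E)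
  have : IsArtinianRing (k ⊗[R] E) := isArtinian_of_tower k inferInstance
  have hmax : p.IsMaximal := IsArtinianRing.isMaximal_of_isPrime p
  let _ : Field ((k ⊗[R] E) ⧸ p) := Ideal.Quotient.field p
  have hsep : Algebra.IsSeparable k ((k ⊗[R] E) ⧸ p) := inferInstance
  have hbij : Function.Bijective (algebraMap k ((k ⊗[R] E) ⧸ p)) :=
    IsSepClosed.algebraMap_bijective k ((k ⊗[R] E) ⧸ p)
  let ε : k ≃ₐ[k] ((k ⊗[R] E) ⧸ p) := AlgEquiv.ofBijective (Algebra.ofId k _) hbij
  let cb : k ⊗[R] E →ₐ[k] k := ε.symm.toAlgHom.comp (Ideal.Quotient.mkₐ k p)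
  refine ⟨(cb.restrictScalars R).comp Algebra.TensorProduct.includeRight, ?_⟩
  ext x
  change ψ (cb (1 ⊗ₜ x)) = d x
  have h1 : algebraMap k ((k ⊗[R] E) ⧸ p) (cb (1 ⊗ₜ x)) = Ideal.Quotient.mk p (1 ⊗ₜ x) := by
    change ε (ε.symm (Ideal.Quotient.mk p (1 ⊗ₜ x))) = _
    exact ε.apply_symm_apply _
  have h2 : (1 : k) ⊗ₜ[R] x - algebraMap k (k ⊗[R] E) (cb (1 ⊗ₜ x)) ∈ p := by
    rw [← Ideal.Quotient.eq]
    exact h1.symm
  have h3 : db ((1 : k) ⊗ₜ[R] x - algebraMap k (k ⊗[R] E) (cb (1 ⊗ₜ x))) = 0 := h2
  rw [map_sub, sub_eq_zero, db.commutes] at h3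
  have h4 : db ((1 : k) ⊗ₜ[R] x) = d x := by simp [db]
  rw [← h4, h3]
  rfl

open IsLocalRing in
/-- a finite unramified local algebra over a local ring with separably closed residue field is a
quotient -/
theorem surjective_of_finite_unramified_local (R : Type u) [CommRing R] [IsLocalRing R]
    [IsSepClosed (ResidueField R)] (A : Type u) [CommRing A] [IsLocalRing A] [Algebra R A]
    [Module.Finite R A] [Algebra.FormallyUnramified R A] :
    Function.Surjective (algebraMap R A) := by
  have hne : (maximalIdeal R).map (algebraMap R A) ≠ ⊤ := by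
    intro htop
    have h1 : (⊤ : Submodule R A) ≤ maximalIdeal R • (⊤ : Submodule R A) := by
      rw [Ideal.smul_top_eq_map, htop]
      exact le_refl _
    have h2 := Submodule.eq_bot_of_le_smul_of_le_jacobson_bot (maximalIdeal R) ⊤
      Module.Finite.fg_top h1 (IsLocalRing.maximalIdeal_le_jacobson _)
    have h3 : (1 : A) ∈ (⊤ : Submodule R A) := Submodule.mem_top
    rw [h2] at h3
    exact one_ne_zero ((Submodule.mem_bot R).mp h3)
  have hloc : IsLocalHom (algebraMap R A) :=
    ((local_hom_TFAE (algebraMap R A)).out 0 2 rfl rfl).mpr (le_maximalIdeal hne)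
  have hmap : (maximalIdeal R).map (algebraMap R A) = maximalIdeal A :=
    Algebra.FormallyUnramified.map_maximalIdeal
  have hres : Function.Surjective (algebraMap (ResidueField R) (ResidueField A)) :=
    IsSepClosed.algebraMap_surjective _ _
  have hN : (⊤ : Submodule R A) ≤ LinearMap.range (Algebra.linearMap R A) := by
    apply Submodule.le_of_le_smul_of_le_jacobson_bot (I := maximalIdeal R) Module.Finite.fg_top
      (IsLocalRing.maximalIdeal_le_jacobson _)
    intro a _
    obtain ⟨x, hx⟩ := hres (residue A a)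
    obtain ⟨r, rfl⟩ := residue_surjective x
    have h1 : residue A (a - algebraMap R A r) = 0 := by
      rw [map_sub, ← hx, sub_eq_zero]
      rfl
    rw [residue_eq_zero_iff, ← hmap] at h1
    have h2 : a - algebraMap R A r ∈ maximalIdeal R • (⊤ : Submodule R A) := by
      rw [Ideal.smul_top_eq_map]
      exact h1
    have h3 : a = algebraMap R A r + (a - algebraMap R A r) := by ring
    rw [h3]
    exact Submodule.add_mem_sup ⟨r, rfl⟩ h2
  intro a
  obtain ⟨r, hr⟩ := hN (Submodule.mem_top (x := a))
  exact ⟨r, hr⟩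

section Solutions

open MvPolynomial

variable {R : Type u} [CommRing R] {n : ℕ} (P : Fin n → MvPolynomial (Fin n) R)

/-- the algebra presented by the system `P` -/
abbrev SysAlg : Type u := MvPolynomial (Fin n) R ⧸ Ideal.span (Set.range P)

/-- a solution in `T` gives an algebra map -/
noncomputable def homOfSol {T : Type*} [CommRing T] [Algebra R T] (t : Fin n → T)
    (ht : ∀ i, aeval t (P i) = 0) : SysAlg P →ₐ[R] T :=
  Ideal.Quotient.liftₐ _ (aeval t) (by
    intro a ha
    induction ha using Submodule.span_induction with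
    | mem x hx =>
      obtain ⟨i, rfl⟩ := hx
      exact ht i
    | zero => simp
    | add x y _ _ hx hy => rw [map_add, hx, hy, add_zero]
    | smul a x _ hx => rw [smul_eq_mul, map_mul, hx, mul_zero])

theorem homOfSol_X {T : Type*} [CommRing T] [Algebra R T] (t : Fin n → T)
    (ht : ∀ i, aeval t (P i) = 0) (i : Fin n) :
    homOfSol P t ht (Ideal.Quotient.mk _ (X i)) = t i := by
  change aeval t (X i) = t i
  rw [aeval_X]

theorem aeval_of_hom {T : Type*} [CommRing T] [Algebra R T] (a : SysAlg P →ₐ[R] T) (i : Fin n) :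
    aeval (fun j => a (Ideal.Quotient.mk _ (X j))) (P i) = 0 := by
  have h1 : aeval (fun j => a (Ideal.Quotient.mk (Ideal.span (Set.range P)) (X j))) =
      (a.comp (Ideal.Quotient.mkₐ R (Ideal.span (Set.range P)))) := by
    apply MvPolynomial.algHom_ext
    intro j
    rw [aeval_X]
    rfl
  rw [h1]
  change a (Ideal.Quotient.mk _ (P i)) = 0
  have : Ideal.Quotient.mk (Ideal.span (Set.range P)) (P i) = 0 :=
    Ideal.Quotient.eq_zero_iff_mem.mpr (Ideal.subset_span ⟨i, rfl⟩)
  rw [this, map_zero]

theorem sysAlg_hom_ext {T : Type*} [CommRing T] [Algebra R T] {a b : SysAlg P →ₐ[R] T}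
    (h : ∀ i, a (Ideal.Quotient.mk _ (X i)) = b (Ideal.Quotient.mk _ (X i))) : a = b := by
  apply Ideal.Quotient.algHom_ext
  apply MvPolynomial.algHom_ext
  intro i
  exact h i

end Solutions

end Groth.Agent.Lib.Helper4
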