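import Mathlib
import Groth.Prelude.Def_Hensel
import Groth.Prelude.Def_Hens2
import Groth.Agent.Lib.Helper4.HenselCoreflection
import Groth.Agent.Lib.Helper4.StrictHensel
import Groth.Agent.Lib.Helper37.Hz17
import Groth.Agent.Lib.Helper37.Hz11

/-!
# Helper library (helper4): specialization maps between strict localizations

Ring level: lifting of maps out of ind-étale algebras to henselian local rings along the residue map
(`hom_ext`, `exists_lift`), points of faithfully flat ind-étale algebras in separably closed fields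
(`exists_point`).  Scheme level: `exists_iff_specializes`, `spec_hom_ext`, `exists_spec_lift`.
-/

set_option autoImplicit false
open CategoryTheory CategoryTheory.Limits AlgebraicGeometry Opposite TensorProduct
universe u

namespace Groth.Agent.Lib.Helper4.StrictLoc

open Groth.Agent.Lib.Helper4

section Ring

variable {A R R' : Type u} [CommRing A] [CommRing R] [Algebra A R] [CommRing R']
  [HenselianLocalRing R'] (φ : A →+* R')

/-- uniqueness of lifts along the residue map -/
theorem hom_ext (ha : HasFactorization (etaleClass A) R) (γ₁ γ₂ : R →+* R')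
    (h₁ : γ₁.comp (algebraMap A R) = φ) (h₂ : γ₂.comp (algebraMap A R) = φ)
    (h : (IsLocalRing.residue R').comp γ₁ = (IsLocalRing.residue R').comp γ₂) : γ₁ = γ₂ := by
  letI := φ.toAlgebra
  letI : Algebra A (IsLocalRing.ResidueField R') := ((IsLocalRing.residue R').comp φ).toAlgebra
  let u : R' →ₐ[A] IsLocalRing.ResidueField R' :=
    { IsLocalRing.residue R' with commutes' := fun _ => rfl }
  have hku : RingHom.ker u.toRingHom = IsLocalRing.maximalIdeal R' :=
    IsLocalRing.ker_residue (R := R')
  let f₁ : R →ₐ[A] R' := { γ₁ with commutes' := fun r => RingHom.congr_fun h₁ r }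
  let f₂ : R →ₐ[A] R' := { γ₂ with commutes' := fun r => RingHom.congr_fun h₂ r }
  have := hom_henselian_ext u hku R ha f₁ f₂ (by
    ext r
    exact RingHom.congr_fun h r)
  ext r
  exact congrArg (fun m => m r) this

/-- existence of lifts along the residue map -/
theorem exists_lift (ha : HasFactorization (etaleClass A) R)
    (η : R →+* IsLocalRing.ResidueField R')
    (hη : η.comp (algebraMap A R) = (IsLocalRing.residue R').comp φ) :
    ∃ γ : R →+* R', γ.comp (algebraMap A R) = φ ∧ (IsLocalRing.residue R').comp γ = η := by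
  letI := φ.toAlgebra
  letI : Algebra A (IsLocalRing.ResidueField R') := ((IsLocalRing.residue R').comp φ).toAlgebra
  let u : R' →ₐ[A] IsLocalRing.ResidueField R' :=
    { IsLocalRing.residue R' with commutes' := fun _ => rfl }
  have hu : Function.Surjective u := IsLocalRing.residue_surjective
  have hku : RingHom.ker u.toRingHom = IsLocalRing.maximalIdeal R' :=
    IsLocalRing.ker_residue (R := R')
  let σ : R →ₐ[A] IsLocalRing.ResidueField R' :=
    { η with commutes' := fun r => RingHom.congr_fun hη r }
  obtain ⟨τ, hτ⟩ := exists_lift_of_hasFactorization σ ha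
  refine ⟨((ρS u hu hku).comp τ).toRingHom, ?_, ?_⟩
  · ext r
    exact ((ρS u hu hku).comp τ).commutes r
  · ext r
    have h1 := congrArg (fun m => m (τ r)) (u_ρS u hu hku)
    have h2 := congrArg (fun m => m r) hτ
    exact h1.trans h2

omit [HenselianLocalRing R'] in
/-- points of faithfully flat ind-étale algebras with values in separably closed fields -/
theorem exists_point [Module.FaithfullyFlat A R] (ha : HasFactorization (etaleClass A) R)
    (k : Type u) [Field k] [IsSepClosed k] (χ : A →+* k) :
    ∃ η : R →+* k, η.comp (algebraMap A R) = χ := by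
  letI := χ.toAlgebra
  haveI : Nontrivial (R ⊗[A] k) := Module.FaithfullyFlat.lTensor_nontrivial A R k
  obtain ⟨m, hm⟩ := Ideal.exists_maximal (R ⊗[A] k)
  letI : Field ((R ⊗[A] k) ⧸ m) := Ideal.Quotient.field m
  let d : R →ₐ[A] (R ⊗[A] k) ⧸ m :=
    (Ideal.Quotient.mkₐ A m).comp Algebra.TensorProduct.includeLeft
  let ψ : k →ₐ[A] (R ⊗[A] k) ⧸ m :=
    (Ideal.Quotient.mkₐ A m).comp Algebra.TensorProduct.includeRight
  have hrange : ∀ r, d r ∈ ψ.range := by
    intro r
    obtain ⟨E, _, _, hE, α, β, hαβ⟩ := ha (MvPolynomial (Fin 1) A)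
      (MvPolynomial.aeval (fun _ => r))
    have hE' : Algebra.Etale A E := hE
    have hd : β (α (MvPolynomial.X 0)) = r := by
      have h1 : β (α (MvPolynomial.X 0)) =
          MvPolynomial.aeval (fun _ => r) (MvPolynomial.X (0 : Fin 1)) :=
        congrArg (fun m => m (MvPolynomial.X 0)) hαβ
      rwa [MvPolynomial.aeval_X] at h1
    obtain ⟨c, hc⟩ := exists_factor_of_isSepClosed k ((R ⊗[A] k) ⧸ m) ψ E (d.comp β)
    refine ⟨c (α (MvPolynomial.X 0)), ?_⟩
    have := congrArg (fun m => m (α (MvPolynomial.X 0))) hc
    simp only [AlgHom.comp_apply] at this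
    rw [← hd]
    exact this
  have hinj : Function.Injective ψ := ψ.toRingHom.injective
  let η : R →ₐ[A] k := (AlgEquiv.ofInjective ψ hinj).symm.toAlgHom.comp
    (d.codRestrict ψ.range hrange)
  refine ⟨η.toRingHom, ?_⟩
  ext x
  exact η.commutes x

end Ring

section SH

variable (A : Type u) [CommRing A] [IsLocalRing A]
variable (R : Type u) [CommRing R] [IsLocalRing R] [Algebra A R] [IsLocalHom (algebraMap A R)]
  [hR : Hensel.IsStrictHenselization A R]

include hR in
theorem hasFactorization_of_isStrictHenselization : HasFactorization (etaleClass A) R := by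
  obtain ⟨e⟩ := Groth.Agent.Lib.Helper37.Hz.nonempty_algEquiv_SHens A R
  exact (isIndEtale_iff_hasFactorization _).mp
    (Groth.Agent.Lib.Helper37.Hz.isIndEtale_of_algEquiv e)

end SH


section Sch

variable (X : Scheme.{u}) (x x' : X)
  (R : Type u) [CommRing R] [Algebra (X.presheaf.stalk x) R]

/-- a point of a scheme over `Spec R` lying over `x'` forces `x' ⤳ x` -/
theorem specializes_of_comp {Z : Scheme.{u}} (m : Z ⟶ Spec (CommRingCat.of R)) (z : Z)
    (hz : (m ≫ Hens2.specOf X x R).base z = x') : x' ⤳ x := by
  have h1 : x' ∈ Set.range (X.fromSpecStalk x).base := by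
    refine ⟨(m ≫ Spec.map (CommRingCat.ofHom (algebraMap (X.presheaf.stalk x) R))).base z, ?_⟩
    rw [← hz]
    rfl
  rw [Scheme.range_fromSpecStalk] at h1
  exact h1

theorem specOf_closedPoint (R' : Type u) [CommRing R'] [IsLocalRing R']
    [Algebra (X.presheaf.stalk x') R'] [IsLocalHom (algebraMap (X.presheaf.stalk x') R')] :
    (Hens2.specOf X x' R').base (IsLocalRing.closedPoint R') = x' := by
  have h1 : (Spec.map (CommRingCat.ofHom (algebraMap (X.presheaf.stalk x') R'))).base
      (IsLocalRing.closedPoint R') = IsLocalRing.closedPoint (X.presheaf.stalk x') :=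
    Spec_closedPoint (R := X.presheaf.stalk x') (S := CommRingCat.of R')
      (f := CommRingCat.ofHom (algebraMap (X.presheaf.stalk x') R'))
  change (X.fromSpecStalk x').base ((Spec.map _).base _) = x'
  rw [h1]
  exact Scheme.fromSpecStalk_closedPoint

/-- the ring-level criterion for a morphism to be over `X` -/
theorem comp_eq_iff (h : x' ⤳ x) (T : Type u) [CommRing T] (γ : R →+* T)
    (β : X.presheaf.stalk x' →+* T) :
    Spec.map (CommRingCat.ofHom γ) ≫ Hens2.specOf X x R =
        Spec.map (CommRingCat.ofHom β) ≫ X.fromSpecStalk x' ↔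
      γ.comp (algebraMap (X.presheaf.stalk x) R) =
        β.comp (X.presheaf.stalkSpecializes h).hom := by
  have key : Spec.map (CommRingCat.ofHom β) ≫ X.fromSpecStalk x' =
      Spec.map (CommRingCat.ofHom (β.comp (X.presheaf.stalkSpecializes h).hom)) ≫
        X.fromSpecStalk x := by
    rw [← Scheme.SpecMap_stalkSpecializes_fromSpecStalk h, ← Category.assoc, ← Spec.map_comp]
    rfl
  rw [key]
  dsimp only [Hens2.specOf]
  rw [← Category.assoc, ← Spec.map_comp, cancel_mono, Spec.map_inj]
  constructor
  · intro e
    have := congrArg CommRingCat.Hom.hom e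
    exact this
  · intro e
    ext r
    exact RingHom.congr_fun e r

end Sch

section Main

variable (X : Scheme.{u}) (x x' : X)
    (R : Type u) [CommRing R] [IsLocalRing R] [Algebra (X.presheaf.stalk x) R]
    [IsLocalHom (algebraMap (X.presheaf.stalk x) R)]
    [hR : Hensel.IsStrictHenselization (X.presheaf.stalk x) R]
    (R' : Type u) [CommRing R'] [IsLocalRing R'] [Algebra (X.presheaf.stalk x') R']
    [IsLocalHom (algebraMap (X.presheaf.stalk x') R')]
    [hR' : Hensel.IsStrictHenselization (X.presheaf.stalk x') R']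

include hR hR' in
theorem exists_iff_specializes :
    (∃ g : Spec (CommRingCat.of R') ⟶ Spec (CommRingCat.of R),
      g ≫ Hens2.specOf X x R = Hens2.specOf X x' R') ↔ x' ⤳ x := by
  constructor
  · rintro ⟨g, hg⟩
    refine specializes_of_comp X x x' R g (IsLocalRing.closedPoint R') ?_
    rw [hg]
    exact specOf_closedPoint X x' R'
  · intro h
    haveI : HenselianLocalRing R' := hR'.henselian
    haveI : IsSepClosed (IsLocalRing.ResidueField R') := hR'.isSepClosure.sep_closed
    haveI : Module.FaithfullyFlat (X.presheaf.stalk x) R :=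
      Groth.Agent.Lib.Helper37.Hz.faithfullyFlat_of_isStrictHenselization _ R
    have ha := hasFactorization_of_isStrictHenselization (X.presheaf.stalk x) R
    let φ : X.presheaf.stalk x →+* R' :=
      (algebraMap (X.presheaf.stalk x') R').comp (X.presheaf.stalkSpecializes h).hom
    obtain ⟨η, hη⟩ := exists_point ha (IsLocalRing.ResidueField R')
      ((IsLocalRing.residue R').comp φ)
    obtain ⟨γ, hγ, -⟩ := exists_lift φ ha η hη
    refine ⟨Spec.map (CommRingCat.ofHom γ), ?_⟩
    exact (comp_eq_iff X x x' R h R' γ (algebraMap (X.presheaf.stalk x') R')).2 hγ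

include hR hR' in
theorem spec_hom_ext (g₁ g₂ : Spec (CommRingCat.of R') ⟶ Spec (CommRingCat.of R))
    (h₁ : g₁ ≫ Hens2.specOf X x R = Hens2.specOf X x' R')
    (h₂ : g₂ ≫ Hens2.specOf X x R = Hens2.specOf X x' R')
    (hres : Spec.map (CommRingCat.ofHom (IsLocalRing.residue R')) ≫ g₁ =
        Spec.map (CommRingCat.ofHom (IsLocalRing.residue R')) ≫ g₂) : g₁ = g₂ := by
  have h : x' ⤳ x := (exists_iff_specializes X x x' R R').1 ⟨g₁, h₁⟩
  haveI : HenselianLocalRing R' := hR'.henselian
  have ha := hasFactorization_of_isStrictHenselization (X.presheaf.stalk x) R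
  obtain ⟨c₁, rfl⟩ := Spec.map_surjective g₁
  obtain ⟨c₂, rfl⟩ := Spec.map_surjective g₂
  have e₁ := (comp_eq_iff X x x' R h R' c₁.hom (algebraMap (X.presheaf.stalk x') R')).1 h₁
  have e₂ := (comp_eq_iff X x x' R h R' c₂.hom (algebraMap (X.presheaf.stalk x') R')).1 h₂
  have e₃ : (IsLocalRing.residue R').comp c₁.hom = (IsLocalRing.residue R').comp c₂.hom := by
    rw [← Spec.map_comp, ← Spec.map_comp, Spec.map_inj] at hres
    exact congrArg CommRingCat.Hom.hom hres
  have := hom_ext _ ha c₁.hom c₂.hom e₁ e₂ e₃
  congr 1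
  ext r
  exact RingHom.congr_fun this r

include hR hR' in
theorem exists_spec_lift
    (hh : Spec (CommRingCat.of (IsLocalRing.ResidueField R')) ⟶ Spec (CommRingCat.of R))
    (hhh : hh ≫ Hens2.specOf X x R = Hens2.geomPt X x' R') :
    ∃ g : Spec (CommRingCat.of R') ⟶ Spec (CommRingCat.of R),
      g ≫ Hens2.specOf X x R = Hens2.specOf X x' R' ∧
      Spec.map (CommRingCat.ofHom (IsLocalRing.residue R')) ≫ g = hh := by
  haveI : HenselianLocalRing R' := hR'.henselian
  have ha := hasFactorization_of_isStrictHenselization (X.presheaf.stalk x) R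
  have h : x' ⤳ x := by
    refine specializes_of_comp X x x' R hh
      (IsLocalRing.closedPoint (IsLocalRing.ResidueField R')) ?_
    rw [hhh]
    haveI : IsLocalHom (CommRingCat.Hom.hom (CommRingCat.ofHom (IsLocalRing.residue R'))) :=
      inferInstanceAs (IsLocalHom (IsLocalRing.residue R'))
    have h1 : (Spec.map (CommRingCat.ofHom (IsLocalRing.residue R'))).base
        (IsLocalRing.closedPoint (IsLocalRing.ResidueField R')) = IsLocalRing.closedPoint R' :=
      Spec_closedPoint (R := CommRingCat.of R') (S := CommRingCat.of (IsLocalRing.ResidueField R'))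
        (f := CommRingCat.ofHom (IsLocalRing.residue R'))
    change (Hens2.specOf X x' R').base ((Spec.map _).base _) = x'
    rw [h1]
    exact specOf_closedPoint X x' R'
  obtain ⟨e, rfl⟩ := Spec.map_surjective hh
  let φ : X.presheaf.stalk x →+* R' :=
    (algebraMap (X.presheaf.stalk x') R').comp (X.presheaf.stalkSpecializes h).hom
  have hη : e.hom.comp (algebraMap (X.presheaf.stalk x) R) = (IsLocalRing.residue R').comp φ := by
    refine (comp_eq_iff X x x' R h (IsLocalRing.ResidueField R') e.hom
      ((IsLocalRing.residue R').comp (algebraMap (X.presheaf.stalk x') R'))).1 ?_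
    rw [show Spec.map (CommRingCat.ofHom e.hom) = Spec.map e from rfl, hhh]
    dsimp only [Hens2.geomPt, Hens2.specOf]
    rw [← Category.assoc, ← Spec.map_comp]
    rfl
  obtain ⟨γ, hγ, hγ'⟩ := exists_lift φ ha e.hom hη
  refine ⟨Spec.map (CommRingCat.ofHom γ), ?_, ?_⟩
  · exact (comp_eq_iff X x x' R h R' γ (algebraMap (X.presheaf.stalk x') R')).2 hγ
  · rw [← Spec.map_comp]
    congr 1
    ext r
    exact RingHom.congr_fun hγ' r

end Main

end Groth.Agent.Lib.Helper4.StrictLoc
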