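import Groth.Prelude.Def_EtAcyc
import Groth.Agent.Lib.Helper4.SHensFunct
import Groth.Agent.Lib.Helper37.Hz10

/-!
# Two-out-of-three for properties on strict localizations (helper4)
-/

set_option autoImplicit false
set_option linter.style.haveILetI false
universe u

open CategoryTheory AlgebraicGeometry

namespace Groth.Agent.Lib.Helper4.StrictLocComp

open Groth.Agent.Lib.Helper4.SHensFunct

variable {X Y Z : Scheme.{u}}

theorem onStrictLocalizations_comp_iff
    (P : ∀ ⦃X' Y' : Scheme.{u}⦄, (X' ⟶ Y') → Prop)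
    (hP : ∀ {X Y Z : Scheme.{u}} (a : X ⟶ Y) (b : Y ⟶ Z), P a → (P b ↔ P (a ≫ b)))
    (g : X ⟶ Y) (h : Y ⟶ Z) (hg : Function.Surjective g.base)
    (hgP : EtAcyc.OnStrictLocalizations g P) :
    EtAcyc.OnStrictLocalizations h P ↔ EtAcyc.OnStrictLocalizations (g ≫ h) P := by
  constructor
  · intro Hh x RZ RX _ _ _ _ iCZ iCZl iCZs _ _ _ iZX iZXl hcompat
    -- a strict henselization of the middle local ring
    obtain ⟨RY, _, _, _, _, _⟩ :=
      Groth.Agent.Lib.Helper37.Hz.exists_isStrictHenselization (Y.presheaf.stalk (g.base x))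
    letI iC : Algebra (Z.presheaf.stalk (h.base (g.base x))) RZ := iCZ
    haveI iCl : IsLocalHom (algebraMap (Z.presheaf.stalk (h.base (g.base x))) RZ) := iCZl
    haveI iCs : Hensel.IsStrictHenselization (Z.presheaf.stalk (h.base (g.base x))) RZ := iCZs
    have hρ : (algebraMap RZ RX).comp (algebraMap (Z.presheaf.stalk (h.base (g.base x))) RZ) =
        (algebraMap (X.presheaf.stalk x) RX).comp
          ((g.stalkMap x).hom.comp (h.stalkMap (g.base x)).hom) := by
      refine hcompat.trans ?_
      rw [Scheme.Hom.stalkMap_comp]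
      rfl
    obtain ⟨α, β, hαl, hβl, hα, hβ, hβα⟩ := exists_factor (h.stalkMap (g.base x)).hom
      (g.stalkMap x).hom RZ RY RX (algebraMap RZ RX) hρ
    letI : Algebra RZ RY := α.toAlgebra
    letI : Algebra RY RX := β.toAlgebra
    haveI : IsLocalHom (algebraMap RZ RY) := hαl
    haveI : IsLocalHom (algebraMap RY RX) := hβl
    have Pb : P (Spec.map (CommRingCat.ofHom (algebraMap RZ RY))) :=
      Hh (g.base x) RZ RY hα
    have Pa : P (Spec.map (CommRingCat.ofHom (algebraMap RY RX))) :=
      hgP x RY RX hβ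
    have hcomp : Spec.map (CommRingCat.ofHom (algebraMap RY RX)) ≫
        Spec.map (CommRingCat.ofHom (algebraMap RZ RY)) =
        Spec.map (CommRingCat.ofHom (algebraMap RZ RX)) := by
      rw [← Spec.map_comp, ← CommRingCat.ofHom_comp]
      exact congrArg (fun t => Spec.map (CommRingCat.ofHom t)) hβα
    rw [← hcomp]
    exact (hP _ _ Pa).mp Pb
  · intro Hgh y
    obtain ⟨x, rfl⟩ := hg y
    intro RZ RY _ _ _ _ iCZ iCZl iCZs _ _ _ iZY iZYl hcompat
    obtain ⟨RX, _, _, _, _, _⟩ :=
      Groth.Agent.Lib.Helper37.Hz.exists_isStrictHenselization (X.presheaf.stalk x)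
    obtain ⟨β, hβl, hβ⟩ := exists_over (g.stalkMap x).hom RY RX
    letI : Algebra RY RX := β.toAlgebra
    haveI : IsLocalHom (algebraMap RY RX) := hβl
    letI : Algebra RZ RX := (β.comp (algebraMap RZ RY)).toAlgebra
    haveI : IsLocalHom (algebraMap RZ RX) :=
      inferInstanceAs (IsLocalHom (β.comp (algebraMap RZ RY)))
    have Pa : P (Spec.map (CommRingCat.ofHom (algebraMap RY RX))) :=
      hgP x RY RX hβ
    letI iC : Algebra (Z.presheaf.stalk ((g ≫ h).base x)) RZ := iCZ
    haveI iCl : IsLocalHom (algebraMap (Z.presheaf.stalk ((g ≫ h).base x)) RZ) := iCZl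
    haveI iCs : Hensel.IsStrictHenselization (Z.presheaf.stalk ((g ≫ h).base x)) RZ := iCZs
    have hcompat' : (algebraMap RZ RX).comp (algebraMap (Z.presheaf.stalk ((g ≫ h).base x)) RZ) =
        (algebraMap (X.presheaf.stalk x) RX).comp ((g ≫ h).stalkMap x).hom := by
      rw [Scheme.Hom.stalkMap_comp]
      change (β.comp (algebraMap RZ RY)).comp
        (algebraMap (Z.presheaf.stalk (h.base (g.base x))) RZ) =
        (algebraMap (X.presheaf.stalk x) RX).comp
          ((g.stalkMap x).hom.comp (h.stalkMap (g.base x)).hom)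
      rw [RingHom.comp_assoc, hcompat, ← RingHom.comp_assoc, ← RingHom.comp_assoc]
      exact congrArg (fun t => t.comp (h.stalkMap (g.base x)).hom) hβ
    have Pab : P (Spec.map (CommRingCat.ofHom (algebraMap RZ RX))) :=
      Hgh x RZ RX hcompat'
    have hcomp : Spec.map (CommRingCat.ofHom (algebraMap RY RX)) ≫
        Spec.map (CommRingCat.ofHom (algebraMap RZ RY)) =
        Spec.map (CommRingCat.ofHom (algebraMap RZ RX)) := by
      rw [← Spec.map_comp, ← CommRingCat.ofHom_comp]
    rw [← hcomp] at Pab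
    exact (hP _ _ Pa).mpr Pab

end Groth.Agent.Lib.Helper4.StrictLocComp
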