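import Mathlib
import Groth.Prelude
import Groth.Agent.Lib.Helper4.OlivierMain

/-!
# Weakly étale ring maps induce algebraic residue field extensions (helper4)
-/

set_option autoImplicit false
set_option linter.style.haveILetI false
universe u
open TensorProduct Polynomial

namespace Groth.Agent.Lib.Helper4.WEAlgRes

theorem isAlgebraic_quotient_of_weaklyEtale {A E : Type u} [CommRing A] [CommRing E] [Algebra A E]
    [Algebra.WeaklyEtale A E] (q : Ideal E) [q.IsPrime] :
    Algebra.IsAlgebraic (A ⧸ q.comap (algebraMap A E)) (E ⧸ q) := by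
  set p : Ideal A := q.comap (algebraMap A E) with hp
  letI := (Ideal.ResidueField.map p q (algebraMap A E) rfl).toAlgebra
  have h1 : Algebra.IsAlgebraic p.ResidueField q.ResidueField :=
    Groth.Agent.Lib.Helper4.Olivier.isAlgebraic_residueFieldMap p q rfl
  have h2 : Algebra.IsAlgebraic (A ⧸ p) p.ResidueField := inferInstance
  let _ := ((algebraMap (E ⧸ q) q.ResidueField).comp (algebraMap (A ⧸ p) (E ⧸ q))).toAlgebra
  have : IsScalarTower (A ⧸ p) (E ⧸ q) q.ResidueField := .of_algebraMap_eq' rfl
  have : IsScalarTower (A ⧸ p) p.ResidueField q.ResidueField := by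
    refine .of_algebraMap_eq fun x ↦ ?_
    obtain ⟨x, rfl⟩ := Ideal.Quotient.mk_surjective x
    have h5 : (algebraMap (A ⧸ p) p.ResidueField) (Ideal.Quotient.mk p x) =
        algebraMap A p.ResidueField x := rfl
    have h6 : (algebraMap (A ⧸ p) (E ⧸ q)) (Ideal.Quotient.mk p x) =
        Ideal.Quotient.mk q (algebraMap A E x) := rfl
    have h7 : (algebraMap (E ⧸ q) q.ResidueField) (Ideal.Quotient.mk q (algebraMap A E x)) =
        algebraMap E q.ResidueField (algebraMap A E x) := rfl
    change algebraMap (E ⧸ q) q.ResidueField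
        (algebraMap (A ⧸ p) (E ⧸ q) (Ideal.Quotient.mk p x)) =
      algebraMap p.ResidueField q.ResidueField
        (algebraMap (A ⧸ p) p.ResidueField (Ideal.Quotient.mk p x))
    rw [h5, h6, h7, RingHom.algebraMap_toAlgebra, Ideal.ResidueField.map_algebraMap]
  have h3 : Algebra.IsAlgebraic (A ⧸ p) q.ResidueField := .trans _ p.ResidueField _
  exact .tower_bot_of_injective (Ideal.injective_algebraMap_quotient_residueField q)

theorem algebraicResidueExtensions_of_weaklyEtale (A B : Type u) [CommRing A] [CommRing B]
    [Algebra A B] [Algebra.WeaklyEtale A B] : ProEtW.AlgebraicResidueExtensions A B :=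
  fun q _ => isAlgebraic_quotient_of_weaklyEtale q

end Groth.Agent.Lib.Helper4.WEAlgRes
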