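import Mathlib

/-!
# Helper library (helper4): binary products of weakly étale algebras

* `flat_prod`: `M × N` is flat if `M` and `N` are.
* `ringHomFlat_prod`: a ring map into a product is flat if both components are.
* `weaklyEtale_prod`: `C₁ × C₂` is weakly étale over `A` if `C₁` and `C₂` are.
* `exists_algHom_of_prod_pi`: an `A`-algebra map `E × ∏ A_{f i} → T` with all `f i` in the Jacobson
  radical of `T` restricts to `E`.
-/

set_option autoImplicit false
set_option linter.unusedSectionVars false
set_option linter.style.haveILetI false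
set_option linter.unusedSimpArgs false

universe u

open TensorProduct

namespace Groth.Agent.Lib.Helper4.WEProd

section Flat

variable (R : Type*) [CommRing R] (M N : Type*) [AddCommGroup M] [AddCommGroup N] [Module R M]
  [Module R N]

theorem flat_prod [Module.Flat R M] [Module.Flat R N] : Module.Flat R (M × N) := by
  rw [Module.Flat.iff_rTensor_injective']
  intro I
  have hM := (Module.Flat.iff_rTensor_injective' (R := R) (M := M)).1 inferInstance I
  have hN := (Module.Flat.iff_rTensor_injective' (R := R) (M := N)).1 inferInstance I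
  let eI := TensorProduct.prodRight R R I M N
  let eR := TensorProduct.prodRight R R R M N
  have hcomm : eR.toLinearMap ∘ₗ LinearMap.rTensor (M × N) I.subtype =
      (LinearMap.prodMap (LinearMap.rTensor M I.subtype) (LinearMap.rTensor N I.subtype)) ∘ₗ
        eI.toLinearMap := by
    apply TensorProduct.ext'
    intro i mn
    simp [eR, eI]
  intro x y hxy
  apply eI.injective
  have h1 := congrArg eR hxy
  have h2 := LinearMap.congr_fun hcomm x
  have h3 := LinearMap.congr_fun hcomm y
  simp only [LinearMap.coe_comp, LinearEquiv.coe_coe, Function.comp_apply] at h2 h3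
  rw [h2, h3] at h1
  have hinj : Function.Injective (LinearMap.prodMap (LinearMap.rTensor M I.subtype)
      (LinearMap.rTensor N I.subtype)) := by
    rw [LinearMap.coe_prodMap]
    exact Prod.map_injective.2 ⟨hM, hN⟩
  exact hinj h1

end Flat

section RingHom

variable {T S₁ S₂ : Type*} [CommRing T] [CommRing S₁] [CommRing S₂]

theorem ringHomFlat_prod {f : T →+* S₁} {g : T →+* S₂} (hf : f.Flat) (hg : g.Flat) :
    (f.prod g).Flat := by
  letI := f.toAlgebra
  letI := g.toAlgebra
  have h1 : Module.Flat T S₁ := hf
  have h2 : Module.Flat T S₂ := hg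
  have h3 : Module.Flat T (S₁ × S₂) := flat_prod T S₁ S₂
  exact h3

theorem flat_fst (C₁ C₂ : Type*) [CommRing C₁] [CommRing C₂] : (RingHom.fst C₁ C₂).Flat := by
  letI := (RingHom.fst C₁ C₂).toAlgebra
  change Module.Flat (C₁ × C₂) C₁
  let i : C₁ →ₗ[C₁ × C₂] (C₁ × C₂) :=
    { toFun := fun x => (x, 0)
      map_add' := fun x y => by ext <;> simp
      map_smul' := fun c x => by
        ext
        · simp [Algebra.smul_def, RingHom.algebraMap_toAlgebra]
        · simp }
  let r : (C₁ × C₂) →ₗ[C₁ × C₂] C₁ :=
    { toFun := fun x => x.1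
      map_add' := fun x y => rfl
      map_smul' := fun c x => by
        simp [Algebra.smul_def, RingHom.algebraMap_toAlgebra] }
  exact Module.Flat.of_retract i r (by ext x; rfl)

theorem flat_snd (C₁ C₂ : Type*) [CommRing C₁] [CommRing C₂] : (RingHom.snd C₁ C₂).Flat := by
  letI := (RingHom.snd C₁ C₂).toAlgebra
  change Module.Flat (C₁ × C₂) C₂
  let i : C₂ →ₗ[C₁ × C₂] (C₁ × C₂) :=
    { toFun := fun x => (0, x)
      map_add' := fun x y => by ext <;> simp
      map_smul' := fun c x => by
        ext
        · simp
        · simp [Algebra.smul_def, RingHom.algebraMap_toAlgebra] }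
  let r : (C₁ × C₂) →ₗ[C₁ × C₂] C₂ :=
    { toFun := fun x => x.2
      map_add' := fun x y => rfl
      map_smul' := fun c x => by
        simp [Algebra.smul_def, RingHom.algebraMap_toAlgebra] }
  exact Module.Flat.of_retract i r (by ext x; rfl)

end RingHom

section WE

variable (A C₁ C₂ : Type u) [CommRing A] [CommRing C₁] [CommRing C₂] [Algebra A C₁] [Algebra A C₂]

theorem weaklyEtale_prod [Algebra.WeaklyEtale A C₁] [Algebra.WeaklyEtale A C₂] :
    Algebra.WeaklyEtale A (C₁ × C₂) where
  flat := flat_prod A C₁ C₂
  flat_lmul' := by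
    have h1 : ((Algebra.TensorProduct.lmul' A (S := C₁)).comp
        (Algebra.TensorProduct.map (AlgHom.fst A C₁ C₂) (AlgHom.fst A C₁ C₂))).toRingHom.Flat := by
      refine RingHom.Flat.comp ?_ (Algebra.WeaklyEtale.flat_lmul' A C₁)
      exact RingHom.Flat.tensorProductMap (flat_fst C₁ C₂) (flat_fst C₁ C₂)
    have h2 : ((Algebra.TensorProduct.lmul' A (S := C₂)).comp
        (Algebra.TensorProduct.map (AlgHom.snd A C₁ C₂) (AlgHom.snd A C₁ C₂))).toRingHom.Flat := by
      refine RingHom.Flat.comp ?_ (Algebra.WeaklyEtale.flat_lmul' A C₂)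
      exact RingHom.Flat.tensorProductMap (flat_snd C₁ C₂) (flat_snd C₁ C₂)
    have heq : (Algebra.TensorProduct.lmul' A (S := C₁ × C₂)).toRingHom =
        (((Algebra.TensorProduct.lmul' A (S := C₁)).comp
          (Algebra.TensorProduct.map (AlgHom.fst A C₁ C₂) (AlgHom.fst A C₁ C₂))).toRingHom).prod
        (((Algebra.TensorProduct.lmul' A (S := C₂)).comp
          (Algebra.TensorProduct.map (AlgHom.snd A C₁ C₂) (AlgHom.snd A C₁ C₂))).toRingHom) := by
      have : Algebra.TensorProduct.lmul' A (S := C₁ × C₂) =
          AlgHom.prod ((Algebra.TensorProduct.lmul' A (S := C₁)).comp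
            (Algebra.TensorProduct.map (AlgHom.fst A C₁ C₂) (AlgHom.fst A C₁ C₂)))
          ((Algebra.TensorProduct.lmul' A (S := C₂)).comp
            (Algebra.TensorProduct.map (AlgHom.snd A C₁ C₂) (AlgHom.snd A C₁ C₂))) := by
        ext <;> simp
      rw [this]
      rfl
    change (Algebra.TensorProduct.lmul' A (S := C₁ × C₂)).toRingHom.Flat
    rw [heq]
    exact ringHomFlat_prod h1 h2

end WE

section Retract

variable {A E T : Type u} [CommRing A] [CommRing E] [CommRing T] [Algebra A E] [Algebra A T]

/-- An `A`-algebra map `E × ∏ A_{f i} → T` with all `f i` in the Jacobson radical of `T` restricts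
to an `A`-algebra map `E → T`. -/
theorem exists_algHom_of_prod_pi {ι : Type u} [Fintype ι] [DecidableEq ι] (f : ι → A)
    (hf : ∀ i, algebraMap A T (f i) ∈ Ideal.jacobson (⊥ : Ideal T))
    (r : (E × (∀ i, Localization.Away (f i))) →ₐ[A] T) : Nonempty (E →ₐ[A] T) := by
  set e : T := r (0, 1) with he
  have hidem : e * e = e := by
    rw [he, ← map_mul]; congr 1; ext <;> simp
  have hsum : ((0 : E), (1 : ∀ i, Localization.Away (f i))) =
      ∑ i, ((0 : E), (Pi.single i 1 : ∀ i, Localization.Away (f i))) := by
    ext
    · simp [Prod.fst_sum]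
    · rename_i j
      simp [Prod.snd_sum, Finset.sum_apply, Pi.single_apply]
  have hmem : e ∈ Ideal.jacobson (⊥ : Ideal T) := by
    rw [he, hsum, map_sum]
    refine Ideal.sum_mem _ fun i _ => ?_
    have h1 : ((0 : E), (Pi.single i 1 : ∀ i, Localization.Away (f i))) =
        (0, Pi.single i (IsLocalization.Away.invSelf (f i))) * (f i • (0, Pi.single i 1)) := by
      ext
      · simp
      · rename_i j
        by_cases hj : j = i
        · subst hj
          simp only [Prod.snd_mul, Prod.smul_snd, Pi.mul_apply, Pi.smul_apply, Pi.single_eq_same,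
            Algebra.smul_def, mul_one]
          rw [mul_comm]
          exact (IsLocalization.Away.mul_invSelf (f j)).symm
        · simp [Pi.single_apply, hj]
    rw [h1, map_mul, map_smul, Algebra.smul_def, ← mul_assoc,
      mul_comm _ (algebraMap A T (f i)), mul_assoc]
    exact Ideal.mul_mem_right _ _ (hf i)
  have he0 : e = 0 := by
    have hu : IsUnit (e * (-1) + 1) := Ideal.mem_jacobson_bot.mp hmem (-1)
    have : e * (e * (-1) + 1) = 0 := by
      have : e * (e * (-1) + 1) = -(e * e) + e := by ring
      rw [this, hidem]; ring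
    exact (hu.mul_left_eq_zero).mp this
  refine ⟨{ toFun := fun b => r (b, 0)
            map_one' := ?_
            map_mul' := ?_
            map_zero' := ?_
            map_add' := ?_
            commutes' := ?_ }⟩
  · have : ((1 : E), (0 : ∀ i, Localization.Away (f i))) = 1 - (0, 1) := by ext <;> simp
    rw [this, map_sub, map_one, ← he, he0, sub_zero]
  · intro x y
    rw [← map_mul]; congr 1; ext <;> simp
  · have : ((0 : E), (0 : ∀ i, Localization.Away (f i))) = 0 := rfl
    rw [this, map_zero]
  · intro x y
    rw [← map_add]; congr 1; ext <;> simp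
  · intro a
    have h1 : ((algebraMap A E a), (0 : ∀ i, Localization.Away (f i))) =
        a • (((1 : E), (0 : ∀ i, Localization.Away (f i)))) := by
      ext <;> simp [Algebra.smul_def]
    have h2 : ((1 : E), (0 : ∀ i, Localization.Away (f i))) = 1 - (0, 1) := by ext <;> simp
    change r (algebraMap A E a, 0) = algebraMap A T a
    rw [h1, map_smul, h2, map_sub, map_one, ← he, he0, sub_zero, Algebra.smul_def, mul_one]

end Retract

end Groth.Agent.Lib.Helper4.WEProd
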