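import Mathlib
import Groth.Prelude.Def_EtZar
import Groth.Prelude.Def_EtCore
import Groth.Agent.Lib.Helper4.SepClosedSite

/-!
# The Zariski site as a dense subsite of the small étale site (helper4)

If every étale map to `S` has Zariski-local sections through every point, `zarToEt S` is a dense
subsite, restriction `resZar S` is an equivalence, and étale and Zariski cohomology agree.
Also: `extPrecompIso`, `nonempty_addEquiv_ext` (Ext under equivalences of abelian categories with
enough injectives).
-/

set_option autoImplicit false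
open CategoryTheory CategoryTheory.Limits AlgebraicGeometry Opposite TopologicalSpace

universe w v u

namespace Groth.Agent.Lib.Helper4.ZarDense


open Groth.Agent.Lib.Helper4.SepClosedSite (mem_smallEtaleTopology_iff)

variable (S : Scheme.{u})

instance : (EtZar.zarToEt S).Faithful where
  map_injective := fun _ => Subsingleton.elim _ _

set_option backward.isDefEq.respectTransparency.types false in
theorem le_of_hom {W W' : S.Opens}
    (a : (EtZar.zarToEt S).obj W ⟶ (EtZar.zarToEt S).obj W') : W ≤ W' := by
  intro x hx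
  have h1 : a.left ≫ W'.ι = W.ι := MorphismProperty.Over.w a
  have h2 : W'.ι (a.left ⟨x, hx⟩) = W.ι ⟨x, hx⟩ := by
    rw [← h1]
    rfl
  have h3 : W.ι ⟨x, hx⟩ = x := rfl
  rw [h3] at h2
  rw [← h2]
  exact (a.left ⟨x, hx⟩).2

set_option backward.isDefEq.respectTransparency.types false in
instance : (EtZar.zarToEt S).Full where
  map_surjective := by
    intro W W' a
    refine ⟨homOfLE (le_of_hom S a), ?_⟩
    apply MorphismProperty.Over.Hom.ext
    have h1 : ((EtZar.zarToEt S).map (homOfLE (le_of_hom S a))).left ≫ W'.ι = a.left ≫ W'.ι :=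
      (S.homOfLE_ι (le_of_hom S a)).trans (MorphismProperty.Over.w a).symm
    exact (cancel_mono W'.ι).1 h1

set_option backward.isDefEq.respectTransparency.types false in
theorem isCoverDense (hL : ∀ (U : Scheme.{u}) (f : U ⟶ S) [Etale f] (u : U),
    ∃ (W : S.Opens) (hxW : f u ∈ W) (h : W.toScheme ⟶ U), h ≫ f = W.ι ∧ h ⟨f u, hxW⟩ = u) :
    (EtZar.zarToEt S).IsCoverDense S.smallEtaleTopology where
  is_cover U := by
    rw [mem_smallEtaleTopology_iff]
    intro u
    have : Etale U.hom := U.prop
    obtain ⟨W, hxW, h, hh, hu⟩ := hL U.left U.hom u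
    let s : (EtZar.zarToEt S).obj W ⟶ U := MorphismProperty.Over.homMk h hh trivial
    exact ⟨_, s, ⟨_, hxW⟩, ⟨⟨W, 𝟙 _, s, Category.id_comp _⟩⟩, hu⟩

set_option backward.isDefEq.respectTransparency.types false in
theorem functorPushforward_mem_iff {W : S.Opens} {R : Sieve W} :
    R.functorPushforward (EtZar.zarToEt S) ∈ S.smallEtaleTopology ((EtZar.zarToEt S).obj W) ↔
      R ∈ Opens.grothendieckTopology S W := by
  rw [mem_smallEtaleTopology_iff]
  constructor
  · intro h x hx
    obtain ⟨Y, f, y, ⟨V, g, k, hg, hfk⟩, hy⟩ := h ⟨x, hx⟩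
    refine ⟨V, g, hg, ?_⟩
    have h1 : f.left y = ((EtZar.zarToEt S).map g).left (k.left y) := by
      rw [hfk]
      rfl
    have h2 : (f.left y).1 = x := by rw [hy]
    rw [h1] at h2
    have h3 : (((EtZar.zarToEt S).map g).left (k.left y)).1 = (k.left y).1 :=
      Scheme.homOfLE_apply g.le _
    rw [← h2, h3]
    exact (k.left y).2
  · intro h p
    obtain ⟨V, g, hg, hxV⟩ := h p.1 p.2
    refine ⟨(EtZar.zarToEt S).obj V, (EtZar.zarToEt S).map g, ⟨p.1, hxV⟩,
      Sieve.image_mem_functorPushforward _ _ hg, ?_⟩
    exact Subtype.ext (Scheme.homOfLE_apply g.le _)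

theorem isDenseSubsite (hL : ∀ (U : Scheme.{u}) (f : U ⟶ S) [Etale f] (u : U),
    ∃ (W : S.Opens) (hxW : f u ∈ W) (h : W.toScheme ⟶ U), h ≫ f = W.ι ∧ h ⟨f u, hxW⟩ = u) :
    (EtZar.zarToEt S).IsDenseSubsite (Opens.grothendieckTopology S) S.smallEtaleTopology where
  isCoverDense' := isCoverDense S hL
  functorPushforward_mem_iff := functorPushforward_mem_iff S



open Abelian

/-- `Ext` only depends on the isomorphism class of the first variable -/
noncomputable def extPrecompIso {C : Type u} [Category.{v} C] [Abelian C] [HasExt.{w} C]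
    {X X' Y : C} (e : X ≅ X') (n : ℕ) : Ext.{w} X Y n ≃+ Ext.{w} X' Y n where
  toFun x := (Ext.mk₀ e.inv).comp x (zero_add n)
  invFun x := (Ext.mk₀ e.hom).comp x (zero_add n)
  left_inv x := by simp
  right_inv x := by simp
  map_add' x y := Ext.comp_add _ _ _ _

/-- an equivalence of abelian categories with enough injectives induces isomorphisms on `Ext` -/
theorem nonempty_addEquiv_ext {C : Type u} [Category.{v} C] [Abelian C] [HasExt.{w} C]
    {D : Type u} [Category.{v} D] [Abelian D] [HasExt.{w} D] [EnoughInjectives C]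
    (E : C ⥤ D) [E.IsEquivalence] [E.Additive] (X Y : C) (n : ℕ) :
    Nonempty (Ext.{w} X Y n ≃+ Ext.{w} (E.obj X) (E.obj Y) n) := by
  have : E.PreservesInjectiveObjects :=
    Functor.preservesInjectiveObjects_of_adjunction_of_preservesMonomorphisms
      (E.asEquivalence.symm.toAdjunction)
  exact ⟨AddEquiv.ofBijective (E.mapExtAddHom X Y n)
    (E.mapExt_bijective_of_preservesInjectiveObjects X Y n)⟩




set_option backward.isDefEq.respectTransparency.types false in
/-- the whole space, as an étale `S`-scheme, is terminal -/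
noncomputable def zarTopIsTerminal : IsTerminal ((EtZar.zarToEt S).obj ⊤) :=
  IsTerminal.ofUniqueHom
    (fun V => MorphismProperty.Over.homMk (V.hom ≫ S.topIso.inv)
      (by rw [Category.assoc]; exact (congrArg (V.hom ≫ ·) S.toIso_inv_ι).trans (Category.comp_id _))
      trivial)
    (fun V m => by
      apply MorphismProperty.Over.Hom.ext
      have h1 : m.left ≫ Scheme.Opens.ι (⊤ : S.Opens) = V.hom := MorphismProperty.Over.w m
      have h2 : m.left = V.hom ≫ S.topIso.inv := by
        rw [← h1, Category.assoc]
        exact ((congrArg (m.left ≫ ·) S.ι_toIso_inv).trans (Category.comp_id _)).symm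
      exact h2)

variable [EtZar.ZarCont S]

/-- restriction to the Zariski site commutes with global sections -/
noncomputable def resZarCompSections :
    EtZar.resZar S ⋙ (sheafSections (Opens.grothendieckTopology S) AddCommGrpCat.{u + 1}).obj
      (op ⊤) ≅ (sheafSections S.smallEtaleTopology AddCommGrpCat.{u + 1}).obj
      (op ((EtZar.zarToEt S).obj ⊤)) :=
  NatIso.ofComponents (fun _ => Iso.refl _) (by intros; simp; rfl)

/-- if restriction to the Zariski site is an equivalence it sends constant sheaves to constant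
sheaves -/
noncomputable def resZarConstIso [(EtZar.resZar S).IsEquivalence] (M : AddCommGrpCat.{u + 1}) :
    (EtZar.resZar S).obj ((constantSheaf S.smallEtaleTopology AddCommGrpCat.{u + 1}).obj M) ≅
      (constantSheaf (Opens.grothendieckTopology S) AddCommGrpCat.{u + 1}).obj M := by
  let E := EtZar.resZar S
  let adjA := constantSheafAdj S.smallEtaleTopology AddCommGrpCat.{u + 1} (zarTopIsTerminal S)
  let adj1 := constantSheafAdj (Opens.grothendieckTopology S) AddCommGrpCat.{u + 1}
    (isTerminalTop : IsTerminal (⊤ : S.Opens))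
  let adjB := adj1.comp E.asEquivalence.symm.toAdjunction
  let adjB' := adjB.ofNatIsoRight (resZarCompSections S)
  let i1 : constantSheaf S.smallEtaleTopology AddCommGrpCat.{u + 1} ≅
      constantSheaf (Opens.grothendieckTopology S) AddCommGrpCat.{u + 1} ⋙ E.inv :=
    adjA.leftAdjointUniq adjB'
  exact E.mapIso (i1.app M) ≪≫ E.asEquivalence.counitIso.app _


/-- étale and Zariski cohomology agree when étale maps have Zariski-local sections -/
theorem nonempty_addEquiv_H (hL : ∀ (U : Scheme.{u}) (f : U ⟶ S) [Etale f] (u : U),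
    ∃ (W : S.Opens) (hxW : f u ∈ W) (h : W.toScheme ⟶ U), h ≫ f = W.ι ∧ h ⟨f u, hxW⟩ = u)
    (F : EtCoh.Ab S) (i : ℕ) :
    Nonempty (EtCoh.H S F i ≃+ EtZar.H ((EtZar.resZar S).obj F) i) := by
  have := isDenseSubsite S hL
  have : (EtZar.resZar S).IsEquivalence := inferInstance
  have : (EtZar.resZar S).Additive := Functor.additive_of_preserves_binary_products _
  obtain ⟨e1⟩ := nonempty_addEquiv_ext.{u + 1} (EtZar.resZar S)
    ((constantSheaf S.smallEtaleTopology AddCommGrpCat.{u + 1}).obj
      (AddCommGrpCat.of (ULift ℤ))) F i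
  exact ⟨e1.trans (extPrecompIso (resZarConstIso S _) i)⟩

end Groth.Agent.Lib.Helper4.ZarDense
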