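import Mathlib
import Groth.Prelude.Def_EtZar
import Groth.Prelude.Def_EtCore
import Groth.Agent.Lib.Helper4.ZarDense
import Groth.Agent.Lib.Helper1.LanFlat
import Mathlib.Algebra.Category.Grp.FilteredColimits

set_option autoImplicit false
open CategoryTheory CategoryTheory.Limits AlgebraicGeometry Opposite TopologicalSpace

universe u

namespace Groth.Agent.Lib.Helper4.ZarPull

open Groth.Agent.Lib.Helper4.ZarDense

variable (S : Scheme.{u})

set_option backward.isDefEq.respectTransparency.types false in
/-- an étale `S`-scheme maps to the open subscheme `U` as soon as its image lies in `U` -/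
noncomputable def toOpen (V : S.Etale) (U : S.Opens) (h : Set.range V.hom ⊆ (U : Set S)) :
    V ⟶ (EtZar.zarToEt S).obj U := by
  have hr : Set.range V.hom ⊆ Set.range U.ι := by
    have := Scheme.Opens.range_ι U
    rw [this]
    exact h
  let l : V.left ⟶ U.toScheme := IsOpenImmersion.lift U.ι V.hom hr
  have hl : l ≫ U.ι = V.hom := IsOpenImmersion.lift_fac _ _ _
  exact MorphismProperty.Over.homMk l hl trivial

set_option backward.isDefEq.respectTransparency.types false in
theorem range_subset_of_hom (V : S.Etale) (U : S.Opens) (f : V ⟶ (EtZar.zarToEt S).obj U) :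
    Set.range V.hom ⊆ (U : Set S) := by
  rintro _ ⟨v, rfl⟩
  have h1 : f.left ≫ U.ι = V.hom := MorphismProperty.Over.w f
  rw [← h1]
  exact (f.left v).2

set_option backward.isDefEq.respectTransparency.types false in
theorem hom_subsingleton (V : S.Etale) (U : S.Opens) : Subsingleton (V ⟶ (EtZar.zarToEt S).obj U) := by
  constructor
  intro a b
  apply MorphismProperty.Over.Hom.ext
  have h1 : a.left ≫ U.ι = V.hom := MorphismProperty.Over.w a
  have h2 : b.left ≫ U.ι = V.hom := MorphismProperty.Over.w b
  exact (cancel_mono U.ι).1 (h1.trans h2.symm)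

instance representablyFlat : RepresentablyFlat (EtZar.zarToEt S) := by
  constructor
  intro V
  have hthin : ∀ (a b : StructuredArrow V (EtZar.zarToEt S)) (f g : a ⟶ b), f = g := by
    intro a b f g
    apply StructuredArrow.hom_ext
    exact Subsingleton.elim _ _
  have hmk : ∀ (a b : StructuredArrow V (EtZar.zarToEt S)), a.right ≤ b.right → Nonempty (a ⟶ b) := by
    intro a b hle
    have := hom_subsingleton S V b.right
    exact ⟨StructuredArrow.homMk (homOfLE hle) (Subsingleton.elim _ _)⟩
  refine { cone_objs := ?_, cone_maps := ?_, nonempty := ?_ }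
  · intro a b
    let c : StructuredArrow V (EtZar.zarToEt S) :=
      StructuredArrow.mk (toOpen S V (a.right ⊓ b.right) (by
        intro x hx
        exact ⟨range_subset_of_hom S V a.right a.hom hx, range_subset_of_hom S V b.right b.hom hx⟩))
    obtain ⟨f⟩ := hmk c a inf_le_left
    obtain ⟨g⟩ := hmk c b inf_le_right
    exact ⟨c, f, g, trivial⟩
  · intro a b f g
    exact ⟨a, 𝟙 a, by rw [hthin a b f g]⟩
  · exact ⟨StructuredArrow.mk (toOpen S V ⊤ (fun _ _ => trivial))⟩

variable [EtZar.ZarCont S]

/-- pullback of abelian sheaves from the Zariski site to the étale site -/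
noncomputable abbrev zarPull : EtZar.Ab S ⥤ EtCoh.Ab S :=
  (EtZar.zarToEt S).sheafPullback AddCommGrpCat.{u + 1} (Opens.grothendieckTopology S)
    S.smallEtaleTopology

/-- the adjunction between pullback and restriction -/
noncomputable abbrev zarAdj : zarPull S ⊣ EtZar.resZar S :=
  (EtZar.zarToEt S).sheafAdjunctionContinuous AddCommGrpCat.{u + 1} (Opens.grothendieckTopology S)
    S.smallEtaleTopology

attribute [local instance] CategoryTheory.Limits.reflectsLimits_of_reflectsIsomorphisms in
set_option backward.isDefEq.respectTransparency.types false in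
theorem preservesFiniteLimits_zarPull : PreservesFiniteLimits (zarPull S) := by
  haveI : PreservesFilteredColimitsOfSize.{u, u} (forget AddCommGrpCat.{u + 1}) :=
    preservesFilteredColimitsOfSize_shrink.{u, u + 1, u, u + 1} _
  haveI : ∀ V : (S.Etale)ᵒᵖ, IsFiltered (CostructuredArrow (EtZar.zarToEt S).op V) := fun V =>
    IsFiltered.of_equivalence (structuredArrowOpEquivalence (EtZar.zarToEt S) (unop V))
  haveI : ∀ V : (S.Etale)ᵒᵖ, PreservesColimitsOfShape (CostructuredArrow (EtZar.zarToEt S).op V)
      (forget AddCommGrpCat.{u + 1}) := fun V =>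
    PreservesFilteredColimitsOfSize.preserves_filtered_colimits _
  haveI : PreservesFiniteLimits ((EtZar.zarToEt S).op.lan :
      ((S.Opens)ᵒᵖ ⥤ AddCommGrpCat.{u + 1}) ⥤ ((S.Etale)ᵒᵖ ⥤ AddCommGrpCat.{u + 1})) :=
    Groth.Agent.Lib.Helper1.LanFlat.lan_preservesFiniteLimits_of_flat
      (E := AddCommGrpCat.{u + 1}) (EtZar.zarToEt S)
  exact Functor.sheafPullbackConstruction.preservesFiniteLimits (EtZar.zarToEt S)
    AddCommGrpCat.{u + 1} (Opens.grothendieckTopology S) S.smallEtaleTopology

end Groth.Agent.Lib.Helper4.ZarPull
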