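import Mathlib
import Groth.Agent.Lib.Helper4.ZarPull
import Groth.Agent.Lib.Helper47.EtRestr
import Groth.Agent.S0101
import Groth.Agent.Lib.Helper47.ExtAdjShift

set_option autoImplicit false
open CategoryTheory CategoryTheory.Limits AlgebraicGeometry Opposite TopologicalSpace CategoryTheory.Abelian

universe u

namespace Groth.Agent.Lib.Helper4.ZarAcyc

/-- global sections are right exact on a short exact sequence whose kernel has no `H^1` -/
theorem surjective_gsec_of_H1 {X : Scheme.{u}} {Sh : ShortComplex (EtCoh.Ab X)} (hS : Sh.ShortExact)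
    (h1 : Subsingleton (EtCoh.H X Sh.X₁ 1)) :
    Function.Surjective (Sh.g.hom.app (op (EtCoh.top X))) := by
  intro c
  let hT := EtCore.topIsTerminal X
  let x₃ : EtCoh.H X Sh.X₃ 0 := (Sheaf.H.equiv₀ Sh.X₃ hT).symm c
  obtain ⟨x₂, hx₂⟩ := Ext.covariant_sequence_exact₃ _ hS x₃ (rfl : 0 + 1 = 1)
    (Subsingleton.elim _ _)
  refine ⟨Sheaf.H.equiv₀ Sh.X₂ hT x₂, ?_⟩
  rw [Sheaf.H.equiv₀_naturality, Sheaf.H.map_apply, hx₂]
  exact (Sheaf.H.equiv₀ Sh.X₃ hT).apply_symm_apply c

variable (S : Scheme.{u})

/-- étale-acyclic on affine étale schemes -/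
def Acy (G : EtCoh.Ab S) : Prop :=
  ∀ (T : S.Etale), IsAffine T.left → ∀ i : ℕ, 1 ≤ i →
    Subsingleton (EtCoh.H T.left ((EtCoh.pull T.hom).obj G) i)

set_option backward.isDefEq.respectTransparency.types false in
/-- `T` as the image of the terminal object of its own étale site -/
noncomputable def isoT (T : S.Etale) :
    have : Etale T.hom := T.prop
    (EtShriek.compEtale T.hom).obj (EtCoh.top T.left) ≅ T :=
  have : Etale T.hom := T.prop
  MorphismProperty.Over.isoMk (Iso.refl _) (by
    change 𝟙 _ ≫ T.hom = 𝟙 _ ≫ T.hom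
    rfl)

set_option backward.isDefEq.respectTransparency.types false in
/-- sections over `T` are global sections of the restriction to `T` -/
noncomputable def sectIso (T : S.Etale) :
    EtCoh.pull T.hom ⋙ EtCore.gsec T.left ≅
      (sheafSections S.smallEtaleTopology AddCommGrpCat.{u + 1}).obj (op T) :=
  have : Etale T.hom := T.prop
  Functor.isoWhiskerRight (Groth.Agent.Lib.Helper47.EtRestr.pullIsoRestr T.hom) (EtCore.gsec T.left) ≪≫
    NatIso.ofComponents (fun F => F.obj.mapIso (isoT S T).symm.op) (by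
      intro F G φ
      exact (φ.hom.naturality (isoT S T).inv.op).symm)

/-- sections over an affine étale `T` are right exact on a short exact sequence with acyclic kernel -/
theorem surjective_app {Sh : ShortComplex (EtCoh.Ab S)} (hS : Sh.ShortExact) (h : Acy S Sh.X₁)
    (T : S.Etale) (hT : IsAffine T.left) : Function.Surjective (Sh.g.hom.app (op T)) := by
  have : Etale T.hom := T.prop
  let j : T.left ⟶ S := T.hom
  have hpl : PreservesFiniteLimits (EtCoh.pull j) := Groth.Agent.S0101.result _
  have hST : (Sh.map (EtCoh.pull j)).ShortExact := hS.map_of_exact _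
  have h1 := surjective_gsec_of_H1 hST (h T hT 1 le_rfl)
  have hepi : Epi ((EtCoh.pull T.hom ⋙ EtCore.gsec T.left).map Sh.g) :=
    (AddCommGrpCat.epi_iff_surjective _).2 h1
  have hnat := (sectIso S T).hom.naturality Sh.g
  have h2 : ((sheafSections S.smallEtaleTopology AddCommGrpCat.{u + 1}).obj (op T)).map Sh.g =
      (sectIso S T).inv.app _ ≫ (EtCoh.pull T.hom ⋙ EtCore.gsec T.left).map Sh.g ≫
        (sectIso S T).hom.app _ := by
    rw [hnat, Iso.inv_hom_id_app_assoc]
  have h3 : Epi (((sheafSections S.smallEtaleTopology AddCommGrpCat.{u + 1}).obj (op T)).map Sh.g) := by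
    rw [h2]
    infer_instance
  exact (AddCommGrpCat.epi_iff_surjective _).1 h3

/-- the cokernel of an embedding of an acyclic sheaf into an injective one is acyclic -/
theorem acy_X₃ {Sh : ShortComplex (EtCoh.Ab S)} (hS : Sh.ShortExact) [Injective Sh.X₂]
    (h : Acy S Sh.X₁) : Acy S Sh.X₃ := by
  intro T hT i hi
  have : Etale T.hom := T.prop
  let j : T.left ⟶ S := T.hom
  have hpl : PreservesFiniteLimits (EtCoh.pull j) := Groth.Agent.S0101.result _
  have hST : (Sh.map (EtCoh.pull j)).ShortExact := hS.map_of_exact _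
  have hinj : Injective (Sh.map (EtCoh.pull j)).X₂ :=
    Groth.Agent.Lib.Helper47.EtRestr.injective_pull j Sh.X₂
  have h1 : Subsingleton (EtCoh.H T.left (Sh.map (EtCoh.pull j)).X₁ (i + 1)) :=
    h T hT (i + 1) (by omega)
  obtain ⟨n, rfl⟩ : ∃ n, i = n + 1 := ⟨i - 1, by omega⟩
  have hz : ∀ x : EtCoh.H T.left ((EtCoh.pull j).obj Sh.X₃) (n + 1), x = 0 := by
    intro x
    have hx3 : x.comp hST.extClass (rfl : n + 1 + 1 = n + 1 + 1) = 0 := Subsingleton.elim _ _
    obtain ⟨x₂, hx₂⟩ := Ext.covariant_sequence_exact₃ _ hST x (rfl : n + 1 + 1 = n + 1 + 1) hx3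
    have hx0 : x₂ = 0 := Ext.eq_zero_of_injective x₂
    rw [← hx₂, hx0]
    exact Ext.zero_comp _ _ (Ext.mk₀ (Sh.map (EtCoh.pull j)).g) _ (add_zero (n + 1))
  exact ⟨fun x y => (hz x).trans (hz y).symm⟩

variable [EtZar.ZarCont S]

open Groth.Agent.Lib.Helper4.ZarPull

/-- restriction to the Zariski site of the epimorphism of a short exact sequence with acyclic
kernel is an epimorphism -/
theorem epi_resZar_map {Sh : ShortComplex (EtCoh.Ab S)} (hS : Sh.ShortExact) (h : Acy S Sh.X₁) :
    Epi ((EtZar.resZar S).map Sh.g) := by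
  have hls : Sheaf.IsLocallySurjective ((EtZar.resZar S).map Sh.g) := by
    constructor
    intro U s x hx
    obtain ⟨W', hW', hxW', hle⟩ :=
      (Opens.isBasis_iff_nbhd.mp S.isBasis_affineOpens) (show x ∈ U from hx)
    obtain ⟨W, hW, hxW, hWU⟩ : ∃ W : S.Opens, IsAffineOpen W ∧ x ∈ W ∧ W ≤ U :=
      ⟨W', hW', hxW', hle⟩
    refine ⟨W, homOfLE hWU, ?_, hxW⟩
    have hT : IsAffine ((EtZar.zarToEt S).obj W).left := hW
    obtain ⟨t, ht⟩ := surjective_app S hS h ((EtZar.zarToEt S).obj W) hT
      (Sh.X₃.obj.map ((EtZar.zarToEt S).map (homOfLE hWU)).op s)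
    exact ⟨t, ht⟩
  exact Sheaf.epi_of_isLocallySurjective _

theorem preservesFiniteLimits_resZar : PreservesFiniteLimits (EtZar.resZar S) := by
  have : (EtZar.resZar S).IsRightAdjoint := (zarAdj S).isRightAdjoint
  infer_instance

theorem injective_resZar (I : EtCoh.Ab S) [Injective I] :
    Injective ((EtZar.resZar S).obj I) := by
  have := preservesFiniteLimits_zarPull S
  exact Injective.injective_of_adjoint (zarAdj S) I

instance additive_resZar : (EtZar.resZar S).Additive :=
  have := preservesFiniteLimits_resZar S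
  Functor.additive_of_preserves_binary_products _

theorem shortExact_map_resZar {Sh : ShortComplex (EtCoh.Ab S)} (hS : Sh.ShortExact)
    (h : Acy S Sh.X₁) : (Sh.map (EtZar.resZar S)).ShortExact := by
  have hlim := preservesFiniteLimits_resZar S
  have hlex := ((Functor.preservesFiniteLimits_tfae (EtZar.resZar S)).out 3 0).1 hlim
  obtain ⟨hex, hmono⟩ := hlex Sh hS
  exact { exact := hex, mono_f := hmono, epi_g := epi_resZar_map S hS h }

open Groth.Agent.Lib.Helper47.ExtAdjShift in
/-- Zariski cohomology of the restriction of a sheaf which is étale-acyclic on affines vanishes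
in positive degrees (on an affine scheme) -/
theorem subsingleton_H_resZar [IsAffine S] : ∀ (n : ℕ) (G : EtCoh.Ab S), Acy S G →
    Subsingleton (EtZar.H ((EtZar.resZar S).obj G) (n + 1)) := by
  intro n
  induction n with
  | zero =>
    intro G hG
    have hS := SI_shortExact G
    have hRS := shortExact_map_resZar S hS hG
    have hinj : Injective ((SI G).map (EtZar.resZar S)).X₂ := injective_resZar S (SI G).X₂
    have hz : ∀ x : EtZar.H ((EtZar.resZar S).obj G) 1, x = 0 := by
      intro x
      obtain ⟨y, rfl⟩ := Ext.covariant_sequence_exact₁ _ hRS x (Ext.eq_zero_of_injective _)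
        (rfl : 0 + 1 = 1)
      have hT : IsAffine ((EtZar.zarToEt S).obj ⊤).left := isAffineOpen_top S
      have hsurj := surjective_app S hS hG ((EtZar.zarToEt S).obj ⊤) hT
      let hTop : IsTerminal (⊤ : S.Opens) := isTerminalTop
      obtain ⟨b, hb⟩ := hsurj (Sheaf.H.equiv₀ ((SI G).map (EtZar.resZar S)).X₃ hTop y)
      let y' : EtZar.H ((SI G).map (EtZar.resZar S)).X₂ 0 :=
        (Sheaf.H.equiv₀ ((SI G).map (EtZar.resZar S)).X₂ hTop).symm b
      have hy : y = y'.comp (Ext.mk₀ ((SI G).map (EtZar.resZar S)).g) (add_zero 0) := by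
        apply (Sheaf.H.equiv₀ ((SI G).map (EtZar.resZar S)).X₃ hTop).injective
        rw [← Sheaf.H.map_apply, ← Sheaf.H.equiv₀_naturality]
        rw [← hb]
        congr 1
        exact ((Sheaf.H.equiv₀ ((SI G).map (EtZar.resZar S)).X₂ hTop).apply_symm_apply b).symm
      rw [hy, Ext.comp_assoc_of_second_deg_zero, hRS.comp_extClass]
      exact Ext.comp_zero _ _ _ _ _
    exact ⟨fun x y => (hz x).trans (hz y).symm⟩
  | succ n ih =>
    intro G hG
    have hS := SI_shortExact G
    have hRS := shortExact_map_resZar S hS hG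
    have hinj : Injective ((SI G).map (EtZar.resZar S)).X₂ := injective_resZar S (SI G).X₂
    have hQ : Acy S (SI G).X₃ := acy_X₃ S hS hG
    have ihQ : Subsingleton (EtZar.H ((SI G).map (EtZar.resZar S)).X₃ (n + 1)) := ih (SI G).X₃ hQ
    have hz : ∀ x : EtZar.H ((EtZar.resZar S).obj G) (n + 1 + 1), x = 0 := by
      intro x
      obtain ⟨y, rfl⟩ := Ext.covariant_sequence_exact₁ _ hRS x (Ext.eq_zero_of_injective _)
        (rfl : n + 1 + 1 = n + 1 + 1)
      rw [Subsingleton.elim y 0]
      exact Ext.zero_comp _ _ _ _ _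
    exact ⟨fun x y => (hz x).trans (hz y).symm⟩

end Groth.Agent.Lib.Helper4.ZarAcyc
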